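import Cfsg.Agent.SU5.K1
import Cfsg.Agent.Chev.MultSU
import Cfsg.Agent.Class.Zsigmondy
import Cfsg.Agent.Solv.Schur2

/-!
# Lifting to perfect central extensions and a Zsigmondy prime
-/

set_option autoImplicit false
set_option linter.unusedSectionVars false

namespace Cfsg.Lib.SU5

open Subgroup Module Cfsg.Lib.Trans Cfsg.Lib.Gold Cfsg.Lib.Class.Form Cfsg.Lib.Class.FAut
open scoped commutatorElement

variable {E M : Type*} [Field E] [Finite E] [AddCommGroup M] [Module E M] [FiniteDimensional E M]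
  {σ : E →+* E} {B : M →ₛₗ[σ] M →ₗ[E] E}

namespace LIFT

theorem two_cases : ∀ x : ZMod 2, x ≠ 0 → x = 1 := by decide

theorem not_dvd {q r j : ℕ} (hr : r.Prime) (hq : 1 ≤ q) (hj : Odd j) (h0 : 1 < j)
    (ho : orderOf (q : ZMod r) = j) (m : ℕ) (hm : m < 2 * j) : ¬ r ∣ guOrder q m := by
  have := Fact.mk hr
  have q0 : (q : ZMod r) ≠ 0 := fun e => by
    rw [e, orderOf_zero] at ho; omega
  have rq : ∀ n, ¬ r ∣ q ^ n := fun n k =>
    q0 ((ZMod.natCast_eq_zero_iff _ _).2 (hr.dvd_of_dvd_pow k))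
  induction m with
  | zero => rw [guOrder_zero]; exact hr.not_dvd_one
  | succ n ih =>
    rw [guOrder_succ]
    intro k
    rcases (Nat.Prime.dvd_mul hr).1 k with k | k
    · split_ifs at k with he
      · rcases (Nat.Prime.dvd_mul hr).1 k with k | k
        · exact rq _ k
        · have k1 : (q : ZMod r) ^ (n + 1) = 1 := by
            have := (ZMod.natCast_eq_zero_iff _ _).2 k
            rw [Nat.cast_sub (Nat.one_le_pow _ _ hq)] at this
            push_cast at this
            exact sub_eq_zero.1 this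
          have k2 := orderOf_dvd_of_pow_eq_one k1
          rw [ho] at k2
          have k3 : 2 * j ∣ n + 1 :=
            Nat.Coprime.mul_dvd_of_dvd_of_dvd (Nat.coprime_two_left.2 hj) he.two_dvd k2
          have := Nat.le_of_dvd (by omega) k3
          omega
      · rcases (Nat.Prime.dvd_mul hr).1 k with k | k
        · exact rq _ k
        · have k1 : (q : ZMod r) ^ (n + 1) = -1 := by
            have := (ZMod.natCast_eq_zero_iff _ _).2 k
            push_cast at this
            exact eq_neg_of_add_eq_zero_left this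
          have k2 : j ∣ 2 * (n + 1) := by
            rw [← ho]
            exact orderOf_dvd_of_pow_eq_one (by rw [pow_mul', k1]; simp)
          have k3 : j ∣ n + 1 := (Nat.coprime_two_right.2 hj).dvd_of_dvd_mul_left k2
          have k4 : (q : ZMod r) ^ (n + 1) = 1 := by
            rw [← ho] at k3; exact orderOf_dvd_iff_pow_eq_one.1 k3
          have k5 : ((2 : ℕ) : ZMod r) = 0 := by
            push_cast; linear_combination k1 - k4
          have k6 : r = 2 :=
            (Nat.prime_dvd_prime_iff_eq hr Nat.prime_two).1 ((ZMod.natCast_eq_zero_iff _ _).1 k5)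
          subst k6
          have k7 : (q : ZMod 2) = 1 := two_cases _ q0
          rw [k7, orderOf_one] at ho
          omega
    · exact ih (by omega) k

end LIFT

theorem Mo.lift (h : Mo B) {H : Type*} [Group H] [Finite H] (π : H →* PG B)
    (hs : Function.Surjective π) (hk : π.ker ≤ center H) (hp : commutator H = ⊤) :
    ∃ ψ : sIsom B →* H, Function.Surjective ψ ∧ ∀ g : sIsom B, π (ψ g) = (g : PG B) := by
  classical
  have := Fintype.ofFinite E
  have hF : Fintype.card E = qn σ ^ 2 := by rw [← Nat.card_eq_fintype_card, h.card_E]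
  obtain ⟨e⟩ := h.toHerm.nonempty_sIsom_equiv_SU hF rfl
  have h6 := h.ge5
  have hm := Chev.multiplier_SU hF (n := finrank E M) (by omega) (by omega)
    (fun _ => ⟨by omega, by rw [h.five]; omega⟩)
  have hP : Group.IsPerfect (sIsom B) := ⟨h.perf⟩
  have hP' : Group.IsPerfect (SU (finrank E M) E (qn σ)) :=
    Group.IsPerfect.ofSurjective (f := e.toMonoidHom) e.surjective
  obtain ⟨η, hη⟩ := Solv.exists_lift_of_trivial hP' hm
    ((QuotientGroup.mk' (center (sIsom B))).comp e.symm.toMonoidHom) π (fun g => hs _) hk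
  have key : ∀ g : sIsom B, π (η (e g)) = (g : PG B) := fun g => by
    have := DFunLike.congr_fun hη (e g)
    simpa using this
  refine ⟨η.comp e.toMonoidHom, ?_, key⟩
  set ψ := η.comp e.toMonoidHom with hψ
  have dec : ∀ x : H, ∃ g, ∃ z ∈ center H, x = ψ g * z := fun x => by
    obtain ⟨g, hg⟩ := QuotientGroup.mk_surjective (π x)
    refine ⟨g, (ψ g)⁻¹ * x, hk ?_, by group⟩
    rw [MonoidHom.mem_ker, map_mul, map_inv, ← hg]
    exact inv_mul_eq_one.2 (key g)
  rw [← MonoidHom.range_eq_top, eq_top_iff, ← hp, commutator_def, commutator_le]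
  intro a _ b _
  obtain ⟨g, z, hz, rfl⟩ := dec a
  obtain ⟨g', z', hz', rfl⟩ := dec b
  refine ⟨⁅g, g'⁆, ?_⟩
  rw [map_commutatorElement, commutatorElement_def, commutatorElement_def]
  have c1 := mem_center_iff.1 hz
  have c2 := mem_center_iff.1 hz'
  calc ψ g * ψ g' * (ψ g)⁻¹ * (ψ g')⁻¹
      = ψ g * (ψ g' * z) * ((z⁻¹ * (ψ g)⁻¹) * z') * z'⁻¹ * (ψ g')⁻¹ := by group
    _ = _ := by rw [c1 (ψ g'), c2 (z⁻¹ * (ψ g)⁻¹)]; group

theorem Mo.zs (h : Mo B) : ∃ r j : ℕ, r.Prime ∧ 2 < j ∧ j ≤ finrank E M ∧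
    orderOf (qn σ : ZMod r) = j ∧ ¬ r ∣ Nat.card (sIsom B) := by
  classical
  have := Fintype.ofFinite E
  have hF : Fintype.card E = qn σ ^ 2 := by rw [← Nat.card_eq_fintype_card, h.card_E]
  have h6 := h.ge5
  have h2 := h.two_le
  obtain ⟨j, hj, h3, hle, hlt⟩ : ∃ j, Odd j ∧ 2 < j ∧ j ≤ finrank E M ∧ finrank E M < 2 * j :=
    ⟨2 * ((finrank E M - 1) / 2) + 1, ⟨_, rfl⟩, by omega, by omega, by omega⟩
  have hj' := Nat.odd_iff.1 hj
  obtain ⟨r, hr, ho⟩ := Class.zsigmondy (a := qn σ) (n := j) (by omega) (by omega) (by omega)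
    (by omega)
  refine ⟨r, j, hr, h3, hle, ho, fun k => LIFT.not_dvd hr (by omega) hj (by omega) ho _ hlt ?_⟩
  rw [← h.toHerm.card_sIsom hF rfl (by omega)]
  exact k.mul_left _

end Cfsg.Lib.SU5
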