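import Cfsg.Agent.SU5.A2A
import Cfsg.Prelude.Def_CaseTheorems

/-!
# Standard subgroups of type `U_m(2ⁿ)`: transfer along the covering homomorphism
-/

set_option autoImplicit false
set_option linter.unusedSectionVars false
set_option linter.unusedVariables false

namespace Cfsg.Lib.SU5

open Subgroup Module Cfsg.Lib.Trans Cfsg.Lib.Gold Cfsg.Lib.Class.Form Cfsg.Lib.Class.FAut
open Cfsg.Lib.Comp (Tw)
open scoped commutatorElement

namespace KIT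

variable {G H : Type*} [Group G] [Group H]

theorem tw_odd {a : G} (ha : Tw a) (ho : Odd (orderOf a)) : a = 1 := by
  obtain ⟨k, hk⟩ := ha
  exact orderOf_eq_one_iff.1 (Nat.Coprime.eq_one_of_dvd
    (Nat.Coprime.pow_right k (Nat.coprime_two_right.2 ho)) (orderOf_dvd_of_pow_eq_one hk))

theorem tw_map {a : G} (ha : Tw a) {F : Type*} [FunLike F G H] [MonoidHomClass F G H] (f : F) :
    Tw (f a) := by
  obtain ⟨k, hk⟩ := ha
  exact ⟨k, by rw [← map_pow, hk, map_one]⟩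

theorem tw_inv {a : G} (ha : Tw a) : Tw a⁻¹ := by
  obtain ⟨k, hk⟩ := ha
  exact ⟨k, by rw [inv_pow, hk, inv_one]⟩

theorem tw_mul {a b : G} (ha : Tw a) (hb : Tw b) (e : Commute a b) : Tw (a * b) := by
  obtain ⟨k, hk⟩ := ha
  obtain ⟨j, hj⟩ := hb
  exact ⟨k + j, by
    rw [e.mul_pow, pow_add, pow_mul, hk, mul_comm (2 ^ k), pow_mul, hj, one_pow, one_pow, one_mul]⟩

theorem tw_lift [Finite G] (f : G →* H) {a : G} (h : Tw (f a)) : ∃ n : ℕ, Tw (a ^ n) ∧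
    f (a ^ n) = f a := by
  obtain ⟨k, hk⟩ := h
  obtain ⟨j, m, hm, e⟩ := Nat.exists_eq_two_pow_mul_odd (orderOf_pos a).ne'
  obtain ⟨r, hr⟩ := exists_pow_eq_self_of_coprime (x := f a) (n := m)
    ((Nat.Coprime.pow_right k (Nat.coprime_two_right.2 hm)).coprime_dvd_right
      (orderOf_dvd_of_pow_eq_one hk))
  refine ⟨m * r, ⟨j, ?_⟩, by rw [map_pow, pow_mul, hr]⟩
  rw [← pow_mul, show m * r * 2 ^ j = 2 ^ j * m * r by ring, ← e, pow_mul, pow_orderOf_eq_one,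
    one_pow]

theorem mem_center {K : Subgroup G} {x : K} : x ∈ center K ↔ (x : G) ∈ Cs K := by
  rw [mem_center_iff, mem_Cs]
  exact ⟨fun h u hu => congrArg Subtype.val (h ⟨u, hu⟩), fun h u => Subtype.ext (h u u.2)⟩

theorem comm_le {A K : Subgroup G} (hA : A ≤ K) (k : ∀ x ∈ K, ∃ a ∈ A, a⁻¹ * x ∈ Cs K) :
    ⁅K, K⁆ ≤ ⁅A, A⁆ := by
  refine commutator_le.2 fun x hx y hy => ?_
  obtain ⟨a, ha, e1⟩ := k x hx
  obtain ⟨b, hb, e2⟩ := k y hy
  have c1 : ∀ x w z : G, w * z = z * w → ⁅x * z, w⁆ = ⁅x, w⁆ := fun x w z hz => by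
    rw [commutatorElement_def, commutatorElement_def, mul_assoc x z, ← hz]
    group
  rw [← mul_inv_cancel_left a x, c1 _ _ _ (mem_Cs.1 e1 y hy), ← mul_inv_cancel_left b y,
    ← commutatorElement_inv, c1 _ _ _ (mem_Cs.1 e2 a (hA ha)), commutatorElement_inv]
  exact commutator_mem_commutator ha hb

end KIT

variable {G E M : Type*} [Group G] [Finite G] [Field E] [Finite E] [AddCommGroup M] [Module E M]
  [FiniteDimensional E M] {σ : E →+* E} {B : M →ₛₗ[σ] M →ₗ[E] E} {φ φ' : sIsom B →* G} {t : G}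

theorem Mod.cx (h : Mod φ) (g : G) : Mod (cx φ g) :=
  ⟨h.toMo, fun a ha => h.ker (by
    rw [MonoidHom.mem_ker, cx_apply, mul_inv_eq_one, mul_eq_left] at ha
    exact ha)⟩

theorem Mod.re (h : Mod φ) (α : MulAut (sIsom B)) : Mod (re φ α) :=
  ⟨h.toMo, fun a ha => mem_center_iff.2 fun g => α.injective (by
    rw [map_mul, map_mul, mem_center_iff.1 (h.ker (x := α a) ha)])⟩

theorem Mod.inj2 (h : Mod φ) {a : sIsom B} (ha : Tw a) (e : φ a = 1) : a = 1 :=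
  KIT.tw_odd ha (h.odd_center (h.ker e))

theorem Mod.eq2 (h : Mod φ) {a b : sIsom B} (ha : Tw a) (hb : Tw b) (e : φ a = φ b) : a = b := by
  have h1 : φ (b⁻¹ * a) = 1 := by rw [map_mul, map_inv, e, inv_mul_cancel]
  have h2 := mem_center_iff.1 (h.ker (x := b⁻¹ * a) h1) b
  have h3 : Commute b⁻¹ a := by
    refine Commute.inv_left (mul_left_cancel (a := b⁻¹) ?_)
    rw [← mul_assoc b⁻¹ a, ← h2]; group
  exact (inv_mul_eq_one.1 (h.inj2 (KIT.tw_mul (KIT.tw_inv hb) ha h3) h1)).symm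

theorem Mod.comm2 (h : Mod φ) {a b : sIsom B} (ha : Tw a) (e : Commute (φ a) (φ b)) :
    Commute a b :=
  (mul_inv_eq_iff_eq_mul.1 (h.eq2 (ha.conj b) ha (by
    rw [map_mul, map_mul, map_inv, ← e.eq, mul_inv_cancel_right]))).symm

theorem Mod.lift2 (h : Mod φ) {x : G} (hx : x ∈ φ.range) (h2 : Tw x) : ∃ a, Tw a ∧ φ a = x := by
  obtain ⟨a, rfl⟩ := hx
  obtain ⟨n, h3, h4⟩ := KIT.tw_lift φ h2
  exact ⟨_, h3, h4⟩

theorem Mod.lift_inv (h : Mod φ) {x : G} (hx : x ∈ φ.range) (h2 : x * x = 1) :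
    ∃ a, a * a = 1 ∧ φ a = x := by
  obtain ⟨a, ha, rfl⟩ := h.lift2 hx (Tw.of_sq h2)
  exact ⟨a, h.inj2 (KIT.tw_mul ha ha (Commute.refl a)) (by rw [map_mul, h2]), rfl⟩

theorem Mod.liftS (h : Mod φ) {T : Subgroup G} (hT : IsPGroup 2 T) (hle : T ≤ φ.range) :
    ∃ T₀ : Subgroup (sIsom B), IsPGroup 2 T₀ ∧ T₀.map φ = T := by
  obtain ⟨T₀, h0⟩ := exists_isSylowIn (p := 2) (T.comap φ)
  have h1 := h0.map φ
  rw [map_comap_eq_self hle] at h1
  exact ⟨T₀, h0.isPGroup, (h1.eq_of_le hT h1.le le_rfl).symm⟩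

theorem Mod.card_map (h : Mod φ) {T : Subgroup (sIsom B)} (hT : IsPGroup 2 T) :
    Nat.card (T.map φ) = Nat.card T :=
  Nat.card_image_of_injOn (f := φ) (s := (T : Set (sIsom B))) fun _ ha _ hb e =>
    h.eq2 (Tw.of_mem hT ha) (Tw.of_mem hT hb) e

theorem Mod.liftE (h : Mod φ) {A : Subgroup G} (hA : ∀ a ∈ A, a * a = 1) (hle : A ≤ φ.range) :
    ∃ A₀ : Subgroup (sIsom B), (∀ a ∈ A₀, a * a = 1) ∧ A₀.map φ = A ∧
      Nat.card A₀ = Nat.card A := by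
  obtain ⟨A₀, h0, rfl⟩ := h.liftS (T := A)
    (fun a => ⟨1, Subtype.ext (by simpa [pow_two] using hA a a.2)⟩) hle
  exact ⟨A₀, fun a ha => h.inj2 (Tw.of_mem h0 (mul_mem ha ha))
    (by rw [map_mul, hA _ (mem_map_of_mem φ ha)]), rfl, (h.card_map h0).symm⟩

theorem Mod.mem_map2 (h : Mod φ) {T : Subgroup (sIsom B)} (hT : IsPGroup 2 T) {a : sIsom B}
    (ha : Tw a) (e : φ a ∈ T.map φ) : a ∈ T := by
  obtain ⟨b, hb, e⟩ := e
  exact h.eq2 (Tw.of_mem hT hb) ha e ▸ hb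

theorem Mod.syl_map (h : Mod φ) {U : Subgroup (sIsom B)} (hU : IsSylowIn 2 U ⊤) :
    IsSylowIn 2 (U.map φ) φ.range :=
  MonoidHom.range_eq_map φ ▸ hU.map φ

theorem Mod.perf (h : Mod φ) : ⁅φ.range, φ.range⁆ = φ.range := by
  rw [MonoidHom.range_eq_map, ← map_commutator, ← commutator_def, h.toMo.perf]

theorem Mod.mem_Cs (h : Mod φ) {a : sIsom B} : φ a ∈ Cs φ.range ↔ a ∈ center (sIsom B) := by
  refine ⟨fun k => mem_center_iff.2 fun g => ?_, fun k => Gold.mem_Cs.2 ?_⟩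
  · have := A1.ext_center h.toMo.perf (f := MonoidHom.id _) (f' := (MulAut.conj a).toMonoidHom)
      fun g => h.ker (by
        simp [← Gold.mem_Cs.1 k _ ⟨g, rfl⟩])
    exact eq_mul_inv_iff_mul_eq.1 (DFunLike.congr_fun this g)
  · rintro _ ⟨g, rfl⟩
    rw [← map_mul, mem_center_iff.1 k, map_mul]

theorem KIT.iso (h : Mod φ) {K : Subgroup G} (e : φ.range = K) :
    ∃ i : PG B ≃* (K ⧸ center K), ∀ g (hg : φ g ∈ K), i (g : PG B) = ((⟨φ g, hg⟩ : K) : K ⧸ center K) := by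
  subst e
  refine ⟨QuotientGroup.liftEquiv (center _)
    (φ := (QuotientGroup.mk' (center φ.range)).comp φ.rangeRestrict)
    ((QuotientGroup.mk'_surjective _).comp φ.rangeRestrict_surjective) ?_, fun _ _ => rfl⟩
  ext g
  rw [MonoidHom.mem_ker, MonoidHom.comp_apply, QuotientGroup.mk'_apply, QuotientGroup.eq_one_iff]
  exact h.mem_Cs.symm.trans (KIT.mem_center (x := φ.rangeRestrict g)).symm

theorem Mod.qs (h : Mod φ) : IsQuasisimple φ.range := by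
  have hP : Group.IsPerfect (sIsom B) := ⟨h.toMo.perf⟩
  obtain ⟨i, -⟩ := KIT.iso h rfl
  have h6 := h.ge5
  have : IsSimpleGroup (PG B) := h.toHerm.isSimpleGroup_quotient (by omega) (by omega)
  exact ⟨Group.IsPerfect.ofSurjective φ.rangeRestrict_surjective, i.symm.isSimpleGroup⟩

theorem Mod.odd_cent (h : Mod φ) {x : G} (h1 : x ∈ φ.range) (h2 : x ∈ Cs φ.range) :
    Odd (orderOf x) := by
  obtain ⟨a, rfl⟩ := h1
  exact (h.odd_center (h.mem_Cs.1 h2)).of_dvd_nat (orderOf_map_dvd φ a)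

theorem Mod.one_of (h : Mod φ) {x : G} (h1 : x ∈ φ.range) (h2 : x ∈ Cs φ.range) (h3 : Tw x) :
    x = 1 := KIT.tw_odd h3 (h.odd_cent h1 h2)

theorem Mod.eq_of_le (h : Mod φ) (h' : Mod φ') (e : φ.range ≤ φ'.range) :
    φ.range = φ'.range := by
  obtain ⟨i, -⟩ := KIT.iso h' rfl
  let f := (QuotientGroup.mk' (center φ'.range)).comp (φ.codRestrict φ'.range fun g => e ⟨g, rfl⟩)
  have h1 : f.ker ≤ center _ := fun g hg => h.mem_Cs.1 (Cs_anti e (KIT.mem_center.1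
    ((QuotientGroup.eq_one_iff _).1 hg)))
  have h2 : f.range = ⊤ := eq_top_of_le_card _ (by
    rw [← index_ker, ← Nat.card_congr i.toEquiv]
    exact index_antitone h1)
  refine le_antisymm e (h'.perf.ge.trans ((KIT.comm_le e fun x hx => ?_).trans h.perf.le))
  obtain ⟨g, hg⟩ := h2.ge (mem_top ((⟨x, hx⟩ : φ'.range) : φ'.range ⧸ center φ'.range))
  exact ⟨φ g, ⟨g, rfl⟩, KIT.mem_center.1 (QuotientGroup.eq.1 hg)⟩

theorem Mod.exists_Mp (h : Mod φ) (h' : Mod φ') {c : G} (e : cj c φ.range = φ'.range) :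
    ∃ α, Mp φ φ' c α := by
  rw [← range_cx] at e
  obtain ⟨i, hi⟩ := KIT.iso (h.cx c) e
  obtain ⟨i', hi'⟩ := KIT.iso h' rfl
  obtain ⟨α, hα⟩ := h.semi_PG (i.trans i'.symm)
  have := A1.ext_center h.toMo.perf (f := (SU5.cx φ c).codRestrict φ'.range fun g => e.le ⟨g, rfl⟩)
    (f' := φ'.rangeRestrict.comp α.toMonoidHom) fun g => QuotientGroup.eq.1 (by
      have := congrArg i' (hα g)
      rw [MulEquiv.trans_apply, MulEquiv.apply_symm_apply, hi g (e.le ⟨g, rfl⟩),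
        hi' _ ⟨_, rfl⟩] at this
      exact this)
  exact ⟨α, fun g => congrArg Subtype.val (DFunLike.congr_fun this g)⟩

theorem Mod.ind (h : Mod φ) {c : G} (e : c ∈ Ns φ.range) : ∃ α, Mp φ φ c α :=
  h.exists_Mp h (mem_Ns_iff.1 e)

theorem Mp.uniq (h' : Mod φ') {c : G} {α β : MulAut (sIsom B)} (k : Mp φ φ' c α)
    (k' : Mp φ φ' c β) : α = β := by
  have := A1.ext_center h'.toMo.perf (f := α.toMonoidHom) (f' := β.toMonoidHom) fun g =>
    h'.ker (by simp [(k g).symm.trans (k' g)])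
  exact MulEquiv.ext fun g => DFunLike.congr_fun this g

theorem Mp.tw (h : Mod φ) {c : G} {α : MulAut (sIsom B)} (k : Mp φ φ c α) (hc : Tw c) : Tw α := by
  obtain ⟨n, hn⟩ := hc
  exact ⟨n, (k.pow _).uniq h (hn ▸ Mp.one)⟩

theorem Mp.fix2 (h : Mod φ) {c : G} {α : MulAut (sIsom B)} (k : Mp φ φ c α) {a : sIsom B}
    (ha : Tw a) : Commute c (φ a) ↔ a ∈ Cf α :=
  ⟨fun e => h.eq2 (KIT.tw_map ha α) ha (by rw [← k, e.eq, mul_inv_cancel_right]),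
    fun e => mul_inv_eq_iff_eq_mul.1 (by rw [k, mem_Cf.1 e])⟩

theorem Mod.exists_ind (h : Mod φ) :
    ∃ ρ : Ns φ.range →* MulAut (sIsom B), ∀ c, Mp φ φ c.1 (ρ c) := by
  choose ρ hρ using fun c : Ns φ.range => h.ind c.2
  exact ⟨MonoidHom.mk' ρ fun a b => (hρ _).uniq h ((hρ a).mul (hρ b)), hρ⟩

theorem Mp.conj_Cs {c : G} {l : sIsom B} (k : Mp φ φ c (MulAut.conj l)) :
    (φ l)⁻¹ * c ∈ Cs φ.range := by
  have := (Mp.self (y := φ) l).inv.mul k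
  rw [inv_mul_cancel] at this
  exact this.mem_Cs

theorem Mp.lin2 (h : Mod φ) {c : G} {α : MulAut (sIsom B)} (k : Mp φ φ c α) (h1 : fa α = 1)
    (h2 : Tw α) : ∃ l, Tw l ∧ (φ l)⁻¹ * c ∈ Cs φ.range := by
  obtain ⟨l, hl, rfl⟩ := h.lin_two h1 h2
  exact ⟨l, hl, k.conj_Cs⟩

theorem Mod.perf_le (h : Mod φ) {Y : Subgroup G} (hY : ⁅Y, Y⁆ = Y) (hn : Y ≤ Ns φ.range) :
    Y ≤ φ.range ⊔ Cs φ.range := by
  obtain ⟨ρ, hρ⟩ := h.exists_ind
  have h1 : ⁅Y.subgroupOf (Ns φ.range), Y.subgroupOf (Ns φ.range)⁆ = Y.subgroupOf (Ns φ.range) :=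
    map_injective (subtype_injective _) (by rw [map_commutator, map_subgroupOf_eq_of_le hn, hY])
  intro y hy
  obtain ⟨l, hl⟩ := h.perf_aut (Y := (Y.subgroupOf (Ns φ.range)).map ρ)
    (by rw [← map_commutator, h1]) (mem_map_of_mem ρ (x := ⟨y, hn hy⟩) hy)
  rw [← mul_inv_cancel_left (φ l) y]
  exact mul_mem_sup ⟨l, rfl⟩ (hl ▸ hρ ⟨y, hn hy⟩ : Mp φ φ y (MulAut.conj l)).conj_Cs

theorem Mod.cQ (h : Mod φ) {W : Submodule E M} (hW : TotIso B W) (h0 : W ≠ ⊥) {c : G}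
    (h1 : c ∈ Ns φ.range) (h2 : c ∈ Cs ((QW B W).map φ)) :
    ∃ v ∈ VW B W, (φ v)⁻¹ * c ∈ Cs φ.range := by
  obtain ⟨α, k⟩ := h.ind h1
  obtain ⟨v, hv, rfl⟩ := h.toMo.cQ hW h0 (α := α) fun a ha =>
    (k.fix2 h (Tw.of_mem (h.two_QW hW) ha)).1 (Gold.mem_Cs.1 h2 _ (mem_map_of_mem φ ha)).symm
  exact ⟨v, hv, k.conj_Cs⟩

theorem Mod.cz (h : Mod φ) {u : M} (hu : B u u = 0) (u0 : u ≠ 0) {c : E} (hc : σ c = c) (c0 : c ≠ 0)
    {Y : Subgroup G} (hY : ⁅Y, Y⁆ = Y) (hle : Y ≤ φ.range ⊓ C1 (φ (tT B u c))) :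
    Y ≤ (Fx B (E ∙ u)).map φ := by
  have h1 : Y ≤ (C1 (tT B u c)).map φ := fun y hy => by
    obtain ⟨⟨a, rfl⟩, k⟩ := hle hy
    exact mem_map_of_mem φ (mem_C1.2 (h.comm2 (Tw.of_sq (h.tT_sq hu hc)) (mem_C1.1 k).symm).symm)
  rw [← hY]
  refine (commutator_mono h1 h1).trans ?_
  rw [← map_commutator]
  exact map_mono (h.toMo.cz hu u0 hc c0)

end Cfsg.Lib.SU5
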