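import Cfsg.Agent.SU5.AP1
import Cfsg.Agent.SU5.K4

/-!
# Standard subgroups of type `U_m(2ⁿ)`: elementary abelian 2-subgroups
-/

set_option autoImplicit false
set_option linter.unusedSectionVars false

namespace Cfsg.Lib.SU5

open Subgroup Module Cfsg.Lib.Trans Cfsg.Lib.Gold Cfsg.Lib.Class.Form Cfsg.Lib.Class.FAut
open Cfsg.Lib.Comp (Tw)
open scoped commutatorElement

universe u

variable {E M : Type*} [Field E] [Finite E] [AddCommGroup M] [Module E M] [FiniteDimensional E M]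
  {σ : E →+* E} {B : M →ₛₗ[σ] M →ₗ[E] E}

namespace J1

theorem card_sub (h : Herm B) (W : Submodule E M) : Nat.card W = qn σ ^ (2 * finrank E W) := by
  have := Fintype.ofFinite E
  obtain ⟨q, hF, hq⟩ := exists_card_eq_sq h.ne_id h.invol
  have e : qn σ = q := by
    rw [← card_pow_eq_self hF, qn]
    simp only [hq]
  rw [e, Module.natCard_eq_pow_finrank (K := E), Nat.card_eq_fintype_card, hF, pow_mul]

theorem two_le (σ : E →+* E) : 2 ≤ qn σ :=
  have : Nontrivial {a : E // σ a = a} := ⟨⟨0, map_zero σ⟩, ⟨1, map_one σ⟩, by simp⟩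
  Finite.one_lt_card

theorem vadd (h2 : (2 : E) = 0) (x : M) : x + x = 0 := by rw [← two_smul E, h2, zero_smul]

theorem mx_mem (h : Herm B) {W : Submodule E M} (hW : TotIso B W)
    (hd : finrank E M / 2 ≤ finrank E W) {x : M} (hx : B x x = 0) (ho : x ∈ orth B W) : x ∈ W :=
  by_contra fun hn => by
    have h1 : TotIso B (W ⊔ E ∙ x) := fun u hu v hv => by
      obtain ⟨w, hw, _, hy, rfl⟩ := Submodule.mem_sup.1 hu
      obtain ⟨s, rfl⟩ := Submodule.mem_span_singleton.1 hy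
      obtain ⟨w', hw', _, hx', rfl⟩ := Submodule.mem_sup.1 hv
      obtain ⟨s', rfl⟩ := Submodule.mem_span_singleton.1 hx'
      simp [hW w hw w' hw', ho w hw, h.comm (ho w' hw'), hx]
    have h2 := h.toGood.two_mul_finrank_le h1
    rw [Submodule.finrank_sup_span_singleton hn] at h2
    omega

theorem adj {g : sIsom B} (e : g * g = 1) (x y : M) :
    B (lin g x - x) y = B x (lin g y - y) := by
  rw [map_sub, map_sub, LinearMap.sub_apply, lin_left, inv_eq_of_mul_eq_one_right e]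

theorem ti (h2 : (2 : E) = 0) {g : sIsom B} (e : g * g = 1) (x y : M) :
    B (lin g x - x) (lin g y - y) = 0 := by
  have : lin g (lin g y - y) - (lin g y - y) = 0 := by
    rw [map_sub, ← lin_mul, e, lin_one]
    linear_combination (norm := module) vadd h2 (y - lin g y)
  rw [adj e, this, map_zero]

theorem sqV (h : Herm B) (h2 : (2 : E) = 0) {W : Submodule E M} (hW : TotIso B W) {v : sIsom B}
    (hv : v ∈ VW B W) : v * v = 1 := lin_ext fun x => by
  have h1 : lin v (lin v x - x) = lin v x - x := by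
    refine sub_eq_zero.1 (h.sep' _ fun y => ?_)
    have := hW _ (mem_VW.1 (inv_mem hv) y) _ (mem_VW.1 hv x)
    rwa [map_sub B, LinearMap.sub_apply, ← lin_right, ← map_sub] at this
  rw [map_sub] at h1
  rw [lin_mul, lin_one]
  linear_combination (norm := module) h1 + vadd h2 (lin v x - x)

theorem isoB (h2 : (2 : E) = 0) (n : ℕ) : ∀ {N : Type u} [AddCommGroup N] [Module E N]
    [FiniteDimensional E N] {D : N →ₛₗ[σ] N →ₗ[E] E}, Herm D → finrank E N = n →
    ∀ A : AddSubgroup N, (∀ x ∈ A, D x x = 0) → Nat.card A ≤ qn σ ^ (2 * (n / 2)) := by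
  induction n using Nat.strong_induction_on with
  | _ n ih =>
  intro N _ _ _ D h hn A k
  have : Finite N := Module.finite_of_finite E
  have hc := AP1.cls h
  have hF : ∀ x ∈ A, ∀ y ∈ A, σ (D x y) = D x y := fun x hx y hy => by
    have := k _ (add_mem hx hy)
    simp only [map_add, LinearMap.add_apply, k x hx, k y hy] at this
    rw [h.conj]
    linear_combination this - D x y * h2
  by_cases c : ∀ x ∈ A, ∀ y ∈ A, D x y = 0
  · have h1 : TotIso D (Submodule.span E (A : Set N)) := fun x hx y hy =>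
      h.comm ((mem_orth_span (s := (A : Set N))).2 (fun b hb => h.comm
        ((mem_orth_span (s := (A : Set N))).2 (fun a ha => c a ha b hb) x hx)) y hy)
    have h3 := h.toGood.two_mul_finrank_le h1
    calc Nat.card A ≤ Nat.card (Submodule.span E (A : Set N)) :=
          Nat.card_mono (Set.toFinite _) Submodule.subset_span
      _ ≤ _ := by
          rw [card_sub h]
          exact Nat.pow_le_pow_right (by have := two_le σ; omega) (by omega)
  push Not at c
  obtain ⟨x, hx, y, hy, c⟩ := c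
  obtain ⟨z, hz⟩ : ∃ z, z = (D x y)⁻¹ • y := ⟨_, rfl⟩
  have e1 : D x z = 1 := by rw [hz, map_smul, smul_eq_mul, inv_mul_cancel₀ c]
  have e2 : D z z = 0 := by simp [hz, k y hy]
  have e3 : ∀ a ∈ A, σ (D z a) = D z a := fun a ha => by
    simp [hz, hF y hy a ha, hF x hx y hy]
  have hU := h.restrict (hc.nondegOn_hypU (k x hx) e2 e1)
  have hd := hc.finrank_hypU (k x hx) e1
  let p : N →+ hypU D x z :=
    ((hproj D 1 x z).codRestrict _ fun w => hc.hproj_mem (k x hx) e2 e1 w).toAddMonoidHom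
  have hp : ∀ a, (p a : N) = a - D x a • z - D z a • x := fun a => by
    rw [← one_mul (D z a)]; rfl
  have h3 := ih _ (by omega) hU rfl (A.map p) (by
    rintro _ ⟨a, ha, rfl⟩
    have b1 := mem_hypU.1 (p a).2
    rw [restr_apply]
    conv_lhs => enter [1, 2]; rw [hp]
    simp only [map_sub, map_smulₛₗ, LinearMap.sub_apply, LinearMap.smul_apply, b1.1, b1.2,
      smul_zero, sub_zero]
    rw [hp, map_sub, map_sub, map_smul, map_smul, k a ha, ← h.conj z a, ← h.conj x a, e3 a ha,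
      hF x hx a ha, smul_eq_mul, smul_eq_mul]
    linear_combination -(D x a * D z a) * h2)
  have h4 : Nat.card A ≤ Nat.card ({a : E // σ a = a} × {a : E // σ a = a} × A.map p) :=
    Nat.card_le_card_of_injective (fun a => (⟨_, hF x hx a a.2⟩, ⟨_, e3 a a.2⟩, ⟨p a, a, a.2, rfl⟩))
      fun a b e => by
        simp only [Prod.mk.injEq, Subtype.mk.injEq] at e
        have : (p a : N) = p b := congrArg (fun r => (r.1 : N)) e.2.2
        rw [hp, hp, e.1, e.2.1] at this
        exact Subtype.ext (by linear_combination (norm := module) this)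
  rw [Nat.card_prod, Nat.card_prod] at h4
  rw [show 2 * (n / 2) = 1 + (1 + 2 * (finrank E (hypU D x z) / 2)) by omega, pow_add, pow_add,
    pow_one]
  exact h4.trans (Nat.mul_le_mul_left _ (Nat.mul_le_mul_left _ h3))

set_option maxHeartbeats 400000 in
theorem main (h2 : (2 : E) = 0) (n : ℕ) : ∀ {N : Type u} [AddCommGroup N] [Module E N]
    [FiniteDimensional E N] {D : N →ₛₗ[σ] N →ₗ[E] E}, Herm D → finrank E N = n →
    ∀ A : Subgroup (sIsom D), (∀ a ∈ A, a * a = 1) → Nat.card A ≤ qn σ ^ ((n / 2) ^ 2) ∧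
      (qn σ ^ ((n / 2) ^ 2) ≤ Nat.card A →
        ∃ W, TotIso D W ∧ finrank E W = n / 2 ∧ A ≤ VW D W) := by
  induction n using Nat.strong_induction_on with
  | _ n ih =>
  intro N _ _ _ D h hn A hA
  have : Finite N := Module.finite_of_finite E
  have : CharP E 2 := CharTwo.of_one_ne_zero_of_two_eq_zero one_ne_zero h2
  have hc := AP1.cls h
  have hq := two_le σ
  by_cases A0 : A = ⊥
  · subst A0
    rw [card_bot]
    refine ⟨Nat.one_le_pow _ _ (by omega), fun k => ⟨⊥, fun x hx => by simp [(Submodule.mem_bot E).1 hx], ?_, bot_le⟩⟩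
    rw [finrank_bot]
    by_contra c
    exact (Nat.one_lt_pow (pow_ne_zero 2 (Ne.symm c)) hq).not_ge k
  have hcm : ∀ a ∈ A, ∀ b ∈ A, a * b = b * a := fun a ha b hb => by
    rw [← inv_eq_of_mul_eq_one_right (hA _ (mul_mem ha hb)), mul_inv_rev,
      inv_eq_of_mul_eq_one_right (hA a ha), inv_eq_of_mul_eq_one_right (hA b hb)]
  obtain ⟨⟨a₀, ha₀⟩, a1⟩ := ne_bot_iff_exists_ne_one.1 A0
  obtain ⟨u, ⟨x₀, hx₀⟩, u0, fu⟩ := exists_fixed_of_isPGroup 2 (P := A)
    (fun a => ⟨1, Subtype.ext (by simpa [pow_two] using hA a a.2)⟩)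
    (W := LinearMap.range ((lin a₀ : N →ₗ[E] N) - LinearMap.id))
    (fun k => a1 (Subtype.ext (lin_ext fun x =>
      sub_eq_zero.1 (k.le (LinearMap.mem_range_self _ x))))) (by
      rintro g hg _ ⟨x, rfl⟩
      refine ⟨lin g x, ?_⟩
      change lin a₀ (lin g x) - lin g x = lin g (lin a₀ x - x)
      rw [map_sub, ← lin_mul, hcm _ ha₀ _ hg, lin_mul])
  have hu : D u u = 0 := hx₀ ▸ ti h2 (hA _ ha₀) x₀ x₀
  obtain ⟨f, hf, hef⟩ := hc.exists_hyperbolic u0 hu
  have hfe : D f u = 1 := hc.swap_one hef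
  obtain ⟨π, ι, -, a2, a3, -⟩ := levi h hu hf hef
  have hU := h.restrict (hc.nondegOn_hypU hu hf hef)
  have hd := hc.finrank_hypU hu hef
  have hle : A ≤ Fx D (E ∙ u) := fun g hg => mem_Fx1.2 (fu g hg)
  let ρ := π.comp (inclusion hle)
  let 𝔅 : AddSubgroup (hypU D u f) :=
    { carrier := {w | ∃ g ∈ A, ∃ b, IsE D 1 u w b g}
      zero_mem' := ⟨1, one_mem _, 0, isE_zero_iff.2 (by rw [neg_zero]; exact isT_one u)⟩
      add_mem' := by
        rintro w w' ⟨g, hg, b, e⟩ ⟨g', hg', b', e'⟩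
        exact ⟨_, mul_mem hg hg', _, e.mul hu (h.comm (mem_hypU.1 w.2).1) (mem_hypU.1 w'.2).1 e'⟩
      neg_mem' := fun {w} hw => by rwa [neg_eq_of_add_eq_zero_left (vadd h2 w)] }
  have af : ∀ a ∈ A, D u (lin a f) = 1 := fun a ha => by rw [← fu a ha, lin_isom, hef]
  have key : ∀ a ∈ A, ∀ w ∈ 𝔅, lin a w = w - D w (lin a f) • u := by
    rintro a ha w ⟨g, hg, b, e⟩
    have := congrArg (lin · f) (hcm a ha g hg)
    simp only [lin_mul, e _, hef, af a ha, h.comm (mem_hypU.1 w.2).2, map_add, map_sub, map_smul,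
      fu a ha] at this
    linear_combination (norm := module) this
  have iso : ∀ w ∈ 𝔅, restr D (hypU D u f) w w = 0 := by
    rintro w ⟨g, hg, b, e⟩
    have h1 := key g hg w ⟨g, hg, b, e⟩
    rw [e f, e, (mem_hypU.1 w.2).1] at h1
    have h3 := congrArg (D f) h1
    have h4 := e.mul hu (h.comm (mem_hypU.1 w.2).1) (mem_hypU.1 w.2).1 e f
    rw [hA g hg, vadd h2] at h4
    have h5 := congrArg (D f) h4
    simp [hef, hfe] at h5
    rw [restr_apply]
    linear_combination h5 - b * h2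
  have hk : Nat.card ρ.ker ≤ Nat.card 𝔅 * qn σ := by
    have : ∀ g : ρ.ker, ∃ p : 𝔅 × {a : E // σ a = a}, IsE D 1 u p.1.1 p.2 g.1.1 := fun g => by
      obtain ⟨w, hw, b, hb, e⟩ := (mem_Q1 h hu hf hef).1 ((a2 _).1 g.2)
      have h1 : (⟨w, hw⟩ : hypU D u f) ∈ 𝔅 := ⟨_, g.1.2, b, e⟩
      have h3 : D w w = 0 := iso _ h1
      exact ⟨(⟨_, h1⟩, ⟨b, by linear_combination hb + h3 - b * h2⟩), e⟩
    choose p hp using this
    rw [qn, ← Nat.card_prod]
    exact Nat.card_le_card_of_injective p fun g g' e =>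
      Subtype.ext (Subtype.ext ((hp g).unique (e ▸ hp g')))
  have hB := isoB h2 _ hU rfl 𝔅 iso
  have hr := ih _ (by omega) hU rfl ρ.range (by
    rintro _ ⟨a, rfl⟩
    rw [← map_mul, show a * a = 1 from Subtype.ext (hA a a.2), map_one])
  have hA' : Nat.card A = Nat.card ρ.ker * Nat.card ρ.range := by
    rw [← index_ker, card_mul_index]
  set j := finrank E (hypU D u f) / 2 with hj
  have hn' : n / 2 = j + 1 := by omega
  have e0 : qn σ ^ (j + 1) ^ 2 = qn σ ^ (2 * j) * qn σ * qn σ ^ j ^ 2 := by ring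
  rw [hn', hA', e0]
  refine ⟨Nat.mul_le_mul (hk.trans (Nat.mul_le_mul_right _ hB)) hr.1, fun k => ?_⟩
  obtain ⟨W, w1, w2, w3⟩ := hr.2 (Nat.le_of_mul_le_mul_left (k.trans
    (Nat.mul_le_mul_right _ (hk.trans (Nat.mul_le_mul_right _ hB)))) (by positivity))
  have w4 : ρ.range = VW _ W := eq_of_le_of_card_ge w3
    ((ih _ (by omega) hU rfl _ fun v hv => sqV hU h2 w1 hv).1.trans (Nat.le_of_mul_le_mul_left
      (k.trans (Nat.mul_le_mul_right _ (hk.trans (Nat.mul_le_mul_right _ hB)))) (by positivity)))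
  have w5 : 𝔅 ≤ W.toAddSubgroup := fun w hw => by
    refine mx_mem hU w1 w2.ge (iso w hw) fun x hx => ?_
    obtain ⟨t, ht⟩ := (AP1.cls hU).exists_isT (w1 x hx x hx) (c := 1) (by
      rw [map_one]; linear_combination h2)
    obtain ⟨a, ha⟩ := w4.ge (show t ∈ VW _ W from mem_VW.2 fun y => by
      rw [ht, add_sub_cancel_left]; exact W.smul_mem _ hx)
    obtain ⟨μ, hμ⟩ := Submodule.mem_span_singleton.1 (a3 (inclusion hle a) w)
    change μ • u = lin a.1 w - (lin (ρ a) w : hypU D u f) at hμ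
    rw [key a a.2 w hw, ha, ht] at hμ
    have b1 := congrArg (D f) hμ
    simp [(mem_hypU.1 w.2).2, (mem_hypU.1 x.2).2, hfe] at b1
    rw [b1] at hμ
    by_cases x0 : x = 0
    · simp [x0]
    have b2 : restr D (hypU D u f) x w • (x : N) = 0 := by
      simp only [one_mul, Submodule.coe_add, Submodule.coe_smul] at hμ
      linear_combination (norm := module) hμ
    exact (smul_eq_zero.1 b2).resolve_right fun e => x0 (Subtype.ext e)
  have w6 : 𝔅 = W.toAddSubgroup := AddSubgroup.eq_of_le_of_card_ge w5 (by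
    change Nat.card W ≤ _
    rw [card_sub hU, w2]
    exact Nat.le_of_mul_le_mul_right (Nat.le_of_mul_le_mul_right
      (k.trans (Nat.mul_le_mul hk hr.1)) (by positivity)) (by omega))
  have uW : u ∉ W.map (hypU D u f).subtype := by
    rintro ⟨w, -, e⟩
    have := (mem_hypU.1 w.2).2
    rw [show (w : N) = u from e, hfe] at this
    exact one_ne_zero this
  have t1 : TotIso D (W.map (hypU D u f).subtype ⊔ E ∙ u) := fun x hx y hy => by
    obtain ⟨_, ⟨w, hw, rfl⟩, _, hy', rfl⟩ := Submodule.mem_sup.1 hx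
    obtain ⟨s, rfl⟩ := Submodule.mem_span_singleton.1 hy'
    obtain ⟨_, ⟨w', hw', rfl⟩, _, hx', rfl⟩ := Submodule.mem_sup.1 hy
    obtain ⟨s', rfl⟩ := Submodule.mem_span_singleton.1 hx'
    have : D w w' = 0 := w1 w hw w' hw'
    simp [this, hu, (mem_hypU.1 w'.2).1, h.comm (mem_hypU.1 w.2).1]
  have t2 : finrank E ↥(W.map (hypU D u f).subtype ⊔ E ∙ u) = j + 1 := by
    rw [Submodule.finrank_sup_span_singleton uW, Submodule.finrank_map_subtype_eq, w2]
  refine ⟨_, t1, t2, fun a ha => mem_VW.2 fun x => mx_mem h t1 (by omega) (ti h2 (hA a ha) x x) fun y hy => ?_⟩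
  obtain ⟨_, ⟨w, hw, rfl⟩, _, hy', rfl⟩ := Submodule.mem_sup.1 hy
  obtain ⟨s, rfl⟩ := Submodule.mem_span_singleton.1 hy'
  have b1 : ∀ w ∈ W, σ (D w (lin a f)) = D w (lin a f) := fun w hw => by
    have b2 := congrArg (D f) (key a ha w (w6.ge hw))
    rw [lin_right, inv_eq_of_mul_eq_one_right (hA a ha), ← h.conj] at b2
    simp only [map_sub, map_smul, (mem_hypU.1 w.2).2, hfe, smul_eq_mul] at b2
    linear_combination b2 - D w (lin a f) * h2
  have b2 : D w (lin a f) = 0 := by_contra fun c => h.ne_id (RingHom.ext fun r => by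
    have := b1 _ (W.smul_mem r hw)
    simp only [Submodule.coe_smul, map_smulₛₗ, LinearMap.smul_apply, smul_eq_mul, map_mul,
      h.invol, b1 w hw] at this
    exact (mul_right_cancel₀ c this).symm)
  rw [← adj (hA a ha), map_add, map_smul, fu a ha, Submodule.subtype_apply, key a ha w (w6.ge hw),
    b2]
  simp

end J1

theorem iso_bound {N : Type*} [AddCommGroup N] [Module E N] [FiniteDimensional E N]
    {D : N →ₛₗ[σ] N →ₗ[E] E} (h : Herm D) (h2 : (2 : E) = 0) (A : AddSubgroup N)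
    (k : ∀ x ∈ A, D x x = 0) : Nat.card A ≤ qn σ ^ (2 * (finrank E N / 2)) :=
  J1.isoB h2 _ h rfl A k

theorem Mo.inv (h : Mo B) {g : sIsom B} (e : g * g = 1) : ∃ W, Mx B W ∧ g ∈ VW B W := by
  obtain ⟨W, h1, h2⟩ := h.le_Mx (W := LinearMap.range ((lin g : M →ₗ[E] M) - LinearMap.id)) (by
    rintro _ ⟨x, rfl⟩ _ ⟨y, rfl⟩
    exact J1.ti h.two e x y)
  exact ⟨W, h1, fun x => h2 ⟨x, rfl⟩⟩

theorem Mo.j1 (h : Mo B) {A : Subgroup (sIsom B)} (hA : ∀ a ∈ A, a * a = 1) :
    Nat.card A ≤ qn σ ^ (kk E M ^ 2) ∧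
      (qn σ ^ (kk E M ^ 2) ≤ Nat.card A → ∃ W, Mx B W ∧ A = VW B W) := by
  refine ⟨(J1.main h.two _ h.toHerm rfl A hA).1, fun k => ?_⟩
  obtain ⟨W, h1, h2, h3⟩ := (J1.main h.two _ h.toHerm rfl A hA).2 k
  exact ⟨W, ⟨h1, h2⟩, eq_of_le_of_card_ge h3 ((h.card_VW h1).le.trans (h2 ▸ k))⟩

end Cfsg.Lib.SU5
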