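import Cfsg.Agent.SU5.K2

/-!
# Standard subgroups of type `U_m(2ⁿ)`: coordinates on `V_W`
-/

set_option autoImplicit false
set_option linter.unusedSectionVars false

namespace Cfsg.Lib.SU5

open Subgroup Module Cfsg.Lib.Trans Cfsg.Lib.Gold Cfsg.Lib.Class.Form Cfsg.Lib.Class.FAut
open scoped commutatorElement

variable {E M : Type*} [Field E] [Finite E] [AddCommGroup M] [Module E M] [FiniteDimensional E M]
  {σ : E →+* E} {B : M →ₛₗ[σ] M →ₗ[E] E}

theorem I2.smul_r {u w : M} (k : I2 B u w) (l : E) : I2 B u (l • w) := by simpa using k.smul 1 l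

theorem Mo.lin_v2 (h : Mo B) {u w : M} (k : I2 B u w) {c d : E} (l : E) (hc : σ c = c)
    (hd : σ d = d) (x : M) : lin (tT B u c * tT B w d * tE B u (l • w)) x =
      x + (c * B u x + σ l * B w x) • u + (d * B w x + l * B u x) • w := by
  simp only [lin_mul, h.lin_tT k.uu hc, h.lin_tT k.ww hd, h.lin_tE (k.smul_r l), map_add,
    map_smulₛₗ, LinearMap.smul_apply, smul_eq_mul, RingHom.id_apply, k.uu, k.ww, k.uw, h.swap k.uw]
  module

theorem Mo.VW_comm (h : Mo B) {W : Submodule E M} (hW : TotIso B W) {v v' : sIsom B}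
    (hv : v ∈ VW B W) (hv' : v' ∈ VW B W) : v * v' = v' * v :=
  mem_Cs.1 (h.Fx_le_Cs (h.VW_le_QW hW hv').1) v hv

theorem Mo.v2_mul (h : Mo B) {u w : M} (k : I2 B u w) {c d c' d' : E} (l l' : E) (hc : σ c = c)
    (hd : σ d = d) (hc' : σ c' = c') (hd' : σ d' = d') :
    tT B u c * tT B w d * tE B u (l • w) * (tT B u c' * tT B w d' * tE B u (l' • w)) =
      tT B u (c + c') * tT B w (d + d') * tE B u ((l + l') • w) := lin_ext fun x => by
  rw [lin_mul, h.lin_v2 k _ hc hd, h.lin_v2 k _ hc' hd',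
    h.lin_v2 k _ (by rw [map_add, hc, hc']) (by rw [map_add, hd, hd'])]
  simp only [map_add, map_smul, smul_eq_mul, k.uu, k.ww, k.uw, h.swap k.uw]
  module

theorem Mo.mem_V2 (h : Mo B) {u w : M} (k : I2 B u w) {v : sIsom B} :
    v ∈ VW B (Submodule.span E {u, w}) ↔
      ∃ c d l : E, σ c = c ∧ σ d = d ∧ v = tT B u c * tT B w d * tE B u (l • w) := by
  have hu : u ∈ Submodule.span E {u, w} := Submodule.subset_span (by simp)
  have hw : w ∈ Submodule.span E {u, w} := Submodule.subset_span (by simp)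
  have key : ∀ v, (∃ c d l : E, σ c = c ∧ σ d = d ∧ v = tT B u c * tT B w d * tE B u (l • w)) →
      v ∈ VW B (Submodule.span E {u, w}) := by
    rintro _ ⟨c, d, l, hc, hd, rfl⟩
    exact mul_mem (mul_mem (h.tT_mem k.uu hu hc) (h.tT_mem k.ww hw hd))
      (h.tE_mem (k.smul_r l) hu (Submodule.smul_mem _ _ hw))
  refine ⟨fun hv => ?_, key v⟩
  let H : Subgroup (sIsom B) :=
    { carrier := {v | ∃ c d l : E, σ c = c ∧ σ d = d ∧ v = tT B u c * tT B w d * tE B u (l • w)}
      one_mem' := ⟨0, 0, 0, map_zero σ, map_zero σ, by simp [h.tT_zero, h.tE_zero]⟩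
      mul_mem' := by
        rintro _ _ ⟨c, d, l, hc, hd, rfl⟩ ⟨c', d', l', hc', hd', rfl⟩
        exact ⟨_, _, _, by rw [map_add, hc, hc'], by rw [map_add, hd, hd'],
          h.v2_mul k l l' hc hd hc' hd'⟩
      inv_mem' := fun {v} hv => by
        rwa [inv_eq_of_mul_eq_one_right (h.sq_VW (k.ti h) (key v hv))] }
  refine h.gen_VW (k.ti h) (H := H) (fun x hx => ?_) hv
  obtain ⟨a, b, rfl⟩ := Submodule.mem_span_pair.1 hx
  have h1 : ∀ a, σ (σ a * a) = σ a * a := fun a => by rw [map_mul, h.ss, mul_comm]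
  refine ⟨_, _, σ a * b, h1 a, h1 b, lin_ext fun y => ?_⟩
  rw [h.lin_v2 k _ (h1 a) (h1 b), h.lin_tT ((k.smul a b).add h) (map_one σ)]
  simp only [map_add, map_smulₛₗ, LinearMap.add_apply, LinearMap.smul_apply, smul_eq_mul, map_mul,
    h.ss]
  module

theorem Mo.v2_inj (h : Mo B) {u w : M} (k : I2 B u w) (li : LinearIndependent E ![u, w])
    {c d l c' d' l' : E} (hc : σ c = c) (hd : σ d = d) (hc' : σ c' = c') (hd' : σ d' = d')
    (e : tT B u c * tT B w d * tE B u (l • w) = tT B u c' * tT B w d' * tE B u (l' • w)) :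
    c = c' ∧ d = d' ∧ l = l' := by
  have key : ∀ p q : E, (c - c') * p + (σ l - σ l') * q = 0 ∧ (d - d') * q + (l - l') * p = 0 :=
    fun p q => by
      obtain ⟨x, hx⟩ := h.exists_forall_eq' li ![p, q]
      have h1 := h.lin_v2 k l hc hd x
      rw [e, h.lin_v2 k l' hc' hd', show B u x = p from hx 0, show B w x = q from hx 1] at h1
      exact LinearIndependent.pair_iff.1 li _ _ (by linear_combination (norm := module) -h1)
  have h1 := key 1 0
  have h2 := key 0 1
  exact ⟨by linear_combination h1.1, by linear_combination h2.2, by linear_combination h1.2⟩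

theorem K3.v2_conj (h : Mo B) {u w : M} (k : I2 B u w) {c d : E} (l : E) (hc : σ c = c)
    (hd : σ d = d) (g : sIsom B) (x : M) :
    lin (g * (tT B u c * tT B w d * tE B u (l • w)) * g⁻¹) x =
      x + (c * B (lin g u) x + σ l * B (lin g w) x) • lin g u +
        (d * B (lin g w) x + l * B (lin g u) x) • lin g w := by
  simp only [lin_mul g, lin_mul _ g⁻¹, h.lin_v2 k l hc hd, map_add, map_smul, lin_lin_inv, lin_left]

theorem Mo.v2_diag (h : Mo B) {u w : M} (k : I2 B u w) {c d : E} (l : E) (hc : σ c = c)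
    (hd : σ d = d) {g : sIsom B} {a b : E} (e1 : lin g u = a • u) (e2 : lin g w = b • w) :
    g * (tT B u c * tT B w d * tE B u (l • w)) * g⁻¹ =
      tT B u (σ a * a * c) * tT B w (σ b * b * d) * tE B u ((σ a * b * l) • w) := by
  refine lin_ext fun x => ?_
  rw [K3.v2_conj h k l hc hd, h.lin_v2 k _ (by rw [map_mul, map_mul, h.ss, hc, mul_comm a])
    (by rw [map_mul, map_mul, h.ss, hd, mul_comm b]), e1, e2]
  simp only [map_smulₛₗ, LinearMap.smul_apply, smul_eq_mul, map_mul, h.ss]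
  module

theorem Mo.v2_el (h : Mo B) {u w : M} (k : I2 B u w) {c d : E} (l : E) (hc : σ c = c)
    (hd : σ d = d) {g : sIsom B} {m : E} (e1 : lin g u = u) (e2 : lin g w = w + m • u) :
    g * (tT B u c * tT B w d * tE B u (l • w)) * g⁻¹ =
      tT B u (c + σ m * m * d + (l * m + σ (l * m))) * tT B w d *
        tE B u ((l + σ m * d) • w) := by
  refine lin_ext fun x => ?_
  rw [K3.v2_conj h k l hc hd, h.lin_v2 k _ (by
    simp only [map_add, map_mul, h.ss, hc, hd]
    ring) hd, e1, e2]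
  simp only [map_add, map_smulₛₗ, LinearMap.add_apply, LinearMap.smul_apply, smul_eq_mul, map_mul,
    h.ss, hd]
  module

theorem Mo.v2_swap (h : Mo B) {u w : M} (k : I2 B u w) {c d : E} (l : E) (hc : σ c = c)
    (hd : σ d = d) {g : sIsom B} (e1 : lin g u = w) (e2 : lin g w = u) :
    g * (tT B u c * tT B w d * tE B u (l • w)) * g⁻¹ = tT B u d * tT B w c * tE B u (σ l • w) := by
  refine lin_ext fun x => ?_
  rw [K3.v2_conj h k l hc hd, h.lin_v2 k _ hd hc, e1, e2, h.ss]
  module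

end Cfsg.Lib.SU5
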