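import Cfsg.Agent.SU5.P4u

/-!
# Standard subgroups of type `U₅(2ⁿ)`: the two factors in the split case
-/

set_option autoImplicit false
set_option linter.unusedSectionVars false

namespace Cfsg.Lib.SU5

open Subgroup Module Cfsg.Lib.Trans Cfsg.Lib.Gold Cfsg.Lib.Class.Form Cfsg.Lib.Class.FAut
open Cfsg.Lib.Comp (Tw)
open scoped commutatorElement

variable {G E M : Type*} [Group G] [Finite G] [Field E] [Finite E] [AddCommGroup M] [Module E M]
  [FiniteDimensional E M] {σ : E →+* E} {B : M →ₛₗ[σ] M →ₗ[E] E} {φ : sIsom B →* G} {t : G}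
  {f : M → G}

namespace E0b

set_option maxHeartbeats 800000 in
/-- A family which behaves like the transvections comes from a homomorphism. -/
theorem hom (m : Mo B) (y : M → G) (y0 : y 0 = 1) (sq : ∀ u, B u u = 0 → y u * y u = 1)
    (un : ∀ (a : E) u, B u u = 0 → σ a * a = 1 → y (a • u) = y u)
    (cj : ∀ u w, B u u = 0 → B w w = 0 → y w * y u * (y w)⁻¹ = y (lin (tT B w 1) u))
    (rel : ∀ u w x, I3 B u w x → y (u + (w + x)) * y u * y (w + x) =
      y (u + w) * y u * y w * (y (u + x) * y u * y x)) :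
    ∃ ψ : sIsom B →* G, ∀ u, B u u = 0 → ψ (tT B u 1) = y u := by
  have o := map_one σ
  let Γ : Subgroup (G × sIsom B) := closure {p | ∃ u, B u u = 0 ∧ p = (y u, tT B u 1)}
  let γ : ∀ u, B u u = 0 → Γ := fun u hu => ⟨(y u, tT B u 1), subset_closure ⟨u, hu, rfl⟩⟩
  have iso : ∀ (g : sIsom B) u, B u u = 0 → B (lin g u) (lin g u) = 0 := fun g u hu =>
    ((I2.self hu).lin g).uu
  have act : ∀ p : Γ, ∀ u hu, p * γ u hu * p⁻¹ = γ (lin p.1.2 u) (iso _ u hu) := by
    rintro ⟨p, hp⟩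
    suffices ∀ u, B u u = 0 → p.1 * y u * p.1⁻¹ = y (lin p.2 u) from fun u hu =>
      Subtype.ext (Prod.ext (this u hu) (m.tT_conj _ hu o))
    induction hp using closure_induction with
    | mem x hx => obtain ⟨w, hw, rfl⟩ := hx; exact fun u hu => cj u w hu hw
    | one => simp
    | mul a b _ _ ha hb =>
      intro u hu
      rw [Prod.snd_mul, lin_mul, ← ha _ (iso _ u hu), ← hb u hu, Prod.fst_mul]; group
    | inv a _ ha =>
      intro u hu
      have := ha _ (iso a.2⁻¹ u hu)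
      rw [lin_lin_inv] at this
      rw [← this, Prod.fst_inv, Prod.snd_inv]; group
  have gen : ∀ H : Subgroup Γ, (∀ u hu, γ u hu ∈ H) → H = ⊤ := fun H k => eq_top_iff.2 (by
    rintro ⟨p, hp⟩ -
    induction hp using closure_induction with
    | mem x hx => obtain ⟨w, hw, rfl⟩ := hx; exact k w hw
    | one => exact one_mem H
    | mul a b _ _ ha hb => exact mul_mem ha hb
    | inv a _ ha => exact inv_mem ha)
  have on : ∀ g, ∃ p : Γ, p.1.2 = g := fun g =>
    (m.gen_T (H := ((MonoidHom.snd _ _).comp Γ.subtype).range) fun u hu => ⟨γ u hu, rfl⟩).ge (mem_top g)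
  have g0 : ∀ hu, γ 0 hu = 1 := fun _ => Subtype.ext (Prod.ext y0 (m.tT_zero' 1))
  have g2 : ∀ u hu, γ u hu * γ u hu = 1 := fun u hu => Subtype.ext (Prod.ext (sq u hu) (m.tT_sq hu o))
  let π : Γ →* PG B := (QuotientGroup.mk' _).comp ((MonoidHom.snd _ _).comp Γ.subtype)
  have hk : π.ker ≤ center Γ := fun p hp => by
    have c : p.1.2 ∈ center _ := (QuotientGroup.eq_one_iff _).1 hp
    refine mem_center_iff.2 fun q => (mem_C1.1 ((gen (C1 p) fun u hu => mem_C1.2 ?_).ge (mem_top q)))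
    rw [eq_comm, ← mul_inv_eq_iff_eq_mul, act p u hu]
    have e : tT B u 1 = tT B (lin p.1.2 u) 1 := by
      rw [← m.tT_conj _ hu o, ← mem_center_iff.1 c, mul_inv_cancel_right]
    refine Subtype.ext (Prod.ext ?_ e.symm)
    by_cases u0 : u = 0
    · simp [u0, γ]
    · obtain ⟨a, -, e1, e2⟩ := m.tT_dep hu u0 (iso _ u hu) o one_ne_zero o e
      exact (congrArg y e1).trans (un a u hu (by rwa [mul_one] at e2))
  have hp : commutator Γ = ⊤ := by
    obtain ⟨u, u0, hu⟩ := m.exists_iso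
    obtain ⟨w, k, li⟩ := m.ext2 hu u0
    obtain ⟨θ, hθ⟩ := m.exists_tr o
    have θ0 : θ ≠ 0 := by rintro rfl; simp at hθ
    have θ1 : 1 + θ ≠ 0 := fun e => by
      rw [show θ = 1 by linear_combination e - m.two, o, m.add_self] at hθ
      exact zero_ne_one hθ
    obtain ⟨x, hx⟩ : ∃ x, x = θ • w := ⟨_, rfl⟩
    replace k : I3 B u w x := ⟨k, by simp [hx, k.ww], by simp [hx, k.uw], by simp [hx, k.ww]⟩
    have e1 : ∀ v hv, v ≠ 0 → Abelianization.of (γ v hv) = Abelianization.of (γ u hu) :=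
      fun v hv v0 => by
        obtain ⟨g, rfl⟩ := m.tr1 hu u0 hv v0
        obtain ⟨p, rfl⟩ := on g
        rw [← act p u hu, map_mul, map_mul, map_inv, mul_inv_cancel_comm]
    have nz : ∀ a b c : E, a • u + (b • w + c • x) = 0 → a = 0 ∧ b + c * θ = 0 := fun a b c e =>
      LinearIndependent.pair_iff.1 li _ _ (by rw [← e, hx, add_smul, mul_smul])
    have k1 : I2 B u x := ⟨hu, k.xx, k.ux⟩
    have k2 : I2 B w x := ⟨k.ww, k.xx, k.wx⟩
    have k3 : I2 B u (w + x) := ⟨hu, k2.add m, by simp [k.uw, k.ux]⟩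
    have e2 : γ _ (k3.add m) * γ u hu * γ _ k3.ww = γ _ (k.toI2.add m) * γ u hu * γ w k.ww *
        (γ _ (k1.add m) * γ u hu * γ x k.xx) := Subtype.ext (Prod.ext (rel u w x k) (by
      have := m.tE_add k
      rwa [m.tE_eq k3, m.tE_eq k.toI2, m.tE_eq k1] at this))
    have e3 := congrArg Abelianization.of e2
    have e4 := congrArg Abelianization.of (g2 u hu)
    simp only [map_mul, map_one] at e4
    simp only [map_mul, e1 _ (k3.add m) fun e => one_ne_zero (nz 1 1 1 (by simpa using e)).1,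
      e1 _ k3.ww fun e => θ1 (by simpa using (nz 0 1 1 (by simpa using e)).2),
      e1 _ (k.toI2.add m) fun e => one_ne_zero (nz 1 1 0 (by simpa using e)).1,
      e1 _ (k1.add m) fun e => one_ne_zero (nz 1 0 1 (by simpa using e)).1,
      e1 _ k.ww fun e => one_ne_zero (α := E) (by simpa using (nz 0 1 0 (by simpa using e)).2),
      e1 _ k.xx fun e => θ0 (by simpa using (nz 0 0 1 (by simpa using e)).2), e4, one_mul] at e3
    refine gen _ fun v hv => ?_
    rw [← Abelianization.ker_of, MonoidHom.mem_ker]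
    by_cases v0 : v = 0
    · subst v0; rw [g0 hv, map_one]
    · rw [e1 v hv v0, e3]
  obtain ⟨ψ, s, e⟩ := m.lift π (fun z => by
    obtain ⟨g, rfl⟩ := QuotientGroup.mk_surjective z
    obtain ⟨p, rfl⟩ := on g
    exact ⟨p, rfl⟩) hk hp
  refine ⟨(MonoidHom.fst _ _).comp (Γ.subtype.comp ψ), fun u hu => ?_⟩
  suffices ψ (tT B u 1) = γ u hu from congrArg (fun p : Γ => p.1.1) this
  obtain ⟨g, eg⟩ := s ((γ u hu)⁻¹ * ψ (tT B u 1))
  have k1 : π (ψ g) = 1 := by rw [eg, map_mul, map_inv, e]; exact inv_mul_cancel _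
  have k2 := m.odd_center ((QuotientGroup.eq_one_iff _).1 ((e g).symm.trans k1))
  have k3 : ψ g * ψ g = 1 := by
    have := mem_center_iff.1 (hk k1) (γ u hu)⁻¹
    nth_rw 2 [eg]
    rw [← mul_assoc, ← this, eg, mul_assoc, mul_assoc, ← map_mul, m.tT_sq hu o, map_one, mul_one,
      ← mul_inv_rev, g2 u hu, inv_one]
  rw [eq_comm, ← inv_mul_eq_one, ← eg]
  exact orderOf_eq_one_iff.1 ((k2.of_dvd_nat (orderOf_map_dvd ψ g)).coprime_two_right.eq_one_of_dvd
    (orderOf_dvd_of_pow_eq_one ((pow_two _).trans k3)))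

theorem cT (h : H3 φ t f) {u w : M} (hu : B u u = 0) {c : E} (hc : σ c = c) (e : B u w = 0) :
    Commute (φ (tT B u c)) (f w) := h.f_fix (by rw [h.toMo.lin_tT hu hc, e]; simp)

theorem tri (h : H3 φ t f) {u w : M} (k : I2 B u w) {c : E} (hc : σ c = c) :
    f (u + w) * φ (tT B (u + w) c) * (f u * φ (tT B u c)) * (f w * φ (tT B w c)) =
      Ew f u w * φ (tE B u (c • w)) := by
  have m := h.toMo
  have e := m.v2_mul k c 0 hc hc hc hc
  have a := k.add m
  rw [← m.tT_vadd k hc, m.add_self, zero_smul, m.tE_zero, m.tT_zero, m.tT_zero, add_zero, mul_one,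
    one_mul, one_mul, ← mul_assoc] at e
  rw [(cT h a hc (by simp [k.uu, m.swap k.uw])).mul_mul_mul_comm, ((cT h a hc
    (by simp [k.ww, k.uw])).mul_left (cT h k.uu hc k.uw)).mul_mul_mul_comm, ← e, map_mul, map_mul, Ew]

end E0b

open E0b in
theorem H4.split {β : E} {hβ : sg σ β = β} {γ : E} (h : H4 φ t f hβ) (hγ : γ * γ + γ = β)
    (fγ : σ γ = γ) :
    ∃ y z, ES φ t y z := by
  have m := h.toMo
  have h3 := h.toH3
  have o := map_one σ
  have c1 : σ (γ + 1) = γ + 1 := by rw [map_add, fγ, o]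
  have yz : ∀ u, B u u = 0 → ∀ c d, σ c = c → σ d = d →
      f u * φ (tT B u c) * (f u * φ (tT B u d)) = φ (tT B u (c + d)) := fun u hu c d hc hd => by
    rw [(cT h3 hu hc hu).mul_mul_mul_comm, h.sq, one_mul, m.tT_add hu hc hd, map_mul]
  have e1 : γ + 1 + γ = 1 := by linear_combination m.add_self γ
  obtain ⟨y, hy⟩ := hom m (fun u => f u * φ (tT B u (γ + 1))) (by simp [h.f0, m.tT_zero'])
    (fun u hu => by rw [yz u hu _ _ c1 c1, m.add_self, m.tT_zero, map_one])
    (fun a u hu ha => by rw [h3.unit ha, m.tT_smul hu a c1, ha, one_mul])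
    (fun u w hu hw => by
      rw [← h.feqv, ← m.tT_conj _ hu c1, map_mul, map_mul, map_inv, conj_mul, ← e1, ← yz w hw _ _ c1 fγ,
        e1, mul_assoc _ (f w * φ (tT B w γ)), ← (h.split_comm hγ fγ hu hw).eq]
      group)
    (fun u w x k => by
      have k1 : I2 B u x := ⟨k.uu, k.xx, k.ux⟩
      have k2 : I2 B w x := ⟨k.ww, k.xx, k.wx⟩
      have k4 : I2 B u ((γ + 1) • w) := by simpa using k.toI2.smul 1 (γ + 1)
      rw [tri h3 ⟨k.uu, k2.add m, by simp [k.uw, k.ux]⟩ c1, tri h3 k.toI2 c1, tri h3 k1 c1, h.bi _ _ _ k,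
        smul_add, m.tE_add ⟨k4, by simp [k.xx], by simp [k.ux], by simp [k.wx]⟩, map_mul,
        (h3.Ew_fix (by rw [m.lin_tE k4]; simp [k.uu, m.swap k.uw])
          (by rw [m.lin_tE k4]; simp [k.ux, k.wx])).mul_mul_mul_comm])
  have hz : ∀ u, B u u = 0 → cx y t (tT B u 1) = f u * φ (tT B u γ) := fun u hu => by
    rw [cx_apply, hy u hu, ← conj_mul, h3.t_f hu, (h.tc _).mul_inv_cancel, mul_assoc, ← map_mul,
      ← m.tT_add hu o c1, show 1 + (γ + 1) = γ by linear_combination m.two]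
  have my : Mod y := ⟨m, (m.normal_or _ inferInstance).resolve_right fun e => by
    obtain ⟨u, u0, hu⟩ := m.exists_iso
    have e2 := (hy u hu).symm.trans (e.ge (mem_top _))
    have e3 := h.tf u hu
    rw [eq_inv_of_mul_eq_one_left e2, inv_inv, ← (h.tc _).inv_right.eq, inv_mul_cancel_right,
      left_eq_mul] at e3
    exact m.tT_ne hu u0 o one_ne_zero (h.toMod.inj2 (.of_sq (m.tT_sq hu o)) e3)⟩
  have com : ∀ g k, Commute (y g) (cx y t k) := fun g k => mem_C1.1
    ((m.gen_T (H := (C1 _).comap y) fun u hu => mem_C1.2 (mem_C1.1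
      ((m.gen_T (H := (C1 _).comap (cx y t)) fun w hw => mem_C1.2 (by
        rw [hy u hu, hz w hw]; exact (h.split_comm hγ fγ hu hw).symm)).ge (mem_top k))).symm).ge
      (mem_top g))
  have res : ∀ g, φ g = y g * cx y t g := fun g => DFunLike.congr_fun (m.hom_ext (φ := φ)
    (ψ := MonoidHom.mk' (fun g => y g * cx y t g) fun a b => by
      rw [map_mul, map_mul, (com b a).mul_mul_mul_comm]) fun u hu => by
      rw [MonoidHom.mk'_apply, hy u hu, hz u hu, yz u hu _ _ c1 fγ, e1]) g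
  have gen : ∀ H : Subgroup G, φ.range ≤ H → (∀ u, f u ∈ H) → y.range ⊔ (cx y t).range ≤ H :=
    fun H k1 k2 => by
      have : ∀ g, y g ∈ H := fun g => (m.gen_T (H := H.comap y) fun u hu => by
        rw [mem_comap, hy u hu]; exact mul_mem (k2 u) (k1 ⟨_, rfl⟩)).ge (mem_top g)
      refine sup_le (by rintro _ ⟨g, rfl⟩; exact this g) ?_
      rintro _ ⟨g, rfl⟩
      exact (mul_mem_cancel_left (this g)).1 (res g ▸ k1 ⟨g, rfl⟩)
  have Ll : φ.range ≤ y.range ⊔ (cx y t).range := by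
    rintro _ ⟨g, rfl⟩
    rw [res]
    exact mul_mem (mem_sup_left ⟨g, rfl⟩) (mem_sup_right ⟨g, rfl⟩)
  refine ⟨y, cx y t, h.toH1, my, my.cx t, res, com, fun _ => rfl, le_Cs_comm.1 (gen _
    (le_Cs_comm.1 (Ot_le.trans inf_le_right)) h.cO), ?_⟩
  rw [le_antisymm (gen (GG φ f) le_sup_left fun u => mem_sup_right (subset_closure ⟨u, rfl⟩))
    (sup_le Ll ((closure_le _).2 ?_))]
  · exact h.nL
  · rintro _ ⟨u, rfl⟩
    by_cases hu : B u u = 0
    · exact (mul_mem_cancel_right (Ll ⟨_, rfl⟩)).1 (mem_sup_left ⟨_, hy u hu⟩)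
    · rw [h.junk u hu]; exact one_mem _

end Cfsg.Lib.SU5
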