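import Cfsg.Agent.SU5.E1c
import Cfsg.Agent.SU5.S1
import Cfsg.Agent.SU5.KIT

/-!
# Standard subgroups of type `U₅(2ⁿ)`: the group `SL₅(q²)` in the field case
-/

set_option autoImplicit false
set_option linter.unusedSectionVars false
set_option linter.unusedVariables false

namespace Cfsg.Lib.SU5

open Subgroup Module Cfsg.Lib.Trans Cfsg.Lib.Gold Cfsg.Lib.Class.Form Cfsg.Lib.Class.FAut
open scoped commutatorElement

variable {G E M : Type*} [Group G] [Finite G] [Field E] [Finite E] [AddCommGroup M] [Module E M]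
  [FiniteDimensional E M] {σ : E →+* E} {B : M →ₛₗ[σ] M →ₗ[E] E} {φ : sIsom B →* G} {t : G}
  {A : M → M → G} {u w : M}

namespace E1d

open E1c

theorem sub {ι : Type*} [DecidableEq ι] {d : ι → M}
    (hd : ∀ i j, B (d i) (d j) = if i = j then 1 else 0) (m : Mo B) (S : Finset ι) :
    NondegOn B (Submodule.span E (d '' S)) ∧ finrank E (Submodule.span E (d '' S)) = S.card := by
  refine ⟨fun u hu k => ?_, ?_⟩
  · rw [Set.image_eq_range, Submodule.mem_span_range_iff_exists_fun] at hu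
    obtain ⟨c, rfl⟩ := hu
    refine Finset.sum_eq_zero fun i _ => ?_
    have := m.swap (k (d i) (Submodule.subset_span ⟨i, i.2, rfl⟩))
    simp only [map_sum, map_smul, hd, smul_eq_mul, mul_ite, mul_one, mul_zero, Subtype.val_inj,
      Finset.sum_ite_eq, Finset.mem_univ, if_true] at this
    rw [this, zero_smul]
  · rw [Set.image_eq_range]
    exact (finrank_span_eq_card ((Class.Form.linearIndependent_of_orthonormal hd).comp _
      Subtype.val_injective)).trans (by simp)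

theorem mono {N N' : Submodule E M} (e : N ≤ N') : Dl B A N ≤ Dl B A N' :=
  closure_mono fun _ ⟨u, hu, w, hw, k⟩ => ⟨u, e hu, w, e hw, k⟩

theorem uniq (h : HA φ t A) {N : Submodule E M} (hN : NondegOn B N) (h6 : finrank E N = 4)
    {p q : (M ≃ₗ[E] M) × G} (hp : p ∈ Dl B A N) (hq : q ∈ Dl B A N) (e : p.1 = q.1) : p.2 = q.2 := by
  have := mul_mem (inv_mem hp) hq
  rw [Prod.mul_def, Prod.fst_inv, e, inv_mul_cancel] at this
  exact inv_mul_eq_one.1 (h.graph hN h6 this)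

theorem tv_dual (m : Mo B) (e : B u w = 0) (x y : M) : B (tv B u w x) (tv B w u y) = B x y := by
  rw [tv_apply (m.swap e), tv_apply e]
  simp only [map_add, map_smul, map_smulₛₗ, LinearMap.add_apply, LinearMap.smul_apply, smul_eq_mul, e,
    m.toHerm.conj w x]
  linear_combination (B u y * B x w) * m.two

theorem dual (h : HA φ t A) {N : Submodule E M} {p : (M ≃ₗ[E] M) × G} (hp : p ∈ Dl B A N) :
    ∃ a, (a, t * p.2 * t⁻¹) ∈ Dl B A N ∧ ∀ x y, B (p.1 x) (a y) = B x y := by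
  induction hp using closure_induction with
  | mem p hp =>
    obtain ⟨u, hu, w, hw, k, rfl⟩ := hp
    exact ⟨tv B w u, subset_closure ⟨w, hw, u, hu, k.symm h.toMo, by rw [h.act u w k]⟩,
      tv_dual h.toMo k.uw⟩
  | one => exact ⟨1, by rw [Prod.snd_one, mul_one, mul_inv_cancel]; exact one_mem _, fun _ _ => rfl⟩
  | mul p q _ _ hp hq =>
    obtain ⟨a, h1, h2⟩ := hp
    obtain ⟨b, h3, h4⟩ := hq
    refine ⟨a * b, ?_, fun x y => (h2 _ _).trans (h4 x y)⟩
    convert mul_mem h1 h3 using 1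
    exact Prod.ext rfl (by simp [mul_assoc])
  | inv p _ hp =>
    obtain ⟨a, h1, h2⟩ := hp
    refine ⟨a⁻¹, ?_, fun x y => ?_⟩
    · convert inv_mem h1 using 1
      exact Prod.ext rfl (by simp [mul_assoc])
    · rw [← h2]; simp

theorem supp (m : Mo B) {N : Submodule E M} (hN : NondegOn B N) (h6 : finrank E N = 4)
    (k : I2 B u w) (w0 : w ≠ 0) :
    ∃ g : sIsom B, ∃ u' ∈ N, ∃ w' ∈ N, I2 B u' w' ∧ lin g u' = u ∧ lin g w' = w := by
  obtain ⟨e, f, d, k', rfl⟩ := m.fr_of hN h6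
  have me : ∀ i, e i ∈ Submodule.span E (Set.range (bv e f)) := fun i =>
    Submodule.subset_span (GN5.range_bv e f ▸ ⟨.inl i, rfl⟩)
  have e0 : e 0 ≠ 0 := (k'.li1 m).ne_zero 0
  by_cases l : LinearIndependent E ![w, u]
  · obtain ⟨g, h1, h2⟩ := m.tr2 k'.i2 (k'.li1 m) (k.symm m) l
    exact ⟨g, _, me 1, _, me 0, k'.i2.symm m, h2, h1⟩
  · obtain ⟨c, rfl⟩ : ∃ c : E, c • w = u := by
      by_contra n
      exact l ((LinearIndependent.pair_iff' w0).2 fun a e => n ⟨a, e⟩)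
    obtain ⟨g, h1⟩ := m.tr1 (k'.ee 0 0) e0 k.ww w0
    exact ⟨g, c • e 0, Submodule.smul_mem _ _ (me 0), _, me 0,
      ⟨by simp [k'.ee], k'.ee _ _, by simp [k'.ee]⟩, by rw [map_smul, h1], h1⟩

end E1d

open E1c E1d in
theorem HA.ef (h : HA φ t A) : ∃ ψ, EF φ t ψ := by
  have m := h.toMo
  have six := m.ge5
  obtain ⟨d, hd⟩ := m.toHerm.exists_orthonormal_basis (n := finrank E M) rfl
  obtain ⟨κ, -, h2, -⟩ := m.kap (b := d) (d := d) fun i j => by rw [hd]; simp [eq_comm]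
  have sb := sub hd m
  have uq := fun (S : Finset (Fin (finrank E M))) (hS : S.card = 4) =>
    @uniq _ _ _ _ _ _ _ _ _ _ _ _ _ _ _ h _ (sb S).1 ((sb S).2.trans hS)
  have big6 : ∀ S : Finset (Fin (finrank E M)), S.card ≤ 4 → ∃ U, S ⊆ U ∧ U.card = 4 := fun S hS =>
    S.exists_superset_card_eq hS (by simp; omega)
  have mo : ∀ S T : Finset (Fin (finrank E M)), S ⊆ T →
      Dl B A (Submodule.span E (d '' S)) ≤ Dl B A (Submodule.span E (d '' T)) := fun S T e =>
    mono (Submodule.span_mono (Set.image_mono e))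
  have md : ∀ (S : Finset (Fin (finrank E M))) i, i ∈ S → d i ∈ Submodule.span E (d '' S) :=
    fun S i hi => Submodule.subset_span ⟨i, hi, rfl⟩
  have ex : ∀ i j (s : E), ∃ g, i ≠ j → ∀ S : Finset (Fin (finrank E M)), S.card = 4 → i ∈ S → j ∈ S →
      (κ (Chev.slE i j s), g) ∈ Dl B A (Submodule.span E (d '' S)) := fun i j s => by
    by_cases n : i = j
    · exact ⟨1, fun k => absurd n k⟩
    obtain ⟨p, hp, e⟩ := m.gen_two (sb {i, j}).1 ((sb _).2.trans (Finset.card_pair n))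
      (H := (Dl B A (Submodule.span E (d '' ({i, j} : Finset _)))).map (MonoidHom.fst _ _))
      (fun u hu w hw k => ⟨_, subset_closure ⟨u, hu, w, hw, k, rfl⟩, rfl⟩)
      (Submodule.smul_mem _ s (md _ i (by simp))) (md _ j (by simp)) (by simp [hd, Ne.symm n])
    refine ⟨p.2, fun _ S _ hi hj => mo {i, j} S (by simp [Finset.insert_subset_iff, hi, hj]) ?_⟩
    rw [h2 i j s n, ← e]
    exact hp
  choose e he using ex
  have ix : ∀ a b c f : Fin (finrank E M), ∃ S : Finset (Fin (finrank E M)), S.card = 4 ∧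
      a ∈ S ∧ b ∈ S ∧ c ∈ S ∧ f ∈ S := fun a b c f => by
    obtain ⟨U, h3, h4⟩ := big6 {a, b, c, f} Finset.card_le_four
    exact ⟨U, h4, h3 (by simp), h3 (by simp), h3 (by simp), h3 (by simp)⟩
  have st : Chev.StA e := by
    refine ⟨fun a b n p q => ?_, fun a b c h1 h2 h3 p q => ?_, fun a b c f h1 h2 h3 h4 p q => ?_⟩
    · obtain ⟨S, hS, ha, hb, -⟩ := ix a b a a
      exact uq S hS (mul_mem (he a b p n S hS ha hb) (he a b q n S hS ha hb)) (he a b _ n S hS ha hb)
        ((κ.map_mul _ _).symm.trans (congrArg κ (Chev.stA_slE.add a b n p q)))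
    · obtain ⟨S, hS, ha, hb, hc, -⟩ := ix a b c a
      refine uq S hS (mul_mem (he a b p h1 S hS ha hb) (he b c q h2 S hS hb hc)) (mul_mem
        (mul_mem (he a c _ h3 S hS ha hc) (he b c q h2 S hS hb hc)) (he a b p h1 S hS ha hb)) ?_
      simp only [Prod.fst_mul, ← map_mul, Chev.stA_slE.comm a b c h1 h2 h3]
    · obtain ⟨S, hS, ha, hb, hc, hf⟩ := ix a b c f
      refine uq S hS (mul_mem (he a b p h1 S hS ha hb) (he c f q h2 S hS hc hf))
        (mul_mem (he c f q h2 S hS hc hf) (he a b p h1 S hS ha hb)) ?_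
      simp only [Prod.fst_mul, ← map_mul, (Chev.stA_slE.commute a b c f h1 h2 h3 h4 p q).eq]
  obtain ⟨ψ, hψ⟩ := Known.stA_exists_hom st (by simp; omega)
  have gen : ∀ S : Finset (Fin (finrank E M)), S.card = 4 → ∀ u ∈ Submodule.span E (d '' S),
      ∀ w ∈ Submodule.span E (d '' S), I2 B u w → (tv B u w, A u w) ∈ (κ.prod ψ).range :=
    fun S hS u hu w hw k => by
    obtain ⟨κ', -, h3, h4⟩ := m.kap (b := fun i : S => d i) (d := fun i : S => d i) fun i j => by
      rw [hd]; simp [eq_comm, Subtype.val_inj]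
    rw [Set.image_eq_range] at hu hw
    obtain ⟨x, hx⟩ := h4 u hu w hw (m.swap k.uw)
    obtain ⟨p, ⟨h5, h6⟩, h7⟩ := (Chev.closure_slE ((((κ.prod ψ).range ⊓
      Dl B A (Submodule.span E (d '' S))).map (MonoidHom.fst _ _)).comap κ') fun i j n s => by
        have n' : (i : Fin (finrank E M)) ≠ j := fun k => n (Subtype.ext k)
        exact ⟨(κ (Chev.slE i.1 j.1 s), e i j s), ⟨⟨Chev.slE i.1 j.1 s, Prod.ext rfl (hψ _ _ s n')⟩, he _ _ s n' S hS i.2 j.2⟩,
          (h2 _ _ s n').trans (h3 i j s n).symm⟩).ge (mem_top x)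
    rw [← Set.image_eq_range] at hu hw
    rwa [← (Prod.ext (h7.trans hx) (uq S hS h6 (subset_closure ⟨u, hu, w, hw, k, rfl⟩)
      (h7.trans hx)) : p = (tv B u w, A u w))]
  have top : (κ.prod ψ).range.comap (pr φ) = ⊤ := m.supp d hd fun S hS u hu k => by
    rw [mem_comap, pr_tT h k]; exact gen S hS u hu u hu (.self k)
  have snd : ∀ p ∈ (κ.prod ψ).range, p.2 ∈ ψ.range := fun p ⟨x, hx⟩ => ⟨x, congrArg Prod.snd hx⟩
  have le : φ.range ≤ ψ.range := by
    rintro _ ⟨g, rfl⟩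
    exact snd _ (top.ge (mem_top g))
  have cl : closure {g | ∃ u w, I2 B u w ∧ g = A u w} = ψ.range := by
    refine le_antisymm ((closure_le _).2 ?_) ?_
    · rintro _ ⟨u, w, k, rfl⟩
      by_cases w0 : w = 0
      · rw [w0, show A u 0 = 1 from h.z2 u]; exact one_mem _
      obtain ⟨S, -, hS⟩ := big6 ∅ (by simp)
      obtain ⟨g, u, hu, w, hw, k', rfl, rfl⟩ := supp m (sb S).1 ((sb S).2.trans hS) k w0
      rw [← h.eqv g u w k']
      exact mul_mem (mul_mem (le ⟨g, rfl⟩) (snd _ (gen S hS u hu w hw k'))) (inv_mem (le ⟨g, rfl⟩))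
    · rintro _ ⟨x, rfl⟩
      refine (Chev.closure_slE ((Subgroup.closure _).comap ψ) fun i j n s => ?_).ge (mem_top x)
      obtain ⟨S, hS, hi, hj, -⟩ := ix i j i i
      rw [mem_comap, hψ i j s n]
      exact (show Dl B A _ ≤ (Subgroup.closure _).comap (MonoidHom.snd _ _) from (closure_le _).2 (by
        rintro _ ⟨u, -, w, -, k, rfl⟩
        exact subset_closure ⟨u, w, k, rfl⟩)) (he i j s n S hS hi hj)
  have h3 : 3 ≤ Fintype.card (Fin (finrank E M)) := by simp; omega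
  refine ⟨ψ, h.toH1, ⟨m.two, m.ss, m.ne_id, m.five, (IsQuasisimple.eq_top_or_le_center
    ⟨⟨Class.SL_commutator_eq_top h3⟩, Class.PSL_isSimpleGroup h3⟩ ψ.ker inferInstance).resolve_left
      fun k => ?_⟩, le, fun g => ?_, fun o ho => ?_, cl ▸ h.nL⟩
  · obtain ⟨u, u0, hu⟩ := m.exists_iso
    obtain ⟨x, hx⟩ := le ⟨tT B u 1, rfl⟩
    exact m.tT_ne hu u0 σ.map_one one_ne_zero (h.toMod.inj2 (.of_sq (m.tT_sq hu σ.map_one))
      (hx.symm.trans (k.ge (mem_top x))))
  · refine (Chev.closure_slE (((MulAut.conj t).toMonoidHom.comp ψ).eqLocus (ψ.comp (gm (sg σ) true)))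
      fun i j n s => ?_).ge (mem_top g)
    change t * ψ _ * t⁻¹ = ψ (gm _ _ _)
    obtain ⟨S, hS, hi, hj, -⟩ := ix i j i i
    obtain ⟨a, h4, h5⟩ := dual h (he i j s n S hS hi hj)
    rw [gm_slE m.two _ n, hψ i j s n, hψ j i _ n.symm]
    refine uq S hS h4 (he j i _ n.symm S hS hj hi) (LinearEquiv.ext fun y => ?_)
    have o : B (s • d i) (d j) = 0 := by simp [hd, n]
    change a y = κ _ y
    rw [h2 j i _ n.symm, m.sg_apply, tv_sw m (by simp [hd, n]), m.ss]
    refine sub_eq_zero.1 (m.sep _ fun x => m.swap ?_)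
    obtain ⟨x, rfl⟩ := (κ (Chev.slE i j s)).surjective x
    rw [map_sub, h5, h2 i j s n, tv_dual m o, sub_self]
  · rw [← cl, Gold.mem_Cs]
    refine fun g hg => Gold.mem_C1.1 ((closure_le (C1 o)).2 ?_ hg)
    rintro _ ⟨u, w, k, rfl⟩
    exact Gold.mem_C1.2 (Gold.mem_Cs.1 (h.cO u w k) o ho).symm

end Cfsg.Lib.SU5
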