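import Cfsg.Agent.SU5.EFa
import Cfsg.Agent.SG2.EFf
import Cfsg.Agent.SU4.UFT

/-!
# Standard subgroups of type `U_m(2ⁿ)`: the field case, the Sylow subgroup
-/

set_option autoImplicit false
set_option linter.unusedSectionVars false

namespace Cfsg.Lib.SU5

open Subgroup Module Cfsg.Lib.Trans Cfsg.Lib.Gold Cfsg.Lib.Class.Form Cfsg.Lib.Class.FAut
open Cfsg.Lib.SG2 (Uq Top Pp)
open Cfsg.Lib.Comp (Tw)
open scoped commutatorElement

variable {G E M : Type*} [Group G] [Finite G] [Field E] [Finite E] [AddCommGroup M] [Module E M]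
  [FiniteDimensional E M] {σ : E →+* E} {B : M →ₛₗ[σ] M →ₗ[E] E} {φ : sIsom B →* G} {t : G}
  {ψ : Matrix.SpecialLinearGroup (Fin (finrank E M)) E →* G} {X : Subgroup G}

open EFa

namespace EFf

/-- Elements inducing no graph automorphism. -/
def T0 (h : MS σ ψ) : Subgroup G where
  carrier := {m | ∃ τ, Th ψ m τ false}
  one_mem' := ⟨1, th_one⟩
  mul_mem' := fun ⟨_, k⟩ ⟨_, k'⟩ => ⟨_, th_mul0 k k'⟩
  inv_mem' := fun ⟨_, k⟩ => ⟨_, th_inv h k⟩

/-- Elements inducing inner-diagonal automorphisms. -/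
def T1 (h : MS σ ψ) : Subgroup G where
  carrier := {m | Th ψ m 1 false}
  one_mem' := th_one
  mul_mem' k k' := by simpa using th_mul0 k k'
  inv_mem' k := by simpa using th_inv h k

/-- Elements inducing the square of the automorphism of an element of `X`. -/
def N0 (h : MS σ ψ) (X : Subgroup G) : Subgroup G where
  carrier := {m | ∃ m' ∈ X, ∃ τ b, Th ψ m' τ b ∧ Th ψ m (τ * τ) false}
  one_mem' := ⟨1, X.one_mem, 1, false, th_one, by rw [mul_one]; exact th_one⟩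
  mul_mem' := by
    rintro _ _ ⟨m, hm, τ, b, h1, h2⟩ ⟨m', hm', τ', b', h1', h2'⟩
    refine ⟨_, X.mul_mem hm hm', _, _, h1.mul h1', ?_⟩
    rw [mul_assoc, ← mul_assoc τ', aut_comm τ' τ, mul_assoc, ← mul_assoc]
    exact th_mul0 h2 h2'
  inv_mem' := by
    rintro _ ⟨m, hm, τ, b, h1, h2⟩
    exact ⟨_, X.inv_mem hm, _, _, th_inv h h1, by rw [← mul_inv_rev]; exact th_inv h h2⟩

theorem notX (h : EF φ t ψ) (hX : Top X t) : t ∉ X := by
  intro ht
  have ex := fun m hm => h.ms.exists_Th (c := m) hm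
  have hT : X = ⊤ := by rw [← hX.top, sup_eq_left.2 (zpowers_le.2 ht)]
  obtain ⟨S, hS, hSt⟩ := exists_isSylowIn_ge (Comp.Tw.of_sq h.t2).isPGroup (le_top (a := zpowers t))
  have hM : S ≤ Ns ψ.range := h.uq.two_le (th_t h).mem hS.isPGroup (hSt (mem_zpowers t))
  obtain ⟨a, h1, ⟨τ, h2⟩, -⟩ := thompson_transfer_involution (H := S) (T := T0 h.ms)
    (by simpa using hS.not_dvd)
    (fun u hu v hv => by
      obtain ⟨_, _, h1⟩ := ex u (hM hu)
      obtain ⟨_, _, h2⟩ := ex v (hM hv)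
      exact ⟨1, th_comm h.ms h1 h2⟩)
    (fun u hu => by
      obtain ⟨k, hk⟩ := Comp.Tw.of_mem hS.isPGroup hu
      exact ⟨k, by rw [hk]; exact one_mem _⟩)
    t (Bender.orderOf_eq_two h.t1 h.t2)
    (fun u hu v hv _ _ un vn => by
      obtain ⟨_, b, h1⟩ := ex u (hM hu)
      obtain ⟨_, b', h2⟩ := ex v (hM hv)
      cases b
      · exact absurd ⟨_, h1⟩ un
      cases b'
      · exact absurd ⟨_, h2⟩ vn
      exact ⟨_, th_mul0 h1 h2⟩)
    (mem_sup_left (by rw [_root_.commutator_def, ← hT, hX.perf]; exact ht)) ⊥ IsPGroup.of_bot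
    (fun r hr => by rw [mem_bot.1 hr, one_mul, mul_one])
  obtain ⟨ρ, b, hρ⟩ := ex _ (h.uq a⁻¹ (by rw [inv_inv]; exact hM h1))
  have := th_conj h.ms (th_t h) hρ
  rw [inv_inv] at this
  exact Bool.noConfusion (this.uniq h.ms h2).2

theorem le (h : EF φ t ψ) (hX : Top X t) : ψ.range ≤ X := by
  rw [← h.ms.perf]
  exact commutator_le.2 fun a _ b _ => hX.ef_comm h.t2 a b

theorem root (h : EF φ t ψ) (hX : Top X t) {m : G} (hm : m ∈ X) {τ : E ≃+* E} {b : Bool}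
    (hτ : Th ψ m τ b) : b = false ∧ ∃ m' ∈ X, ∃ τ' b', Th ψ m' τ' b' ∧ τ' * τ' = τ := by
  have ex := fun m hm => h.ms.exists_Th (c := m) hm
  have hc := th_conj h.ms (th_t h) hτ
  obtain ⟨k, hk, e⟩ := Th.herm h.ms h.odd h.t2 h.act hc (Comp.conj_sq h.t2 m)
  have hk' : k ∈ X ⊓ T1 h.ms := (sup_le (zpowers_le.2 ⟨by
      have := hX.ef_comm h.t2 t m
      rwa [commutatorElement_def, inv_eq_of_mul_eq_one_right h.t2, mul_assoc, mul_assoc,
        ← mul_assoc m] at this, by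
      have := th_mul0 (th_t h) hc
      rwa [h.toMo.sg_sq] at this⟩)
    (le_inf (le h hX) fun _ hg => Th.of_mem (mem_sup_left hg)) : _ ≤ X ⊓ T1 h.ms) hk
  obtain ⟨m', hm', τ', b', h1, h2⟩ := SU4.uft (N := N0 h.ms X) hX h.t2 (notX h hX) (th_t h).mem h.uq
    (fun a ha c hc => by
      obtain ⟨_, _, h1⟩ := ex a ha.1
      obtain ⟨_, _, h2⟩ := ex c hc.1
      exact ⟨1, X.one_mem, 1, false, th_one, by rw [mul_one]; exact th_comm h.ms h1 h2⟩)
    (fun a ha hn => by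
      obtain ⟨ρ, c, h1⟩ := ex a ha
      refine ⟨_, (hX.ef_or h.t2 a).resolve_left hn, _, _, h1.mul (th_t h), ?_⟩
      rw [mul_assoc, ← mul_assoc (sg σ), aut_comm (sg σ) ρ, mul_assoc, h.toMo.sg_sq, mul_one]
      exact th_mul0 h1 h1)
    (show k * m ∈ X ⊓ C1 t from ⟨mul_mem hk'.1 hm, mem_C1.2 (by
      conv_rhs => rw [← e]
      group)⟩)
  have := (Th.mul hk'.2 hτ).uniq h.ms h2
  rw [one_mul, Bool.false_xor] at this
  exact ⟨this.2, m', hm', τ', b', h1, this.1.symm⟩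

theorem two (h : EF φ t ψ) (hX : Top X t) {g : G} (hg : g ∈ X ⊓ Ns ψ.range) (h2 : Tw g) :
    g ∈ ψ.range := by
  have : Finite (E ≃+* E) := DFunLike.finite _
  let S := {τ : E ≃+* E // ∃ m ∈ X, ∃ b, Th ψ m τ b}
  let f : S → S := fun τ => ⟨τ.1 * τ.1, by
    obtain ⟨m, hm, b, h⟩ := τ.2
    exact ⟨_, mul_mem hm hm, _, h.mul h⟩⟩
  have hf : Function.Injective f := Finite.injective_iff_surjective.2 fun ⟨τ, m, hm, b, h1⟩ => by
    obtain ⟨-, m', hm', τ', b', h2, e⟩ := root h hX hm h1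
    exact ⟨⟨τ', m', hm', b', h2⟩, Subtype.ext e⟩
  have key : ∀ k : ℕ, ∀ m ∈ X, m ^ 2 ^ k = 1 → ∀ τ b, Th ψ m τ b → τ = 1 := by
    intro k
    induction k with
    | zero =>
      intro m _ e τ b h1
      rw [pow_zero, pow_one] at e
      rw [e] at h1
      exact (h1.uniq h.ms th_one).1
    | succ k ih =>
      intro m hm e τ b h1
      have := ih _ (mul_mem hm hm) (by rwa [← pow_two, ← pow_mul, ← pow_succ']) _ _ (h1.mul h1)
      exact congrArg Subtype.val (hf (a₁ := ⟨τ, m, hm, b, h1⟩)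
        (a₂ := ⟨1, 1, X.one_mem, false, th_one⟩) (Subtype.ext (this.trans (mul_one 1).symm)))
  obtain ⟨τ, b, hτ⟩ := h.ms.exists_Th hg.2
  obtain ⟨k, hk⟩ := id h2
  obtain rfl := key k g hg.1 hk τ b hτ
  obtain rfl := (root h hX hg.1 hτ).1
  exact hτ.two h.ms h.odd h2

end EFf

open EFf in
theorem EF.iso {ψ} (h : EF φ t ψ) (hX : Top X t) :
    Nonempty (X ≃* Matrix.ProjectiveSpecialLinearGroup (Fin (finrank E M)) E) := by
  obtain ⟨S, hs, -⟩ := exists_isSylowIn_ge (IsPGroup.of_bot (p := 2)) (bot_le (a := ψ.range))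
  refine h.ms.ident hX.simple hs ?_
  obtain ⟨P, hP, -⟩ := exists_isSylowIn_ge hs.isPGroup (hs.le.trans (EFf.le h hX))
  obtain ⟨k, -, hk⟩ := h.uq.conj_le (th_t h).mem h.t2 (Y := ⊤) trivial hP.isPGroup le_top
  have h1 : cj k P ≤ ψ.range := fun g hg => two h hX
    ⟨cj_le_iff.2 (fun p hp => hX.normal.conj_mem _ (hP.le hp) k) hg, hk hg⟩
    (Comp.Tw.of_mem (isPGroup_cj hP.isPGroup k) hg)
  refine hP.of_card_ge hs.isPGroup (hs.le.trans (EFf.le h hX)) ?_
  rw [← card_cj k P]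
  exact hs.card_le (isPGroup_cj hP.isPGroup k) h1

end Cfsg.Lib.SU5
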