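import Cfsg.Agent.SU5.P1a
import Cfsg.Agent.SU5.K4

/-!
# Standard subgroups of type `U_m(2ⁿ)`: the groups `J_W`
-/

set_option autoImplicit false
set_option linter.unusedSectionVars false
set_option linter.unusedVariables false

namespace Cfsg.Lib.SU5

open Subgroup Module Cfsg.Lib.Trans Cfsg.Lib.Gold Cfsg.Lib.Class.Form Cfsg.Lib.Class.FAut
open Cfsg.Lib.SG2 (Uq Top Pp)
open Cfsg.Lib.Comp (Tw)
open scoped commutatorElement

variable {G E M : Type*} [Group G] [Finite G] [Field E] [Finite E] [AddCommGroup M] [Module E M]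
  [FiniteDimensional E M] {σ : E →+* E} {B : M →ₛₗ[σ] M →ₗ[E] E} {φ φ' : sIsom B →* G} {t : G}

namespace P3a

theorem tw_mul {D : Subgroup G} (h : ∀ d ∈ D, d ^ 4 ∈ Cs D) {a b : G} (ha : a ∈ D) (hb : b ∈ D)
    (h1 : Tw a) (h2 : Tw b) : Tw (a * b) := by
  have hp : IsPGroup 2 (D ⧸ center D) := fun x => by
    obtain ⟨d, rfl⟩ := QuotientGroup.mk_surjective x
    refine ⟨2, ?_⟩
    rw [← QuotientGroup.mk_pow, QuotientGroup.eq_one_iff]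
    exact mem_center_iff.2 fun g => Subtype.ext (mem_Cs.1 (h d d.2) g g.2)
  obtain ⟨n, hn⟩ := IsPGroup.iff_card.1 hp
  obtain ⟨k, hk⟩ := h1
  obtain ⟨l, hl⟩ := h2
  have e := (MonoidHom.transferCenterPow D).map_mul ⟨a, ha⟩ ⟨b, hb⟩
  have c : Commute (MonoidHom.transferCenterPow D ⟨a, ha⟩) (MonoidHom.transferCenterPow D ⟨b, hb⟩) :=
    Subtype.ext (mem_center_iff.1 (Subtype.prop _) _)
  have e2 : MonoidHom.transferCenterPow D (⟨a, ha⟩ * ⟨b, hb⟩) ^ 2 ^ (k + l) = 1 := by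
    rw [e, c.mul_pow, ← map_pow, ← map_pow,
      show (⟨a, ha⟩ : D) ^ 2 ^ (k + l) = 1 from Subtype.ext (by
        rw [coe_pow, pow_add, pow_mul, hk, one_pow, coe_one]),
      show (⟨b, hb⟩ : D) ^ 2 ^ (k + l) = 1 from Subtype.ext (by
        rw [coe_pow, add_comm, pow_add, pow_mul, hl, one_pow, coe_one]), map_one, mul_one]
  have e3 := congrArg (fun x : center D => ((x : D) : G)) e2
  simp only [coe_pow, MonoidHom.transferCenterPow_apply, coe_mul, coe_one] at e3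
  refine ⟨n + (k + l), ?_⟩
  rw [pow_add, pow_mul, ← hn]
  exact e3

theorem pow_conj {x y w : G} (e : x * y * x⁻¹ = y * w) (c : Commute x w) (n : ℕ) :
    x ^ n * y * (x ^ n)⁻¹ = y * w ^ n := by
  induction n with
  | zero => simp
  | succ n ih =>
    calc _ = x * (x ^ n * y * (x ^ n)⁻¹) * x⁻¹ := by group
      _ = x * y * x⁻¹ * (x * w ^ n * x⁻¹) := by rw [ih]; group
      _ = _ := by rw [e, Comp.conj_eq_of_comm (c.pow_right n), pow_succ', mul_assoc]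

theorem odd_pow_eq {w : G} (w2 : w * w = 1) {n : ℕ} (hn : Odd n) : w ^ n = w := by
  obtain ⟨k, rfl⟩ := hn
  rw [pow_succ, pow_mul, pow_two, w2, one_pow, one_mul]

theorem JJ_le {W : Submodule E M} : JJ φ t W ≤ DD φ t W := (closure_le _).2 fun _ hj => hj.1

theorem DD_cV (h : Mo B) {W : Submodule E M} (hW : TotIso B W) :
    DD φ t W ≤ Cs ((VW B W).map φ) := fun _ hd => Cs_anti (map_mono (h.VW_le_QW hW)) hd.1.1

theorem V_cF (h : Mo B) {W : Submodule E M} : (VW B W).map φ ≤ Cs ((Fx B W).map φ) := by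
  rintro _ ⟨v, hv, rfl⟩
  refine mem_Cs.2 ?_
  rintro _ ⟨p, hp, rfl⟩
  rw [← map_mul, ← map_mul, mem_Cs.1 (h.Fx_le_Cs hp) v hv]

theorem sq_A (h : Hyp φ t) {W : Submodule E M} (hW : TotIso B W) {v : sIsom B} (hv : v ∈ VW B W) :
    φ v * φ v = 1 ∧ t * φ v * (t * φ v) = 1 := by
  have h1 : φ v * φ v = 1 := by rw [← map_mul, h.toMo.sq_VW hW hv, map_one]
  exact ⟨h1, by rw [(h.tc v).symm.mul_mul_mul_comm, h.t2, h1, mul_one]⟩

end P3a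

open P3a

section JJ
variable {W W' : Submodule E M}

theorem H1.dd_tau (h : H1 φ t) (hW : TotIso B W) {d : G} (hd : d ∈ DD φ t W) :
    ∃ v ∈ VW B W, d * t * d⁻¹ = t * φ v := by
  obtain ⟨v, hv, e | e⟩ := h.toHyp.mem_A.1 (mem_normalizer_conj hd.2 (mem_sup_left (mem_zpowers t)))
  · refine absurd ⟨v, ?_⟩ h.toHyp.t_not
    have := mem_Cs.1 (DD_cV h.toMo hW hd) _ ⟨v, hv, rfl⟩
    calc φ v = d⁻¹ * (φ v * d) := by rw [this]; group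
      _ = t := by rw [← e]; group
  · exact ⟨v, hv, e⟩

theorem H1.mem_DD (h : H1 φ t) (hW : TotIso B W) {d : G} (h1 : d ∈ Cs ((QW B W).map φ))
    (h2 : d ∈ Cs (Ot φ t)) {v : sIsom B} (hv : v ∈ VW B W) (e : d * t * d⁻¹ = t * φ v) :
    d ∈ DD φ t W := by
  refine ⟨⟨h1, h2⟩, mem_normalizer_of_cj_le ?_⟩
  rw [cj_sup, cj_zpowers, e,
    mem_Ns_iff.1 (Cs_le_Ns (Cs_anti (map_mono (h.toMo.VW_le_QW hW)) h1))]
  exact sup_le (zpowers_le.2 (mul_mem_sup (mem_zpowers t) ⟨v, hv, rfl⟩)) le_sup_right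

namespace P3a

theorem sq_comm (h : H1 φ t) (hW : TotIso B W) {d : G} (hd : d ∈ DD φ t W) :
    Commute (d * d) t := by
  obtain ⟨v, hv, e⟩ := h.dd_tau hW hd
  have := pow_conj e (mem_Cs.1 (DD_cV h.toMo hW hd) _ ⟨v, hv, rfl⟩).symm 2
  rw [pow_two, pow_two, (sq_A h.toHyp hW hv).1, mul_one] at this
  exact Comp.comm_of_conj_eq this

theorem split (h : H1 φ t) (hW : TotIso B W) (h0 : W ≠ ⊥) {c : G} (h1 : Commute c t)
    (h2 : c ∈ Cs ((QW B W).map φ)) : ∃ v ∈ VW B W, ∃ o ∈ Ot φ t, c * c = o * o ∧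
      (c = φ v * o ∨ c = t * φ v * o) := by
  obtain ⟨v, hv, o, ho, e⟩ := h.cQ hW h0 h1 h2
  refine ⟨v, hv, o, ho, ?_, e⟩
  have c1 : Commute o (φ v) := (mem_Cs.1 (Ot_le ho).2 _ ⟨v, rfl⟩).symm
  have c2 : Commute o t := mem_C1.1 (Ot_le ho).1
  rcases e with rfl | rfl
  · rw [c1.mul_mul_mul_comm, (sq_A h.toHyp hW hv).1, one_mul]
  · rw [(c2.mul_right c1).mul_mul_mul_comm, (sq_A h.toHyp hW hv).2, one_mul]

end P3a

theorem H1.mem_JJ (h : H1 φ t) (hW : TotIso B W) (h0 : W ≠ ⊥) {j : G} :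
    j ∈ JJ φ t W ↔ j ∈ DD φ t W ∧ Tw j := by
  refine ⟨fun hj => ⟨JJ_le hj, ?_⟩, fun hj => subset_closure hj⟩
  induction hj using closure_induction with
  | mem x hx => exact hx.2
  | one => exact .of_sq (mul_one 1)
  | mul x y hx hy h1 h2 =>
    refine tw_mul (D := DD φ t W) (fun d hd => ?_) (JJ_le hx) (JJ_le hy) h1 h2
    obtain ⟨v, -, o, ho, e, -⟩ := split h hW h0 (sq_comm h hW hd) (mul_mem hd hd).1.1
    rw [show d ^ 4 = d * d * (d * d) by rw [← pow_two, ← pow_two, ← pow_mul], e]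
    exact le_Cs_comm.1 (fun x hx => hx.1.2 : DD φ t W ≤ Cs (Ot φ t)) (mul_mem ho ho)
  | inv x hx h1 => exact h1.imp fun k hk => by rw [inv_pow, hk, inv_one]

theorem H1.JJ_cV (h : H1 φ t) (hW : TotIso B W) : JJ φ t W ≤ Cs ((VW B W).map φ) :=
  JJ_le.trans (DD_cV h.toMo hW)

theorem H1.A_le_JJ (h : H1 φ t) (hW : TotIso B W) : zpowers t ⊔ (VW B W).map φ ≤ JJ φ t W := by
  refine sup_le (zpowers_le.2 (subset_closure ⟨⟨⟨Cs_anti (map_le_range _ _) h.toHyp.tC,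
    mem_Cs.2 fun o ho => mem_C1.1 (Ot_le ho).1⟩, le_normalizer (mem_sup_left (mem_zpowers t))⟩,
    .of_sq h.t2⟩)) ?_
  rintro _ ⟨v, hv, rfl⟩
  exact subset_closure ⟨⟨⟨Cs_anti (map_mono QW_le_Fx) (V_cF h.toMo ⟨v, hv, rfl⟩),
    mem_Cs.2 fun o ho => (mem_Cs.1 (Ot_le ho).2 _ ⟨v, rfl⟩).symm⟩,
    le_normalizer (mem_sup_right ⟨v, hv, rfl⟩)⟩, .of_sq (sq_A h.toHyp hW hv).1⟩

theorem H1.JJ_tau (h : H1 φ t) (hW : TotIso B W) {j : G} (hj : j ∈ JJ φ t W) :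
    ∃ v ∈ VW B W, j * t * j⁻¹ = t * φ v := h.dd_tau hW (JJ_le hj)

theorem H1.JJ_ker (h : H1 φ t) (hW : TotIso B W) (h0 : W ≠ ⊥) {j : G} (hj : j ∈ JJ φ t W)
    (e : Commute j t) : ∃ v ∈ VW B W, j = φ v ∨ j = t * φ v := by
  obtain ⟨v, hv, o, ho, e1, e2⟩ := split h hW h0 e (JJ_le hj).1.1
  have h1 : o * o = 1 := eq_one_of_mem_of_odd ((h.mem_JJ hW h0).1 (mul_mem hj hj)).2.isPGroup
    odd_card_Oc (e1 ▸ mem_zpowers _) (mul_mem ho ho)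
  rw [eq_one_of_sq_of_odd h1 (odd_Ot ho), mul_one, mul_one] at e2
  exact ⟨v, hv, e2⟩

theorem H1.JJ_eq (h : H1 φ t) (hW : TotIso B W) (h0 : W ≠ ⊥) {j j' : G} (hj : j ∈ JJ φ t W)
    (hj' : j' ∈ JJ φ t W) (e : j * t * j⁻¹ = j' * t * j'⁻¹) :
    ∃ v ∈ VW B W, j = j' * φ v ∨ j = j' * t * φ v := by
  obtain ⟨v, hv, e1⟩ := h.JJ_ker hW h0 (mul_mem (inv_mem hj') hj) (Comp.comm_of_conj_eq (by
    calc _ = j'⁻¹ * (j * t * j⁻¹) * j' := by group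
      _ = t := by rw [e]; group))
  refine ⟨v, hv, e1.imp (fun e => ?_) fun e => ?_⟩
  · rw [← e]; group
  · rw [mul_assoc, ← e]; group

theorem H1.JJ_mul (h : H1 φ t) (hW : TotIso B W) {j j' : G} (hj : j ∈ JJ φ t W)
    {v v' : sIsom B} (hv' : v' ∈ VW B W) (e : j * t * j⁻¹ = t * φ v)
    (e' : j' * t * j'⁻¹ = t * φ v') : j * j' * t * (j * j')⁻¹ = t * φ (v * v') := by
  calc _ = j * (j' * t * j'⁻¹) * j⁻¹ := by group
    _ = _ := by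
      rw [e', ← conj_mul', e, Comp.conj_eq_of_comm
        (mem_Cs.1 (h.JJ_cV hW hj) _ ⟨v', hv', rfl⟩).symm, map_mul, mul_assoc]

theorem H1.JJ_sq (h : H1 φ t) (hW : TotIso B W) (h0 : W ≠ ⊥) {j : G} (hj : j ∈ JJ φ t W) :
    j * j ∈ (VW B W).map φ := by
  obtain ⟨v, hv, e | e⟩ := h.JJ_ker hW h0 (mul_mem hj hj) (sq_comm h hW (JJ_le hj))
  · exact ⟨v, hv, e.symm⟩
  · have c : Commute j (φ v) := (mem_Cs.1 (h.JJ_cV hW hj) _ ⟨v, hv, rfl⟩).symm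
    have c2 : Commute j t := by
      have := ((Commute.refl j).mul_right (Commute.refl j)).mul_right c.inv_right
      rwa [e, mul_inv_cancel_right] at this
    have h1 : j * j = 1 := by
      obtain ⟨w, hw, rfl | rfl⟩ := h.JJ_ker hW h0 hj c2
      · exact (sq_A h.toHyp hW hw).1
      · exact (sq_A h.toHyp hW hw).2
    rw [h1]
    exact one_mem _

theorem H1.JJ_comm (h : H1 φ t) (hW : TotIso B W) (h0 : W ≠ ⊥) {j j' : G} (hj : j ∈ JJ φ t W)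
    (hj' : j' ∈ JJ φ t W) : ⁅j, j'⁆ ∈ (VW B W).map φ := by
  rw [show ⁅j, j'⁆ = j * j * (j⁻¹ * j' * (j⁻¹ * j')) * (j' * j')⁻¹ by group]
  exact mul_mem (mul_mem (h.JJ_sq hW h0 hj) (h.JJ_sq hW h0 (mul_mem (inv_mem hj) hj')))
    (inv_mem (h.JJ_sq hW h0 hj'))

theorem H1.cj_JJ (h : H1 φ t) {c : G} (hc : Commute c t) {α : MulAut (sIsom B)} {Γ : M ≃+ M}
    {τ : E ≃+* E} (k : Mp φ φ c α) (k' : Semi α Γ τ) (e : ∀ x, x ∈ W ↔ Γ x ∈ W') :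
    cj c (JJ φ t W) = JJ φ t W' := by
  obtain ⟨-, -, e1, e2, -⟩ := k'.sub e
  have hD : cj c (DD φ t W) = DD φ t W' := by
    rw [DD, DD, cj_inf, cj_inf, cj_Cs, cj_Cs, cj_Ns, cj_sup, cj_zpowers, k.cj_map, k.cj_map, e1, e2,
      Comp.conj_eq_of_comm hc, mem_Ns_iff.1 (h.toHyp.Ns_Ot (mem_C1.2 hc))]
  refine le_antisymm (cj_le_iff_le_cj_inv.2 ((closure_le _).2 fun j hj => ?_))
    ((closure_le _).2 fun j hj => ?_)
  · exact mem_cj_inv.2 (subset_closure ⟨hD ▸ conj_mem_cj.2 hj.1, hj.2.conj c⟩)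
  · refine mem_cj.2 (subset_closure ⟨mem_cj.1 (hD.ge hj.1), ?_⟩)
    simpa using hj.2.conj c⁻¹

theorem H1.cj_JJ' (h : H1 φ t) {g : sIsom B} (e : ∀ x, x ∈ W ↔ lin g x ∈ W') :
    cj (φ g) (JJ φ t W) = JJ φ t W' :=
  h.cj_JJ (h.tc g).symm (Mp.self g) (semi_conj g) e

namespace P3a

theorem onto1 (h : H2 φ t) {u : M} (hu : B u u = 0) {c : E} (hc : σ c = c) :
    ∃ j ∈ JJ φ t (E ∙ u) ⊓ Cs ((Fx B (E ∙ u)).map φ), j * t * j⁻¹ = t * φ (tT B u c) := by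
  obtain ⟨d, hd, e⟩ := h.mv u c hu hc
  have hT := h.toMo.tT_mem hu (Submodule.mem_span_singleton_self u) hc
  have h1 := h.toH1.mem_DD (ti1 hu) (Cs_anti (map_mono QW_le_Fx) hd.1) hd.2 hT e
  obtain ⟨k, m, hm, hk⟩ := Nat.exists_eq_two_pow_mul_odd (orderOf_pos d).ne'
  refine ⟨d ^ m, ⟨subset_closure ⟨pow_mem h1 m, k, ?_⟩, pow_mem hd.1 m⟩, ?_⟩
  · rw [← pow_mul, mul_comm, ← hk, pow_orderOf_eq_one]
  · rw [pow_conj e (mem_Cs.1 (DD_cV h.toMo (ti1 hu) h1) _ ⟨_, hT, rfl⟩).symm,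
      odd_pow_eq (sq_A h.toHyp (ti1 hu) hT).1 hm]

theorem cF (h : H2 φ t) {u : M} (hu : B u u = 0) (u0 : u ≠ 0) :
    JJ φ t (E ∙ u) ≤ Cs ((Fx B (E ∙ u)).map φ) := fun j hj => by
  obtain ⟨v, hv, e⟩ := h.toH1.JJ_tau (ti1 hu) hj
  obtain ⟨c, hc, rfl⟩ := (h.toMo.mem_RR hu).1 hv
  obtain ⟨j', hj', e'⟩ := onto1 h hu hc
  obtain ⟨w, hw, rfl | rfl⟩ := h.toH1.JJ_eq (ti1 hu) (by simpa using u0) hj hj'.1 (e.trans e'.symm)
  · exact mul_mem hj'.2 (V_cF h.toMo ⟨w, hw, rfl⟩)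
  · exact mul_mem (mul_mem hj'.2 (Cs_anti (map_le_range _ _) h.toHyp.tC)) (V_cF h.toMo ⟨w, hw, rfl⟩)

end P3a

theorem H2.JJ_onto1 (h : H2 φ t) {u : M} (hu : B u u = 0) {c : E} (hc : σ c = c) :
    ∃ j ∈ JJ φ t (E ∙ u), j * t * j⁻¹ = t * φ (tT B u c) :=
  let ⟨j, hj, e⟩ := onto1 h hu hc
  ⟨j, hj.1, e⟩

theorem H2.JJ_fix1 (h : H2 φ t) {u : M} (hu : B u u = 0) (u0 : u ≠ 0) {g : sIsom B} {a : E}
    (ha : σ a * a = 1) (e : lin g u = a • u) : φ g ∈ Cs (JJ φ t (E ∙ u)) := by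
  refine mem_Cs.2 fun j hj => (Comp.comm_of_conj_eq ?_).symm
  have hg : g ∈ St B (E ∙ u) := mem_St_of fun x hx => by
    obtain ⟨b, rfl⟩ := Submodule.mem_span_singleton.1 hx
    rw [map_smul, e]
    exact Submodule.smul_mem _ _ (Submodule.smul_mem _ _ (Submodule.mem_span_singleton_self u))
  have cR : ∀ v ∈ VW B (E ∙ u), Commute (φ g) (φ v) := fun v hv => by
    obtain ⟨c, hc, rfl⟩ := (h.toMo.mem_RR hu).1 hv
    refine Commute.map (Comp.comm_of_conj_eq ?_) φ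
    rw [h.toMo.tT_conj g hu hc, e, h.toMo.tT_smul hu a hc, ha, one_mul]
  have hj' : φ g * j * (φ g)⁻¹ ∈ JJ φ t (E ∙ u) := (h.toH1.cj_JJ' hg).le (conj_mem_cj.2 hj)
  obtain ⟨v, hv, e1⟩ := h.toH1.JJ_tau (ti1 hu) hj
  obtain ⟨w, w2, cw, e2⟩ : ∃ w, w * w = 1 ∧ Commute (φ g) w ∧ φ g * j * (φ g)⁻¹ = j * w := by
    obtain ⟨w, hw, e2 | e2⟩ := h.toH1.JJ_eq (ti1 hu) (by simpa using u0) hj' hj (by
      calc _ = φ g * (j * ((φ g)⁻¹ * t * (φ g)⁻¹⁻¹) * j⁻¹) * (φ g)⁻¹ := by group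
        _ = _ := by
          rw [Comp.conj_eq_of_comm (h.tc g).symm.inv_left, e1,
            Comp.conj_eq_of_comm ((h.tc g).symm.mul_right (cR v hv))])
    · exact ⟨_, (sq_A h.toHyp (ti1 hu) hw).1, cR w hw, e2⟩
    · exact ⟨_, (sq_A h.toHyp (ti1 hu) hw).2, (h.tc g).symm.mul_right (cR w hw),
        e2.trans (mul_assoc _ _ _)⟩
  obtain ⟨n, hn, an⟩ := h.toMo.odd_pow (a := a) (fun a0 => by simp [a0] at ha)
  have h1 : ∀ n : ℕ, lin (g ^ n) u = a ^ n • u := fun n => by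
    induction n with
    | zero => simp
    | succ n ih => rw [pow_succ', lin_mul, ih, map_smul, e, smul_smul, pow_succ]
  have h2 : g ^ n ∈ Fx B (E ∙ u) := mem_Fx1.2 (by rw [h1, an, one_smul])
  have h3 := pow_conj e2 cw n
  rw [odd_pow_eq w2 hn, ← map_pow,
    Comp.conj_eq_of_comm (mem_Cs.1 (cF h hu u0 hj) _ ⟨_, h2, rfl⟩)] at h3
  rw [e2, ← h3]

theorem H2.JJ_le1 (h : H2 φ t) (hW : TotIso B W) {u : M} (hu : u ∈ W) (u0 : u ≠ 0) :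
    JJ φ t (E ∙ u) ≤ JJ φ t W := fun j hj => by
  have uu : B u u = 0 := hW u hu u hu
  obtain ⟨v, hv, e⟩ := h.toH1.JJ_tau (ti1 uu) hj
  exact subset_closure ⟨h.toH1.mem_DD hW (Cs_anti (map_mono (h.toMo.QW_le_Fx1 hu)) (cF h uu u0 hj))
    (JJ_le hj).1.2 (VW_mono ((Submodule.span_singleton_le_iff_mem u W).2 hu) hv) e,
    ((h.toH1.mem_JJ (ti1 uu) (by simpa using u0)).1 hj).2⟩

namespace P3a

theorem onto (h : H2 φ t) (hW : TotIso B W) {H : Subgroup G}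
    (k : ∀ u ∈ W, u ≠ 0 → JJ φ t (E ∙ u) ≤ H) {v : sIsom B} (hv : v ∈ VW B W) :
    ∃ j ∈ JJ φ t W ⊓ H, j * t * j⁻¹ = t * φ v := by
  let K : Subgroup (sIsom B) :=
    { carrier := {v | v ∈ VW B W ∧ ∃ j ∈ JJ φ t W ⊓ H, j * t * j⁻¹ = t * φ v}
      one_mem' := ⟨one_mem _, 1, one_mem _, by simp⟩
      mul_mem' := by
        rintro a b ⟨ha, j, hj, e⟩ ⟨hb, j', hj', e'⟩
        exact ⟨mul_mem ha hb, j * j', mul_mem hj hj', h.toH1.JJ_mul hW hj.1 hb e e'⟩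
      inv_mem' := by
        rintro a ha
        rwa [inv_eq_of_sq (h.toMo.sq_VW hW ha.1)] }
  refine (h.toMo.gen_VW hW (H := K) (fun x hx => ?_) hv).2
  by_cases x0 : x = 0
  · rw [x0, h.toMo.tT_zero']
    exact one_mem _
  · obtain ⟨j, hj, e⟩ := h.JJ_onto1 (hW x hx x hx) (map_one σ)
    exact ⟨h.toMo.tT_mem (hW x hx x hx) hx (map_one σ), j,
      ⟨h.JJ_le1 hW hx x0 hj, k x hx x0 hj⟩, e⟩

end P3a

theorem H2.JJ_onto (h : H2 φ t) (hW : TotIso B W) {v : sIsom B} (hv : v ∈ VW B W) :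
    ∃ j ∈ JJ φ t W, j * t * j⁻¹ = t * φ v :=
  let ⟨j, hj, e⟩ := onto h hW (H := ⊤) (fun _ _ _ => le_top) hv
  ⟨j, hj.1, e⟩

theorem H2.JJ_gen (h : H2 φ t) (hW : TotIso B W) (h0 : W ≠ ⊥) {H : Subgroup G}
    (k : ∀ u ∈ W, u ≠ 0 → JJ φ t (E ∙ u) ≤ H) : JJ φ t W ≤ H := fun j hj => by
  obtain ⟨v, hv, e⟩ := h.toH1.JJ_tau hW hj
  obtain ⟨j', hj', e'⟩ := onto h hW k hv
  obtain ⟨u, hu, u0⟩ := (Submodule.ne_bot_iff W).1 h0
  have tH : t ∈ H := k u hu u0 (h.toH1.A_le_JJ (ti1 (hW u hu u hu)) (mem_sup_left (mem_zpowers t)))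
  have VH : VW B W ≤ H.comap φ := h.toMo.gen_VW hW fun x hx => by
    by_cases x0 : x = 0
    · rw [x0, h.toMo.tT_zero']
      exact one_mem _
    · exact k x hx x0 (h.toH1.A_le_JJ (ti1 (hW x hx x hx)) (mem_sup_right ⟨_, h.toMo.tT_mem
        (hW x hx x hx) (Submodule.mem_span_singleton_self x) (map_one σ), rfl⟩))
  obtain ⟨w, hw, rfl | rfl⟩ := h.toH1.JJ_eq hW h0 hj hj'.1 (e.trans e'.symm)
  · exact mul_mem hj'.2 (VH hw)
  · exact mul_mem (mul_mem hj'.2 tH) (VH hw)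

theorem H2.JJ_mono (h : H2 φ t) (hW' : TotIso B W') (h0 : W ≠ ⊥) (hle : W ≤ W') :
    JJ φ t W ≤ JJ φ t W' :=
  h.JJ_gen (fun x hx y hy => hW' x (hle hx) y (hle hy)) h0 fun _ hu u0 => h.JJ_le1 hW' (hle hu) u0

theorem H2.JJ_fix (h : H2 φ t) (hW : TotIso B W) (h0 : W ≠ ⊥) {g : sIsom B} {a : E}
    (ha : σ a * a = 1) (e : ∀ x ∈ W, lin g x = a • x) : φ g ∈ Cs (JJ φ t W) :=
  mem_Cs.2 fun _ hj => mem_C1.1 (h.JJ_gen hW h0 (H := C1 (φ g)) (fun u hu u0 j hj =>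
    mem_C1.2 (mem_Cs.1 (h.JJ_fix1 (hW u hu u hu) u0 ha (e u hu)) j hj)) hj)

end JJ

end Cfsg.Lib.SU5
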