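import Cfsg.Agent.SU5.Base
import Cfsg.Agent.Known.PresCyc

/-!
# Standard subgroups of type `U_m(2ⁿ)`: the extension over a plane splits
-/

set_option autoImplicit false
set_option linter.unusedSectionVars false

namespace Cfsg.Lib.SU5

open Subgroup Module Cfsg.Lib.Trans Cfsg.Lib.Gold Cfsg.Lib.Class.Form Cfsg.Lib.Class.FAut
open Cfsg.Lib.Comp (Tw)
open scoped commutatorElement

variable {G E M : Type*} [Group G] [Finite G] [Field E] [Finite E] [AddCommGroup M] [Module E M]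
  [FiniteDimensional E M] {σ : E →+* E} {B : M →ₛₗ[σ] M →ₗ[E] E} {φ : sIsom B →* G} {t : G}
  {W : Submodule E M} {u w : M} {X Y : Subgroup G} {j j₀ : G}

theorem H1.V_le_JJ (h : H1 φ t) (hW : TotIso B W) : (VW B W).map φ ≤ JJ φ t W :=
  le_sup_right.trans (h.A_le_JJ hW)

theorem H1.t_mem_JJ (h : H1 φ t) (hW : TotIso B W) : t ∈ JJ φ t W :=
  h.A_le_JJ hW (mem_sup_left (mem_zpowers t))

theorem H1.St_JJ (h : H1 φ t) {s : sIsom B} (hs : s ∈ St B W) : φ s ∈ Ns (JJ φ t W) :=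
  mem_Ns_iff.2 (h.cj_JJ' hs)

theorem St_V {s : sIsom B} (hs : s ∈ St B W) : φ s ∈ Ns ((VW B W).map φ) :=
  mem_normalizer_fintype (by
    rintro _ ⟨v, hv, rfl⟩
    exact ⟨_, mem_normalizer_conj (St_le_Ns hs).1.1 hv, by simp⟩)

theorem Hyp.tau_conj (h : Hyp φ t) (g : sIsom B) {v : sIsom B} (e : j * t * j⁻¹ = t * φ v) :
    φ g * j * (φ g)⁻¹ * t * (φ g * j * (φ g)⁻¹)⁻¹ = t * φ (g * v * g⁻¹) :=
  calc _ = φ g * (j * ((φ g)⁻¹ * t * φ g) * j⁻¹) * (φ g)⁻¹ := by group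
    _ = _ := by
      rw [mul_assoc (φ g)⁻¹, (h.tc g).eq, inv_mul_cancel_left, e, ← mul_assoc, ← (h.tc g).eq]
      simp only [map_mul, map_inv, mul_assoc]

theorem H1.onto_of (h : H1 φ t) (hW : TotIso B W) (hY : Y ≤ JJ φ t W)
    (k : ∀ x ∈ W, x ≠ 0 → ∃ y ∈ Y, y * t * y⁻¹ = t * φ (tT B x 1)) {v : sIsom B} (hv : v ∈ VW B W) :
    ∃ y ∈ Y, y * t * y⁻¹ = t * φ v := by
  let H : Subgroup (sIsom B) :=
    { carrier := {v | v ∈ VW B W ∧ ∃ y ∈ Y, y * t * y⁻¹ = t * φ v}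
      one_mem' := ⟨one_mem _, 1, one_mem _, by simp⟩
      mul_mem' := fun ⟨a1, y, hy, a2⟩ ⟨b1, z, hz, b2⟩ =>
        ⟨mul_mem a1 b1, _, mul_mem hy hz, h.JJ_mul hW (hY hy) b1 a2 b2⟩
      inv_mem' := fun a => by rwa [inv_eq_of_sq (h.toMo.sq_VW hW a.1)] }
  refine (h.toMo.gen_VW hW (H := H) (fun x hx => ?_) hv).2
  by_cases x0 : x = 0
  · rw [x0, h.toMo.tT_zero']
    exact one_mem _
  · exact ⟨h.toMo.tT_mem (hW x hx x hx) hx (map_one σ), k x hx x0⟩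

theorem H1.cov (h : H1 φ t) (hW : TotIso B W) (h0 : W ≠ ⊥) (hY : Y ≤ JJ φ t W)
    (hV : (VW B W).map φ ≤ Y) (k : ∀ v ∈ VW B W, ∃ y ∈ Y, y * t * y⁻¹ = t * φ v)
    (hj : j ∈ JJ φ t W) : j ∈ Y ∨ j * t ∈ Y := by
  obtain ⟨v, hv, e⟩ := h.JJ_tau hW hj
  obtain ⟨y, hy, e'⟩ := k v hv
  obtain ⟨v', hv', e | e⟩ := h.JJ_eq hW h0 hj (hY hy) (e.trans e'.symm)
  · exact Or.inl (e ▸ mul_mem hy (hV (mem_map_of_mem φ hv')))
  · refine Or.inr ?_
    rw [e, mul_assoc y, (h.tc v').eq, ← mul_assoc, mul_assoc _ t, h.t2, mul_one]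
    exact mul_mem hy (hV (mem_map_of_mem φ hv'))

theorem comm_mem_of {s : G} (hs : s ∈ Ns X) (st : Commute t s) (hj : j ∈ X ∨ j * t ∈ X) :
    ⁅j, s⁆ ∈ X := by
  have key : ∀ x ∈ X, ⁅x, s⁆ ∈ X := fun x hx => by
    simpa only [commutatorElement_def, mul_assoc] using
      mul_mem hx (mem_normalizer_conj hs (inv_mem hx))
  refine hj.elim (key j) fun hx => ?_
  have := key _ hx
  rwa [commutatorElement_def, mul_assoc j, st.eq, show j * (s * t) * (j * t)⁻¹ = j * s * j⁻¹ by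
    group] at this

theorem St_of {g : sIsom B} (h1 : lin g u ∈ Submodule.span E {u, w})
    (h2 : lin g w ∈ Submodule.span E {u, w}) : g ∈ St B (Submodule.span E {u, w}) :=
  mem_St_of fun x hx => by
    obtain ⟨a, b, rfl⟩ := Submodule.mem_span_pair.1 hx
    rw [map_add, map_smul, map_smul]
    exact add_mem (Submodule.smul_mem _ _ h1) (Submodule.smul_mem _ _ h2)

namespace P3b

theorem suff (h : H1 φ t) (hW : TotIso B W) (h0 : W ≠ ⊥) (hX : X ≤ JJ φ t W)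
    (hV : (VW B W).map φ ≤ X) (k : ∀ v ∈ VW B W, ∃ y ∈ X, y * t * y⁻¹ = t * φ v)
    (hS : ∀ s ∈ St B W, φ s ∈ Ns X) (nt : t ∉ X) :
    t ∉ ⁅JJ φ t W, (St B W).map φ⁆ ⊔ (VW B W).map φ := fun m =>
  nt (sup_le (commutator_le.2 (by
    rintro j hj _ ⟨s, hs, rfl⟩
    exact comm_mem_of (hS s hs) (h.tc s) (h.cov hW h0 hX hV k hj))) hV m)

theorem u_mem : u ∈ Submodule.span E {u, w} := Submodule.subset_span (by simp)
theorem w_mem : w ∈ Submodule.span E {u, w} := Submodule.subset_span (by simp)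

theorem ne_bot (li : LinearIndependent E ![u, w]) : Submodule.span E {u, w} ≠ ⊥ := fun e =>
  li.ne_zero 0 ((Submodule.mem_bot E).1 (e ▸ u_mem))

theorem v2_one (h : Mo B) : tT B u 0 * tT B w 0 * tE B u ((0 : E) • w) = 1 := by
  rw [h.tT_zero, h.tT_zero, zero_smul, h.tE_zero, one_mul, one_mul]

theorem big (h : H2 φ t) (k : I2 B u w) (li : LinearIndependent E ![u, w]) {c : E} (hc : σ c = c)
    (c0 : c ≠ 0) (c1 : c ≠ 1) :
    t ∉ ⁅JJ φ t (Submodule.span E {u, w}), (St B (Submodule.span E {u, w})).map φ⁆ ⊔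
      (VW B (Submodule.span E {u, w})).map φ := by
  have m := h.toMo
  have hW := k.ti m
  have h0 := ne_bot li
  obtain ⟨g, g1, g2⟩ := m.tr_diag k li c0 c0
  have n0 : 1 + c * c ≠ 0 := fun e => c1 (m.sq_inj (by linear_combination e - m.two))
  have sn : σ (1 + c * c) = 1 + c * c := by rw [map_add, map_mul, hc, map_one]
  have ev : ∀ {a d : E} (l : E), σ a = a → σ d = d → tT B u a * tT B w d * tE B u (l • w) *
      (g * (tT B u a * tT B w d * tE B u (l • w)) * g⁻¹) = tT B u ((1 + c * c) * a) *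
        tT B w ((1 + c * c) * d) * tE B u (((1 + c * c) * l) • w) := fun {a d} l ha hd => by
    rw [m.v2_diag k l ha hd g1 g2, m.v2_mul k _ _ ha hd (by simp [ha, hc]) (by simp [hd, hc]), hc]
    simp only [add_mul, one_mul]
  have gx : ∀ x ∈ Submodule.span E {u, w}, lin g x = c • x := fun x hx => by
    obtain ⟨a, b, rfl⟩ := Submodule.mem_span_pair.1 hx
    rw [map_add, map_smul, map_smul, g1, g2]; module
  have inj : ∀ v ∈ VW B (Submodule.span E {u, w}), v * (g * v * g⁻¹) = 1 → v = 1 := fun v hv e => by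
    obtain ⟨a, d, l, ha, hd, rfl⟩ := (m.mem_V2 k).1 hv
    rw [ev l ha hd, ← v2_one m (u := u) (w := w)] at e
    obtain ⟨e1, e2, e3⟩ := m.v2_inj k li (by rw [map_mul, sn, ha]) (by rw [map_mul, sn, hd])
      (map_zero σ) (map_zero σ) e
    rw [(mul_eq_zero.1 e1).resolve_left n0, (mul_eq_zero.1 e2).resolve_left n0,
      (mul_eq_zero.1 e3).resolve_left n0, v2_one m]
  have sur : ∀ v ∈ VW B (Submodule.span E {u, w}), ∃ v' ∈ VW B (Submodule.span E {u, w}),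
      v' * (g * v' * g⁻¹) = v := fun v hv => by
    obtain ⟨a, d, l, ha, hd, rfl⟩ := (m.mem_V2 k).1 hv
    have ha' : σ (a / (1 + c * c)) = a / (1 + c * c) := by rw [map_div₀, sn, ha]
    have hd' : σ (d / (1 + c * c)) = d / (1 + c * c) := by rw [map_div₀, sn, hd]
    refine ⟨_, (m.mem_V2 k).2 ⟨_, _, l / (1 + c * c), ha', hd', rfl⟩, ?_⟩
    rw [ev _ ha' hd', mul_div_cancel₀ _ n0, mul_div_cancel₀ _ n0, mul_div_cancel₀ _ n0]
  generalize Submodule.span E {u, w} = W at *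
  have gS : g ∈ St B W := mem_St_of fun x hx => gx x hx ▸ Submodule.smul_mem _ _ hx
  have cJ : ∀ {j}, j ∈ JJ φ t W → φ g * j * (φ g)⁻¹ ∈ JJ φ t W := mem_normalizer_conj (h.St_JJ gS)
  have nV := (h.JJ_cV hW).trans Cs_le_Ns
  have VJ := h.V_le_JJ hW
  have xJ : ∀ {j x}, j ∈ JJ φ t W → (j * (φ g * j * (φ g)⁻¹))⁻¹ * x ∈ (VW B W).map φ →
      x ∈ JJ φ t W := fun hj e => (mul_mem_cancel_left (inv_mem (mul_mem hj (cJ hj)))).1 (VJ e)
  have tau : ∀ {j v}, j ∈ JJ φ t W → v ∈ VW B W → j * t * j⁻¹ = t * φ v →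
      j * (φ g * j * (φ g)⁻¹) * t * (j * (φ g * j * (φ g)⁻¹))⁻¹ = t * φ (v * (g * v * g⁻¹)) :=
    fun hj hv e => h.JJ_mul hW hj (mem_normalizer_conj (St_le_Ns gS).1.1 hv) e (h.tau_conj g e)
  let X : Subgroup G :=
    { carrier := {x | ∃ j ∈ JJ φ t W, (j * (φ g * j * (φ g)⁻¹))⁻¹ * x ∈ (VW B W).map φ}
      one_mem' := ⟨1, one_mem _, by simp⟩
      mul_mem' := fun {x x'} ⟨j, hj, e⟩ ⟨j', hj', e'⟩ => ⟨_, mul_mem hj hj', by
        have := mul_mem (mem_normalizer_conj' (nV (cJ hj')) (mul_mem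
          (h.JJ_comm hW h0 (inv_mem (cJ hj)) (inv_mem hj')) (mem_normalizer_conj' (nV hj') e))) e'
        rw [commutatorElement_def] at this
        convert this using 1
        group⟩
      inv_mem' := fun {x} ⟨j, hj, e⟩ => ⟨j, hj, by
        have := mul_mem e (inv_mem (h.JJ_sq hW h0 (xJ hj e)))
        convert this using 1
        group⟩ }
  refine suff h.toH1 hW h0 (X := X) (fun x ⟨j, hj, e⟩ => xJ hj e)
    (fun x hx => ⟨1, one_mem _, by simpa using hx⟩) (fun v hv => ?_)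
    (fun s hs => mem_normalizer_fintype fun x ⟨j, hj, e⟩ =>
      ⟨_, mem_normalizer_conj (h.St_JJ hs) hj, ?_⟩) fun ⟨j, hj, e⟩ => ?_
  · obtain ⟨v', hv', rfl⟩ := sur v hv
    obtain ⟨j, hj, e⟩ := h.JJ_onto hW hv'
    exact ⟨_, ⟨j, hj, by rw [inv_mul_cancel]; exact one_mem _⟩, tau hj hv' e⟩
  · have c := mem_Cs.1 (h.JJ_fix hW h0 (g := (s * g)⁻¹ * (g * s)) (a := 1) (by simp)
      fun x hx => by
        rw [lin_mul, lin_mul g, gx _ ((hs x).1 hx), ← map_smul, ← gx x hx, ← lin_mul s, lin_inv_lin,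
          one_smul]) j hj
    simp only [map_mul, map_inv] at c
    have := mem_normalizer_conj (St_V hs) e
    convert this using 1
    calc _ = (φ s * j * φ g * ((φ s * φ g)⁻¹ * (φ g * φ s) * j) * (φ s)⁻¹ * (φ g)⁻¹)⁻¹ *
          (φ s * x * (φ s)⁻¹) := by group
      _ = _ := by rw [← c]; group
  · obtain ⟨v, hv, ej⟩ := h.JJ_tau hW hj
    have e1 := tau hj hv ej
    obtain ⟨v', -, e'⟩ := e
    have c : Commute (j * (φ g * j * (φ g)⁻¹)) t := by
      rw [show j * (φ g * j * (φ g)⁻¹) = t * (φ v')⁻¹ by rw [e']; group]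
      exact (Commute.refl t).mul_left (h.tc v').symm.inv_left
    have m1 := mul_mem hv (mem_normalizer_conj (St_le_Ns gS).1.1 hv)
    rw [c.eq, mul_inv_cancel_right, left_eq_mul] at e1
    rw [inj v hv (h.toMod.inj2 (Tw.of_sq (m.sq_VW hW m1)) e1), map_one, mul_one,
      mul_inv_eq_iff_eq_mul] at ej
    refine h.t_not ((mul_mem_cancel_left (inv_mem ?_)).1 ⟨v', e'⟩)
    obtain ⟨a, -, rfl | rfl⟩ := h.JJ_ker hW h0 hj ej
    · exact ⟨a * (g * a * g⁻¹), by simp⟩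
    · refine ⟨a * (g * a * g⁻¹), ?_⟩
      rw [← mul_assoc (φ g), ← (h.tc g).eq, (h.tc a).eq]
      simp only [map_mul, map_inv, mul_assoc]
      rw [← mul_assoc t, h.t2, one_mul]

/-- A subgroup of `J` which avoids `t`, with a bound on its translations. -/
structure Gd (φ : sIsom B →* G) (t : G) (u w : M) (Y : Subgroup G) (p : E → E → E → Prop) :
    Prop where
  le : Y ≤ JJ φ t (Submodule.span E {u, w})
  ge : (VW B (Submodule.span E {u, w})).map φ ≤ Y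
  nt : t ∉ Y
  tr : ∀ y ∈ Y, ∃ c d l, σ c = c ∧ σ d = d ∧ p c d l ∧
    y * t * y⁻¹ = t * φ (tT B u c * tT B w d * tE B u (l • w))

theorem Gd.step (h : H1 φ t) (k : I2 B u w) (li : LinearIndependent E ![u, w])
    {p p' : E → E → E → Prop} (hY : Gd φ t u w Y p) (hj : j ∈ JJ φ t (Submodule.span E {u, w}))
    {c d l : E} (hc : σ c = c) (hd : σ d = d)
    (e : j * t * j⁻¹ = t * φ (tT B u c * tT B w d * tE B u (l • w))) (np : ¬ p c d l)
    (h1 : ∀ a b n, p a b n → p' a b n ∧ p' (a + c) (b + d) (n + l)) :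
    Gd φ t u w (Y ⊔ zpowers j) p' := by
  have m := h.toMo
  have hW := k.ti m
  have h0 := ne_bot li
  have mem : ∀ x ∈ Y ⊔ zpowers j, x ∈ Y ∨ x * j⁻¹ ∈ Y := fun x hx => by
    refine Known.mem_or_of_mem_sup_zpowers (mem_normalizer_fintype fun y hy => ?_)
      (hY.ge (h.JJ_sq hW h0 hj)) hx
    have := mul_mem (hY.ge (h.JJ_comm hW h0 hj (hY.le hy))) hy
    rwa [commutatorElement_def, inv_mul_cancel_right] at this
  have vm : ∀ {c d} l, σ c = c → σ d = d → tT B u c * tT B w d * tE B u (l • w) ∈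
      VW B (Submodule.span E {u, w}) := fun l hc hd => (m.mem_V2 k).2 ⟨_, _, l, hc, hd, rfl⟩
  refine ⟨sup_le hY.le (zpowers_le.2 hj), hY.ge.trans le_sup_left, fun ht => ?_, fun x hx => ?_⟩
  · obtain ⟨a, b, n, ha, hb, hp, e1⟩ := hY.tr _ (inv_mem ((mem t ht).resolve_left hY.nt))
    rw [show (t * j⁻¹)⁻¹ * t * (t * j⁻¹)⁻¹⁻¹ = j * t * j⁻¹ by group, e, mul_right_inj] at e1
    obtain ⟨rfl, rfl, rfl⟩ := m.v2_inj k li hc hd ha hb (h.toMod.eq2
      (Tw.of_sq (m.sq_VW hW (vm _ hc hd))) (Tw.of_sq (m.sq_VW hW (vm _ ha hb))) e1)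
    exact np hp
  · rcases mem x hx with hy | hy
    · obtain ⟨a, b, n, ha, hb, hp, e1⟩ := hY.tr _ hy
      exact ⟨a, b, n, ha, hb, (h1 a b n hp).1, e1⟩
    · obtain ⟨a, b, n, ha, hb, hp, e1⟩ := hY.tr _ hy
      have := h.JJ_mul hW (hY.le hy) (vm l hc hd) e1 e
      rw [inv_mul_cancel_right, m.v2_mul k _ _ ha hb hc hd] at this
      exact ⟨_, _, _, by rw [map_add, ha, hc], by rw [map_add, hb, hd], (h1 a b n hp).2, this⟩

theorem tT_co (h : Mo B) (k : I2 B u w) (μ : E) :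
    tT B (μ • u + w) 1 = tT B u (σ μ * μ) * tT B w 1 * tE B u (σ μ • w) := by
  have k' := k.smul μ 1
  rw [one_smul] at k'
  rw [h.tT_vadd k' (map_one σ), h.tT_smul k.uu μ (map_one σ), one_smul, h.tE_smul k, mul_one]

theorem exists_gm (h : Mo B) (k : I2 B u w) (li : LinearIndependent E ![u, w]) (μ : E) :
    ∃ g ∈ St B (Submodule.span E {u, w}), lin g u = μ • u + w := by
  obtain ⟨s, s1, s2⟩ := h.tr2 k li (k.symm h) (LinearIndependent.pair_symm_iff.1 li)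
  obtain ⟨g, g1, g2⟩ := h.tr_el k li μ
  have e : lin (g * s) u = μ • u + w := by rw [lin_mul, s1, g2, add_comm]
  exact ⟨g * s, St_of (e ▸ add_mem (Submodule.smul_mem _ _ u_mem) w_mem)
    (by rw [lin_mul, s2, g1]; exact u_mem), e⟩

theorem trS (h : Mo B) (k : I2 B u w) (li : LinearIndependent E ![u, w]) {x : M}
    (hx : x ∈ Submodule.span E {u, w}) (x0 : x ≠ 0) :
    ∃ g ∈ St B (Submodule.span E {u, w}), lin g u = x := by
  obtain ⟨a, b, rfl⟩ := Submodule.mem_span_pair.1 hx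
  have key : ∀ {c : E}, c ≠ 0 → ∃ d ∈ St B (Submodule.span E {u, w}), lin d u = c • u ∧
      lin d w = c • w := fun c0 =>
    let ⟨d, d1, d2⟩ := h.tr_diag k li c0 c0
    ⟨d, St_of (d1 ▸ Submodule.smul_mem _ _ u_mem) (d2 ▸ Submodule.smul_mem _ _ w_mem), d1, d2⟩
  by_cases b0 : b = 0
  · rw [b0, zero_smul, add_zero] at x0 ⊢
    obtain ⟨d, hd, d1, -⟩ := key (left_ne_zero_of_smul x0)
    exact ⟨d, hd, d1⟩
  · obtain ⟨d, hd, d1, d2⟩ := key b0
    obtain ⟨g, hg, e⟩ := exists_gm h k li (a / b)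
    exact ⟨d * g, mul_mem hd hg, by
      rw [lin_mul, e, map_add, map_smul, d1, d2, smul_smul, div_mul_cancel₀ _ b0]⟩

theorem tu (m : Mo B) : tT B u 1 = tT B u 1 * tT B w 0 * tE B u ((0 : E) • w) := by
  rw [m.tT_zero, zero_smul, m.tE_zero, mul_one, mul_one]

theorem tm (h : H2 φ t) (k : I2 B u w) (e : j₀ * t * j₀⁻¹ = t * φ (tT B u 1)) {g : sIsom B} {μ : E}
    (gu : lin g u = μ • u + w) : φ g * j₀ * (φ g)⁻¹ * t * (φ g * j₀ * (φ g)⁻¹)⁻¹ =
      t * φ (tT B u (σ μ * μ) * tT B w 1 * tE B u (σ μ • w)) := by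
  rw [h.tau_conj g e, h.toMo.tT_conj g k.uu (map_one σ), gu, tT_co h.toMo k]

theorem four (h : H2 φ t) (k : I2 B u w) (li : LinearIndependent E ![u, w]) {ω : E} (nω : σ ω ≠ ω)
    {g : E → sIsom B} (gS : ∀ μ, g μ ∈ St B (Submodule.span E {u, w}))
    (gu : ∀ μ, lin (g μ) u = μ • u + w) (hj : j₀ ∈ JJ φ t (E ∙ u))
    (e : j₀ * t * j₀⁻¹ = t * φ (tT B u 1)) : ∃ Y, Gd φ t u w Y (fun _ _ _ => True) ∧ j₀ ∈ Y ∧
      φ (g 0) * j₀ * (φ (g 0))⁻¹ ∈ Y ∧ φ (g 1) * j₀ * (φ (g 1))⁻¹ ∈ Y ∧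
      φ (g ω) * j₀ * (φ (g ω))⁻¹ ∈ Y := by
  have m := h.toMo
  have hW := k.ti m
  have s1 := map_one σ
  have s0 := map_zero σ
  have jW := h.JJ_le1 hW (u_mem (w := w)) (li.ne_zero 0) hj
  have cJ := fun μ => mem_normalizer_conj (h.St_JJ (gS μ)) jW
  have sN : ∀ μ : E, σ (σ μ * μ) = σ μ * μ := fun μ => by rw [map_mul, m.ss, mul_comm]
  have g0 : Gd φ t u w ((VW B (Submodule.span E {u, w})).map φ) fun c d l =>
      c = 0 ∧ d = 0 ∧ l = 0 :=
    ⟨h.V_le_JJ hW, le_rfl, fun ⟨v, _, e⟩ => h.t_not ⟨v, e⟩, by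
      rintro _ ⟨v, -, rfl⟩
      exact ⟨0, 0, 0, s0, s0, ⟨rfl, rfl, rfl⟩, by
        rw [v2_one m, map_one, mul_one, ← (h.tc v).eq, mul_inv_cancel_right]⟩⟩
  have g1 := g0.step h.toH1 k li (p' := fun _ d l => d = 0 ∧ l = 0) jW s1 s0
    (e.trans (by rw [← tu m])) (fun e => one_ne_zero e.1) (fun a b n e => by simp [e.2.1, e.2.2])
  have g2 := g1.step h.toH1 k li (p' := fun _ _ l => l = 0) (cJ 0) (sN 0) s1 (tm h k e (gu 0))
    (fun e => one_ne_zero e.1) (fun a b n e => by simp [e.2])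
  have g3 := g2.step h.toH1 k li (p' := fun _ _ l => σ l = l) (cJ 1) (sN 1) s1 (tm h k e (gu 1))
    (fun e => one_ne_zero (s1.symm.trans e)) (fun a b n e => by simp [e])
  have g4 := g3.step h.toH1 k li (p' := fun _ _ _ => True) (cJ ω) (sN ω) s1 (tm h k e (gu ω))
    (fun e => nω (by rw [← e, m.ss])) (fun _ _ _ _ => ⟨trivial, trivial⟩)
  exact ⟨_, g4, mem_sup_left (mem_sup_left (mem_sup_left (mem_sup_right (mem_zpowers _)))),
    mem_sup_left (mem_sup_left (mem_sup_right (mem_zpowers _))),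
    mem_sup_left (mem_sup_right (mem_zpowers _)), mem_sup_right (mem_zpowers _)⟩

theorem main (h : H2 φ t) (k : I2 B u w) (li : LinearIndependent E ![u, w])
    (N : ∀ {a : E}, a ≠ 0 → σ a * a = 1) {g : E → sIsom B} (gu : ∀ μ, lin (g μ) u = μ • u + w)
    (hj : j₀ ∈ JJ φ t (E ∙ u)) (e : j₀ * t * j₀⁻¹ = t * φ (tT B u 1))
    (g4 : Gd φ t u w Y fun _ _ _ => True) (i0 : j₀ ∈ Y) (i1 : ∀ μ, φ (g μ) * j₀ * (φ (g μ))⁻¹ ∈ Y) :
    t ∉ ⁅JJ φ t (Submodule.span E {u, w}), (St B (Submodule.span E {u, w})).map φ⁆ ⊔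
      (VW B (Submodule.span E {u, w})).map φ := by
  have m := h.toMo
  have hW := k.ti m
  have u0 : u ≠ 0 := li.ne_zero 0
  have fx : ∀ {s} {a : E}, a ≠ 0 → lin s u = a • u → φ s * j₀ * (φ s)⁻¹ = j₀ := fun a0 e => by
    rw [← mem_Cs.1 (h.JJ_fix1 k.uu u0 (N a0) e) j₀ hj, mul_inv_cancel_right]
  have all : ∀ s ∈ St B (Submodule.span E {u, w}), φ s * j₀ * (φ s)⁻¹ ∈ Y := fun s hs => by
    obtain ⟨a, b, e⟩ := Submodule.mem_span_pair.1 ((hs u).1 u_mem)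
    by_cases b0 : b = 0
    · rw [b0, zero_smul, add_zero] at e
      rwa [fx (fun a0 => u0 ((lin s).map_eq_zero_iff.1 (by rw [← e, a0, zero_smul]))) e.symm]
    · have := fx (s := (g (a / b))⁻¹ * s) b0 (by
        rw [lin_mul, ← e, show a • u + b • w = b • lin (g (a / b)) u by
          rw [gu, smul_add, smul_smul, mul_div_cancel₀ _ b0], map_smul, lin_inv_lin])
      have i := i1 (a / b)
      rw [← this] at i
      convert i using 1
      simp only [map_mul, map_inv]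
      group
  have XY : (VW B (Submodule.span E {u, w})).map φ ⊔ closure
      {x | ∃ s ∈ St B (Submodule.span E {u, w}), φ s * j₀ * (φ s)⁻¹ = x} ≤ Y :=
    sup_le g4.ge ((closure_le _).2 (by rintro _ ⟨s, hs, rfl⟩; exact all s hs))
  refine suff h.toH1 hW (ne_bot li) (XY.trans g4.le) le_sup_left
    (fun v => h.onto_of hW (XY.trans g4.le) fun x hx x0 => ?_)
    (fun s hs => mem_Ns_sup (St_V hs) (mem_normalizer_of_cj_le ?_)) fun e => g4.nt (XY e)
  · obtain ⟨s, hs, rfl⟩ := trS m k li hx x0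
    exact ⟨_, mem_sup_right (subset_closure ⟨s, hs, rfl⟩), by
      rw [h.tau_conj s e, m.tT_conj s k.uu (map_one σ)]⟩
  · rw [cj_closure]
    refine closure_mono ?_
    rintro _ ⟨_, ⟨r, hr, rfl⟩, rfl⟩
    exact ⟨s * r, mul_mem hs hr, by simp only [map_mul, mul_inv_rev, mul_assoc]⟩

theorem small (h : H2 φ t) (k : I2 B u w) (li : LinearIndependent E ![u, w])
    (hF : ∀ c : E, σ c = c → c = 0 ∨ c = 1) :
    t ∉ ⁅JJ φ t (Submodule.span E {u, w}), (St B (Submodule.span E {u, w})).map φ⁆ ⊔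
      (VW B (Submodule.span E {u, w})).map φ := by
  have m := h.toMo
  have hW := k.ti m
  have h0 := ne_bot li
  have s1 := map_one σ
  have s0 := map_zero σ
  have N : ∀ {a : E}, a ≠ 0 → σ a * a = 1 := fun {a} a0 =>
    (hF _ (by rw [map_mul, m.ss, mul_comm])).resolve_left
      (mul_ne_zero ((map_ne_zero σ).2 a0) a0)
  obtain ⟨ω, hω⟩ := m.exists_tr s1
  have sω : σ ω = ω + 1 := by linear_combination hω - ω * m.two
  have nω : σ ω ≠ ω := fun e => one_ne_zero (α := E) (by linear_combination e - sω)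
  have ω0 : ω ≠ 0 := fun e => nω (by rw [e, s0])
  have ω1 : ω + 1 ≠ 0 := sω ▸ (map_ne_zero σ).2 ω0
  have cs : ∀ a : E, a = 0 ∨ a = 1 ∨ a = ω ∨ a = ω + 1 := fun a => by
    rcases hF (a + σ a) (by rw [map_add, m.ss, add_comm]) with e | e
    · exact (hF a (by linear_combination e - a * m.two)).imp_right Or.inl
    · rcases hF (a + ω) (by rw [map_add, sω]; linear_combination e - (a - 1) * m.two) with e | e
      · exact Or.inr (Or.inr (Or.inl (by linear_combination e - ω * m.two)))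
      · exact Or.inr (Or.inr (Or.inr (by linear_combination e - ω * m.two)))
  choose g gS gu using exists_gm m k li
  have JW := h.JJ_le1 hW (u_mem (w := w)) (li.ne_zero 0)
  have tJ := h.t_mem_JJ hW
  have fin : ∀ j₀ ∈ JJ φ t (E ∙ u), j₀ * t * j₀⁻¹ = t * φ (tT B u 1) →
      j₀ * (φ (g 0) * j₀ * (φ (g 0))⁻¹) * (φ (g 1) * j₀ * (φ (g 1))⁻¹) *
        (φ (g ω) * j₀ * (φ (g ω))⁻¹) * (φ (g (ω + 1)) * j₀ * (φ (g (ω + 1)))⁻¹) ∈
          (VW B (Submodule.span E {u, w})).map φ → t ∉ ⁅JJ φ t (Submodule.span E {u, w}),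
        (St B (Submodule.span E {u, w})).map φ⁆ ⊔ (VW B (Submodule.span E {u, w})).map φ := by
    intro j₀ hj e hπ
    obtain ⟨Y, g4, i0, a0, a1, a2⟩ := four h k li nω gS gu hj e
    refine main h k li N gu hj e g4 i0 fun μ => ?_
    rcases cs μ with e | e | e | e <;> rw [e]
    exacts [a0, a1, a2,
      (mul_mem_cancel_left (mul_mem (mul_mem (mul_mem i0 a0) a1) a2)).1 (g4.ge hπ)]
  obtain ⟨j₀, hj, e⟩ := h.JJ_onto1 k.uu s1
  have cJ := fun μ => mem_normalizer_conj (h.St_JJ (gS μ)) (JW hj)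
  have vm : ∀ μ, tT B u (σ μ * μ) * tT B w 1 * tE B u (σ μ • w) ∈ VW B (Submodule.span E {u, w}) :=
    fun μ => (m.mem_V2 k).2 ⟨_, _, _, by rw [map_mul, m.ss, mul_comm], s1, rfl⟩
  have p1 := mul_mem (JW hj) (cJ 0)
  have p2 := mul_mem p1 (cJ 1)
  have p3 := mul_mem p2 (cJ ω)
  have eπ := h.JJ_mul hW p3 (vm (ω + 1)) (h.JJ_mul hW p2 (vm ω) (h.JJ_mul hW p1 (vm 1)
    (h.JJ_mul hW (JW hj) (vm 0) (e.trans (congrArg (t * φ ·) (tu m (w := w)))) (tm h k e (gu 0)))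
    (tm h k e (gu 1))) (tm h k e (gu ω))) (tm h k e (gu (ω + 1)))
  rw [N ω0, N ω1, s0, s1, zero_mul, one_mul, m.v2_mul k _ _ s1 s0 s0 s1, add_zero,
    zero_add, zero_add, m.v2_mul k _ _ s1 s1 s1 s1, m.add_self, zero_add,
    m.v2_mul k _ _ s0 s0 s1 s1, zero_add, m.v2_mul k _ _ s1 s1 s1 s1, m.add_self,
    show 1 + σ ω + σ (ω + 1) = 0 by rw [map_add, s1]; linear_combination (1 + σ ω) * m.two,
    v2_one m, map_one, mul_one, mul_inv_eq_iff_eq_mul] at eπ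
  obtain ⟨v, hv, e1 | e1⟩ := h.JJ_ker hW h0 (mul_mem p3 (cJ (ω + 1))) eπ
  · exact fin j₀ hj e (e1 ▸ mem_map_of_mem φ hv)
  refine fin (j₀ * t) (mul_mem hj (h.t_mem_JJ (ti1 k.uu))) (by rw [← e]; group) ?_
  have ct : ∀ s, φ s * (j₀ * t) * (φ s)⁻¹ = φ s * j₀ * (φ s)⁻¹ * t := fun s => by
    rw [← conj_mul, ← (h.tc s).eq, mul_inv_cancel_right]
  have nV := (h.JJ_cV hW).trans Cs_le_Ns
  have ti := inv_eq_of_sq h.t2
  have := mul_mem (mul_mem (mem_normalizer_conj (nV (JW hj)) (h.JJ_comm hW h0 tJ (cJ 0)))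
    (mem_normalizer_conj (nV p2) (h.JJ_comm hW h0 tJ (cJ ω))))
    (mem_normalizer_conj (nV tJ) (mem_map_of_mem φ hv))
  rw [← e1] at this
  simp only [commutatorElement_def, ti] at this
  simp only [ct]
  convert this using 1
  group

end P3b

theorem H2.plane (h : H2 φ t) {u w : M} (k : I2 B u w) (li : LinearIndependent E ![u, w]) :
    t ∉ ⁅JJ φ t (Submodule.span E {u, w}), (St B (Submodule.span E {u, w})).map φ⁆ ⊔
      (VW B (Submodule.span E {u, w})).map φ :=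
  h.toMo.q_cases.elim (fun ⟨_, hc, c0, c1⟩ => P3b.big h k li hc c0 c1)
    fun e => P3b.small h k li e.2

end Cfsg.Lib.SU5
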