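import Cfsg.Agent.SU5.K3
import Cfsg.Agent.SU5.K4
import Cfsg.Agent.SU5.P3r

/-!
# Standard subgroups of type `U₅(2ⁿ)`: orthogonal enlarged root groups commute
-/

set_option autoImplicit false
set_option linter.unusedSectionVars false

namespace Cfsg.Lib.SU5

open Subgroup Module Cfsg.Lib.Trans Cfsg.Lib.Gold Cfsg.Lib.Class.Form Cfsg.Lib.Class.FAut
open Cfsg.Lib.Comp (Tw)
open scoped commutatorElement

variable {G E M : Type*} [Group G] [Finite G] [Field E] [Finite E] [AddCommGroup M] [Module E M]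
  [FiniteDimensional E M] {σ : E →+* E} {B : M →ₛₗ[σ] M →ₗ[E] E} {φ : sIsom B →* G} {t : G}
  {RT : M → Subgroup G}

namespace P3d

theorem rk2 (u w : M) : finrank E (Submodule.span E {u, w}) ≤ 2 := by
  classical
  have := (finrank_span_finset_le_card (R := E) ({u, w} : Finset M)).trans Finset.card_le_two
  rwa [Finset.coe_pair] at this

theorem st {s : Set M} {g : sIsom B} (k : ∀ x ∈ s, lin g x ∈ Submodule.span E s) :
    g ∈ St B (Submodule.span E s) :=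
  mem_St_of fun x hx => (Submodule.map_span_le (lin g : M →ₗ[E] M) s _).2 k ⟨x, hx, rfl⟩

/-- An alternating equivariant biadditive map on `V_W`. -/
structure Bi (W : Submodule E M) (b : sIsom B → sIsom B → sIsom B) : Prop where
  mem : ∀ v ∈ VW B W, ∀ v' ∈ VW B W, b v v' ∈ VW B W
  add : ∀ v ∈ VW B W, ∀ v' ∈ VW B W, ∀ v'' ∈ VW B W, b v (v' * v'') = b v v' * b v v''
  sym : ∀ v ∈ VW B W, ∀ v' ∈ VW B W, b v v' = b v' v
  self : ∀ v ∈ VW B W, b v v = 1
  eqv : ∀ g ∈ St B W, ∀ v ∈ VW B W, ∀ v' ∈ VW B W,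
    b (g * v * g⁻¹) (g * v' * g⁻¹) = g * b v v' * g⁻¹
  root : ∀ x ∈ W, x ≠ 0 → ∀ c d, σ c = c → σ d = d → b (tT B x c) (tT B x d) ∈ RR B x

variable {W : Submodule E M} {b : sIsom B → sIsom B → sIsom B} {u w : M}

theorem Bi.one (k : Bi W b) {v : sIsom B} (hv : v ∈ VW B W) : b v 1 = 1 := by
  have := k.add v hv 1 (one_mem _) 1 (one_mem _)
  rwa [mul_one, left_eq_mul] at this

theorem Bi.key (h : Mo B) (k : Bi (Submodule.span E {u, w}) b) (i : I2 B u w)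
    (li : LinearIndependent E ![u, w]) {c : E} (hc : σ c = c) {d : E} (hd : σ d = d) :
    b (tT B u c) (tT B u d) = 1 ∧ b (tT B u c) (tT B w d) ∈ RR B u := by
  have mu : u ∈ Submodule.span E {u, w} := Submodule.subset_span (by simp)
  have mw : w ∈ Submodule.span E {u, w} := Submodule.subset_span (by simp)
  have mT := h.tT_mem i.uu mu hc
  have mE := fun l : E => h.tE_mem (i.smul_r l) mu (Submodule.smul_mem _ l mw)
  by_cases c0 : c = 0
  · rw [c0, h.tT_zero, k.sym _ (one_mem _) _ (h.tT_mem i.uu mu hd),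
      k.sym _ (one_mem _) _ (h.tT_mem i.ww mw hd), k.one (h.tT_mem i.uu mu hd),
      k.one (h.tT_mem i.ww mw hd)]
    exact ⟨rfl, one_mem _⟩
  choose A D C hA hD e3 using fun l : E => (h.mem_V2 i).1 (k.mem _ mT _ (mE l))
  have dg : ∀ a l, a ≠ 0 → A (a * l) = A l ∧ C (a * l) = a * C l := fun a l a0 => by
    obtain ⟨g, g1, g2⟩ := h.tr_diag i li one_ne_zero a0
    have := k.eqv g (st (by simp [g1, g2, mu, Submodule.smul_mem _ a mw])) _ mT _ (mE l)
    rw [e3, h.v2_diag i _ (hA l) (hD l) g1 g2, h.tT_conj g i.uu hc, h.tE_conj g (i.smul_r l),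
      map_smul, g1, g2, one_smul, smul_smul, mul_comm l, e3] at this
    have := h.v2_inj i li (hA _) (hD _) (by simp [hA]) (by simp [hD, h.ss, mul_comm]) this
    exact ⟨by simpa using this.1, by simpa using this.2.2⟩
  obtain ⟨a, a1, a2⟩ := h.exists_unit
  have a0 : a ≠ 0 := fun e => by simp [e] at a1
  have A0 : ∀ l, A l = 0 := fun l => by
    have := k.add _ mT _ (mE (a * l)) _ (mE l)
    rw [← h.tE_add (.of_ti (i.ti h) mu (Submodule.smul_mem _ _ mw) (Submodule.smul_mem _ _ mw)),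
      ← add_smul, e3, e3, e3, h.v2_mul i _ _ (hA _) (hD _) (hA _) (hD _)] at this
    have := (h.v2_inj i li (hA _) (hD _) (by simp [hA]) (by simp [hD]) this).1
    rwa [← add_one_mul, (dg _ l fun e => a2 (by linear_combination e - h.two)).1, (dg a l a0).1,
      h.add_self] at this
  have u0 : u ≠ 0 := li.ne_zero 0
  have mn : ∀ d, σ d = d → ∃ α γ, σ α = α ∧ σ γ = γ ∧ b (tT B u c) (tT B u d) = tT B u γ ∧
      b (tT B u c) (tT B w d) = tT B u α * tT B w γ ∧ C d = γ := fun d hd => by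
    obtain ⟨γ, g1, g2⟩ := (h.mem_RR i.uu).1 (k.root u mu u0 c d hc hd)
    have mW := h.tT_mem i.ww mw hd
    obtain ⟨α, β, l, b1, b2, b3⟩ := (h.mem_V2 i).1 (k.mem _ mT _ mW)
    obtain rfl : l = 0 := by
      obtain ⟨g, e1, e2⟩ := h.tr_diag i li a0 one_ne_zero
      have := k.eqv g (st (by simp [e1, e2, mw, Submodule.smul_mem _ a mu])) _ mT _ mW
      rw [b3, h.v2_diag i _ b1 b2 e1 e2, h.tT_conj g i.uu hc, h.tT_conj g i.ww hd, e1, e2,
        one_smul, h.tT_smul i.uu a hc, a1, one_mul, b3] at this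
      have := (h.v2_inj i li b1 b2 (by simp [b1]) (by simp [b2]) this).2.2
      by_contra l0
      exact a2 (by
        have : σ a = 1 := mul_right_cancel₀ l0 (by linear_combination -this)
        rw [← h.ss a, this, map_one])
    obtain ⟨g, e1, e2⟩ := h.tr_el i li 1
    have := k.eqv g (st (by simp [e1, e2, mu, add_mem mw mu])) _ mT _ mW
    rw [b3, h.v2_el i _ b1 b2 e1 e2, h.tT_conj g i.uu hc, h.tT_conj g i.ww hd, e1, e2, one_smul,
      add_comm w, h.tT_vadd i hd, k.add _ mT _ (mul_mem (h.tT_mem i.uu mu hd) mW) _ (mE d),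
      k.add _ mT _ (h.tT_mem i.uu mu hd) _ mW, g2, b3, e3, ← mul_assoc (tT B u γ), ← mul_assoc (tT B u γ),
      ← h.tT_add i.uu g1 b1, h.v2_mul i _ _ (by simp [g1, b1]) b2 (hA _) (hD _)] at this
    obtain ⟨r1, -, r3⟩ := h.v2_inj i li (by simp [g1, b1, hA]) (by simp [b2, hD])
      (by simp [b1, b2]) b2 this
    obtain rfl : γ = β := by
      rw [A0] at r1
      simp only [map_one, map_zero, zero_mul] at r1
      linear_combination r1
    exact ⟨α, γ, b1, g1, g2, by rw [b3, zero_smul, h.tE_zero, mul_one], by simpa using r3⟩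
  have Cc : C c = 0 := by
    obtain ⟨-, γ, -, g1, g2, -, g3⟩ := mn c hc
    rw [g3]
    exact h.tT_inj i.uu u0 g1 (map_zero σ) (by rw [← g2, k.self _ mT, h.tT_zero])
  by_cases d0 : d = 0
  · rw [d0, h.tT_zero, h.tT_zero, k.one mT]
    exact ⟨rfl, one_mem _⟩
  obtain ⟨α, γ, a1, -, g2, g3, g4⟩ := mn d hd
  rw [← div_mul_cancel₀ d c0, (dg _ c (div_ne_zero d0 c0)).2, Cc, mul_zero] at g4
  rw [g2, g3, ← g4, h.tT_zero, h.tT_zero, mul_one]
  exact ⟨rfl, (h.mem_RR i.uu).2 ⟨α, a1, rfl⟩⟩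

theorem Bi.key' (h : Mo B) (k : Bi (Submodule.span E {u, w}) b) (i : I2 B u w)
    (li : LinearIndependent E ![u, w]) {c : E} (hc : σ c = c) {d : E} (hd : σ d = d) :
    b (tT B u c) (tT B w d) = 1 := by
  obtain ⟨α, a1, a2⟩ := (h.mem_RR i.uu).1 (k.key h i li hc hd).2
  obtain ⟨β, b1, b2⟩ := (h.mem_RR i.ww).1 (Bi.key h (Set.pair_comm u w ▸ k) (i.symm h)
    (LinearIndependent.pair_symm_iff.1 li) hd hc).2
  rw [k.sym _ (h.tT_mem i.ww (Submodule.subset_span (by simp)) hd) _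
    (h.tT_mem i.uu (Submodule.subset_span (by simp)) hc), a2] at b2
  rw [a2, (h.v2_inj i li (d := 0) (l := 0) (c' := 0) (l' := 0) a1 (map_zero σ) (map_zero σ) b1
    (by simp [h.tT_zero, h.tE_zero, b2])).1, h.tT_zero]

theorem comm_cen {a b x y : G} (h1 : Commute x b) (h2 : Commute x y) (h3 : Commute y a) :
    ⁅a * x, b * y⁆ = ⁅a, b⁆ := by
  rw [commutatorElement_mul_left_eq_conj_mul, (h1.mul_right h2).commutator_eq,
    commutatorElement_mul_right_eq_mul_conj, h3.symm.commutator_eq]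
  group

theorem exists_bi (h : H3r φ t RT 3) (hW : TotIso B W) (h0 : W ≠ ⊥) (h3 : finrank E W ≤ 3) :
    ∃ b, Bi W b ∧ ∀ v ∈ VW B W, ∀ v' ∈ VW B W, ∀ j ∈ VT RT W, ∀ j' ∈ VT RT W,
      j * t * j⁻¹ = t * φ v → j' * t * j'⁻¹ = t * φ v' → ⁅j, j'⁆ = φ (b v v') := by
  have J := h.VT_le_JJ hW
  have cV : ∀ j ∈ VT RT W, ∀ v ∈ VW B W, Commute (φ v) j := fun j hj v hv =>
    mem_Cs.1 (h.toH1.JJ_cV hW (J hj)) _ ⟨v, hv, rfl⟩
  have : ∀ v v', ∃ z, v ∈ VW B W → v' ∈ VW B W → z ∈ VW B W ∧ ∀ j ∈ VT RT W, ∀ j' ∈ VT RT W,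
      j * t * j⁻¹ = t * φ v → j' * t * j'⁻¹ = t * φ v' → ⁅j, j'⁆ = φ z := fun v v' => by
    by_cases e : v ∈ VW B W ∧ v' ∈ VW B W
    swap
    · exact ⟨1, fun a b => absurd ⟨a, b⟩ e⟩
    obtain ⟨i, i1, i2⟩ := h.VT_onto hW e.1
    obtain ⟨i', i1', i2'⟩ := h.VT_onto hW e.2
    obtain ⟨z, z1, z2⟩ := h.toH1.JJ_comm hW h0 (J i1) (J i1')
    refine ⟨z, fun _ _ => ⟨z1, fun j hj j' hj' e1 e2 => ?_⟩⟩
    obtain ⟨x, x1, rfl⟩ := h.VT_eq hW h3 hj i1 (e1.trans i2.symm)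
    obtain ⟨y, y1, rfl⟩ := h.VT_eq hW h3 hj' i1' (e2.trans i2'.symm)
    rw [z2, comm_cen (cV _ i1' x x1) (cV _ (h.V_le hW ⟨y, y1, rfl⟩) x x1) (cV _ i1 y y1)]
  choose b hb using this
  have m := fun v hv v' hv' => (hb v v' hv hv').1
  have s := fun v hv v' hv' => (hb v v' hv hv').2
  have inj : ∀ {x y}, x ∈ VW B W → y ∈ VW B W → φ x = φ y → x = y := fun hx hy =>
    h.eq2 (.of_sq (h.sq_VW hW hx)) (.of_sq (h.sq_VW hW hy))
  choose! l l1 l2 using fun v (hv : v ∈ VW B W) => h.VT_onto hW hv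
  have sl := fun v hv v' hv' => s v hv v' hv' _ (l1 v hv) _ (l1 v' hv') (l2 v hv) (l2 v' hv')
  refine ⟨b, ⟨m, fun v hv v' hv' v'' hv'' => inj (m _ hv _ (mul_mem hv' hv''))
    (mul_mem (m _ hv _ hv') (m _ hv _ hv'')) ?_, fun v hv v' hv' => inj (m _ hv _ hv') (m _ hv' _ hv)
      ?_, fun v hv => inj (m _ hv _ hv) (one_mem _) ?_, fun g hg v hv v' hv' => ?_,
      fun x hx x0 c d hc hd => ?_⟩, s⟩
  · rw [← s _ hv _ (mul_mem hv' hv'') _ (l1 v hv) _ (mul_mem (l1 v' hv') (l1 v'' hv'')) (l2 v hv)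
      (h.toH1.JJ_mul hW (J (l1 v' hv')) hv'' (l2 v' hv') (l2 v'' hv'')),
      commutatorElement_mul_right_eq_mul_conj, sl v hv v' hv', sl v hv v'' hv'', map_mul,
      mul_assoc (φ _), ← (cV _ (l1 v' hv') _ (m _ hv _ hv'')).eq]
    group
  · rw [← sl v hv v' hv', ← commutatorElement_inv, sl v' hv' v hv, ← map_inv,
      inv_eq_of_mul_eq_one_right (h.sq_VW hW (m _ hv' _ hv))]
  · rw [← sl v hv v hv, commutatorElement_self, map_one]
  · have n := fun v (hv : v ∈ VW B W) => mem_normalizer_conj (St_le_Ns hg).1.1 hv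
    have n' := fun j (hj : j ∈ VT RT W) => mem_normalizer_conj (mem_Ns_iff.2 (h.cj_VT hW hg)) hj
    have q : ∀ v ∈ VW B W, φ g * l v * (φ g)⁻¹ * t * (φ g * l v * (φ g)⁻¹)⁻¹ =
        t * φ (g * v * g⁻¹) := fun v hv =>
      calc _ = φ g * (l v * ((φ g)⁻¹ * t * φ g) * (l v)⁻¹) * (φ g)⁻¹ := by group
        _ = _ := by
          rw [mul_assoc _ t, (h.tc g).eq, inv_mul_cancel_left, l2 v hv, ← mul_assoc, ← (h.tc g).eq,
            map_mul, map_mul, map_inv]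
          group
    refine inj (m _ (n v hv) _ (n v' hv')) (n _ (m _ hv _ hv')) ?_
    rw [← s _ (n v hv) _ (n v' hv') _ (n' _ (l1 v hv)) _ (n' _ (l1 v' hv')) (q v hv) (q v' hv'),
      ← conjugate_commutatorElement, sl v hv v' hv', map_mul, map_mul, map_inv]
  · have xx := hW x hx x hx
    obtain ⟨j, j1, j2⟩ := h.onto x c xx hc
    obtain ⟨j', j1', j2'⟩ := h.onto x d xx hd
    obtain ⟨z, z1, z2⟩ := h.toH1.JJ_comm (ti1 xx) (by simpa using x0) (h.le x xx j1) (h.le x xx j1')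
    have m1 := h.tT_mem xx hx hc
    have m2 := h.tT_mem xx hx hd
    rw [s _ m1 _ m2 _ (le_VT hx j1) _ (le_VT hx j1') j2 j2'] at z2
    exact inj (VW_mono ((Submodule.span_singleton_le_iff_mem _ _).2 hx) z1) (m _ m1 _ m2) z2 ▸ z1

theorem tau (h : H3r φ t RT 3) (hu : B u u = 0) {j : G} (hj : j ∈ RT u) :
    ∃ c, σ c = c ∧ j * t * j⁻¹ = t * φ (tT B u c) := by
  obtain ⟨v, v1, v2⟩ := h.toH1.JJ_tau (ti1 hu) (h.le u hu hj)
  obtain ⟨c, hc, rfl⟩ := (h.mem_RR hu).1 v1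
  exact ⟨c, hc, v2⟩

theorem main (h : H3r φ t RT 3) (i : I2 B u w) (li : LinearIndependent E ![u, w]) :
    RT u ≤ Cs (RT u) ∧ RT u ≤ Cs (RT w) := by
  have mu : u ∈ Submodule.span E {u, w} := Submodule.subset_span (by simp)
  have mw : w ∈ Submodule.span E {u, w} := Submodule.subset_span (by simp)
  obtain ⟨b, k, e⟩ := exists_bi h (i.ti h.toMo) (fun e => li.ne_zero 0 (by
    rwa [e, Submodule.mem_bot] at mu)) ((rk2 u w).trans (by decide))
  refine ⟨fun j hj => mem_Cs.2 fun j' hj' => ?_, fun j hj => mem_Cs.2 fun j' hj' => ?_⟩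
  · obtain ⟨c, c1, c2⟩ := tau h i.uu hj
    obtain ⟨d, d1, d2⟩ := tau h i.uu hj'
    rw [eq_comm, ← commutatorElement_eq_one_iff_mul_comm, e _ (h.tT_mem i.uu mu c1) _
      (h.tT_mem i.uu mu d1) _ (le_VT mu hj) _ (le_VT mu hj') c2 d2, (k.key h.toMo i li c1 d1).1,
      map_one]
  · obtain ⟨c, c1, c2⟩ := tau h i.uu hj
    obtain ⟨d, d1, d2⟩ := tau h i.ww hj'
    rw [eq_comm, ← commutatorElement_eq_one_iff_mul_comm, e _ (h.tT_mem i.uu mu c1) _
      (h.tT_mem i.ww mw d1) _ (le_VT mu hj) _ (le_VT mw hj') c2 d2, k.key' h.toMo i li c1 d1,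
      map_one]

end P3d

theorem H3r.h3c (h : H3r φ t RT 3) : H3c φ t RT := by
  refine ⟨h, fun u w i => ?_⟩
  by_cases u0 : u = 0
  · rw [u0, h.zero]
    exact bot_le
  by_cases li : LinearIndependent E ![u, w]
  · exact (P3d.main h i li).2
  rw [LinearIndependent.pair_iff' u0] at li
  push Not at li
  obtain ⟨a, rfl⟩ := li
  by_cases a0 : a = 0
  · rw [le_Cs_comm, a0, zero_smul, h.zero]
    exact bot_le
  obtain ⟨w, k, li⟩ := h.ext2 i.uu u0
  rw [h.smul a u a0 i.uu]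
  exact (P3d.main h k li).1

end Cfsg.Lib.SU5
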