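import Cfsg.Agent.SU5.P3r
import Cfsg.Agent.SU5.K3
import Cfsg.Agent.SU5.K4

/-!
# Standard subgroups of type `U_m(2ⁿ)`: the new root elements
-/

set_option autoImplicit false
set_option linter.unusedSectionVars false

namespace Cfsg.Lib.SU5

open Subgroup Module Cfsg.Lib.Trans Cfsg.Lib.Gold Cfsg.Lib.Class.Form Cfsg.Lib.Class.FAut
open Cfsg.Lib.Comp (Tw)
open scoped commutatorElement

variable {G E M : Type*} [Group G] [Finite G] [Field E] [Finite E] [AddCommGroup M] [Module E M]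
  [FiniteDimensional E M] {σ : E →+* E} {B : M →ₛₗ[σ] M →ₗ[E] E} {φ : sIsom B →* G} {t : G}
  {RT : M → Subgroup G}

namespace P3f

theorem comm {A : Type*} [Group A] (h : ∀ x : A, x * x = 1) (a b : A) : a * b = b * a := by
  have e : ∀ x : A, x⁻¹ = x := fun x => inv_eq_of_mul_eq_one_right (h x)
  rw [← e (a * b), mul_inv_rev, e, e]

theorem nine {A : Type*} [Group A] (h : ∀ x : A, x * x = 1) {a b c d e f : A}
    (k : a * d * e * (d * b * f) * (e * f * c) = 1) : a * b = c := by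
  let _ : CommGroup A := { (inferInstance : Group A) with mul_comm := comm h }
  have : a * d * e * (d * b * f) * (e * f * c) = a * b * c * (d * d) * (e * e) * (f * f) := by ac_rfl
  rw [this, h, h, h, mul_one, mul_one, mul_one, ← h c] at k
  exact mul_right_cancel k

theorem addN (h : H3e φ t RT) {f : M → G} (mem : ∀ u, B u u = 0 → f u ∈ RT u)
    (tf : ∀ u, B u u = 0 → f u * t * (f u)⁻¹ = t * φ (tT B u 1))
    (feqv : ∀ g u, φ g * f u * (φ g)⁻¹ = f (lin g u)) (a b c : E) (u : M) (hu : B u u = 0)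
    (e : σ a * a + σ b * b = σ c * c) : f (a • u) * f (b • u) = f (c • u) := by
  have mo := h.toMo
  have f0 : f 0 = 1 := mem_bot.1 (h.zero ▸ mem 0 (by simp))
  by_cases u0 : u = 0
  · simp [u0, f0]
  have iso : ∀ a : E, B (a • u) (a • u) = 0 := fun a => ((I2.self hu).smul a a).uu
  have mm : ∀ a : E, f (a • u) ∈ RT u := fun a => by
    by_cases a0 : a = 0
    · rw [a0, zero_smul, f0]; exact one_mem _
    · exact h.smul a u a0 hu ▸ mem _ (iso a)
  have ex : ∀ a : E, a ≠ 0 → ∃ g : sIsom B, ∀ b : E, lin g (b • u) = (a * b) • u := fun a a0 =>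
    (mo.tr1 hu u0 (iso a) (smul_ne_zero a0 u0)).imp fun g k b => by
      rw [map_smul, k, smul_smul, mul_comm]
  have un : ∀ a b : E, σ a * a = σ b * b → f (a • u) = f (b • u) := fun a b k => by
    by_cases b0 : b = 0
    · rw [b0, mul_zero, mul_eq_zero, map_eq_zero, or_self] at k
      rw [k, b0]
    have a0 : a ≠ 0 := fun l => b0 (by simpa [l] using k)
    obtain ⟨g, hg⟩ := ex (a / b) (div_ne_zero a0 b0)
    have := h.toH2.JJ_fix1 hu u0 (g := g) (a := a / b) (by
      rw [map_div₀, div_mul_div_comm, k, div_self (mul_ne_zero ((map_ne_zero σ).2 b0) b0)])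
      (by simpa using hg 1)
    rw [← div_mul_cancel₀ a b0, ← hg, ← feqv, ← mem_Cs.1 this _ (h.le u hu (mm b)), mul_inv_cancel_right]
  by_cases a0 : a = 0
  · rw [a0, zero_smul, f0, one_mul]; exact un _ _ (by simpa [a0] using e)
  by_cases b0 : b = 0
  · rw [b0, zero_smul, f0, mul_one]; exact un _ _ (by simpa [b0] using e)
  by_cases c0 : c = 0
  · rw [c0, zero_smul, f0, un a b (by rw [c0, mul_zero] at e; linear_combination e - σ b * b * mo.two)]
    exact h.el u hu _ (mm b)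
  obtain ⟨a, rfl⟩ := mo.exists_sq a
  obtain ⟨b, rfl⟩ := mo.exists_sq b
  obtain ⟨c, rfl⟩ := mo.exists_sq c
  have e' : σ a * a + σ b * b = σ c * c := mo.sq_inj (by
    simp only [map_mul] at e
    linear_combination e + σ a * a * (σ b * b) * mo.two)
  have fx : ∀ a : E, σ (σ a * a) = σ a * a := fun a => by rw [map_mul, mo.ss, mul_comm]
  have z : ∀ d, σ d = d → tT B (a • u) d * tT B (b • u) d * tT B (c • u) d = 1 := fun d hd => by
    have k : ∀ a : E, σ (σ a * a * d) = σ a * a * d := fun a => by rw [map_mul, fx, hd]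
    rw [mo.tT_smul hu a hd, mo.tT_smul hu b hd, mo.tT_smul hu c hd, ← mo.tT_add hu (k a) (k b), ← add_mul, e']
    exact mo.tT_sq hu (k c)
  have ti := ti1 hu
  have tv : ∀ a : E, tT B (a • u) 1 ∈ VW B (E ∙ u) := fun a =>
    mo.tT_mem (iso a) (Submodule.smul_mem _ a (Submodule.mem_span_singleton_self u)) (map_one σ)
  have p := h.toH1.JJ_mul ti (h.le u hu (mul_mem (mm a) (mm b))) (tv c)
    (h.toH1.JJ_mul ti (h.le u hu (mm a)) (tv b) (tf _ (iso a)) (tf _ (iso b))) (tf _ (iso c))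
  rw [z 1 (map_one σ), map_one, mul_one, mul_inv_eq_iff_eq_mul] at p
  obtain ⟨v, hv, p⟩ := h.toH3r.VT_ker ti ((finrank_span_singleton u0).trans_le (by omega))
    ((h.toH3r.VT_one hu).ge (mul_mem (mul_mem (mm a) (mm b)) (mm c))) p
  obtain ⟨d, hd, rfl⟩ := (mo.mem_RR hu).1 hv
  have q : ∀ x : E, x * x ≠ 0 → f ((x * a) • u) * f ((x * b) • u) * f ((x * c) • u) = φ (tT B (x • u) d) :=
    fun x x0 => by
      obtain ⟨g, hg⟩ := ex x fun l => x0 (by rw [l, mul_zero])
      rw [← hg, ← hg, ← hg, ← feqv, ← feqv, ← feqv, ← mul_one x, ← hg, one_smul, ← mo.tT_conj g hu hd,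
        map_mul, map_mul, p, map_inv]
      group
  have r := congrArg φ (z d hd)
  rw [map_mul, map_mul, ← q a a0, ← q b b0, ← q c c0, map_one, mul_comm b a, mul_comm c a, mul_comm c b] at r
  exact congrArg Subtype.val (nine (A := RT u) (fun x => Subtype.ext (h.el u hu x x.2)) (a := ⟨_, mm _⟩)
    (b := ⟨_, mm _⟩) (c := ⟨_, mm _⟩) (d := ⟨_, mm _⟩) (e := ⟨_, mm _⟩) (f := ⟨_, mm _⟩) (Subtype.ext r))

end P3f

theorem H3e.h3f (h : H3e φ t RT) : ∃ f, H3f φ t RT f := by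
  classical
  have mo := h.toMo
  obtain ⟨u, u0, hu⟩ := mo.exists_iso
  obtain ⟨j, hj, e⟩ := h.onto u 1 hu (map_one σ)
  let f : M → G := fun x => if k : ∃ g : sIsom B, lin g u = x then φ k.choose * j * (φ k.choose)⁻¹ else 1
  have fg : ∀ g : sIsom B, f (lin g u) = φ g * j * (φ g)⁻¹ := fun g => by
    have k : ∃ g' : sIsom B, lin g' u = lin g u := ⟨g, rfl⟩
    have := mem_Cs.1 (h.toH2.JJ_fix1 hu u0 (g := g⁻¹ * k.choose) (a := 1) (by simp)
      (by rw [lin_mul, k.choose_spec, lin_inv_lin, one_smul])) _ (h.le u hu hj)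
    rw [map_mul, map_inv, ← mul_assoc] at this
    simp only [f, dif_pos k]
    rw [← mul_inv_cancel_left (φ g) (_ * j), ← mul_assoc (φ g)⁻¹, ← this]
    group
  have cs : ∀ x, B x x = 0 → (x = 0 ∧ f x = 1) ∨ ∃ g, x = lin g u := fun x hx => by
    by_cases x0 : x = 0
    · exact .inl ⟨x0, dif_neg fun ⟨g, k⟩ => u0 ((lin g).map_eq_zero_iff.1 (k.trans x0))⟩
    · exact .inr ((mo.tr1 hu u0 hx x0).imp fun _ => Eq.symm)
  have mem : ∀ x, B x x = 0 → f x ∈ RT x := fun x hx => by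
    obtain ⟨-, k⟩ | ⟨g, rfl⟩ := cs x hx
    · exact k ▸ one_mem _
    · rw [fg, ← h.eqv g u hu]; exact conj_mem_cj.2 hj
  have tf : ∀ x, B x x = 0 → f x * t * (f x)⁻¹ = t * φ (tT B x 1) := fun x hx => by
    obtain ⟨rfl, k⟩ | ⟨g, rfl⟩ := cs x hx
    · rw [k, mo.tT_zero', map_one, inv_one, one_mul]
    · rw [fg, ← mo.tT_conj g hu (map_one σ), map_mul, map_mul, map_inv, ← mul_assoc, ← mul_assoc,
        h.tc g, mul_assoc (φ g) t, ← e, mul_assoc _ _ t, ← (h.tc g).inv_right]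
      group
  have feqv : ∀ g x, φ g * f x * (φ g)⁻¹ = f (lin g x) := fun g x => by
    by_cases k : ∃ g : sIsom B, lin g u = x
    · obtain ⟨g', rfl⟩ := k
      rw [← lin_mul, fg, fg, map_mul]
      group
    · simp only [f]
      rw [dif_neg k, dif_neg fun ⟨g', l⟩ => k ⟨g⁻¹ * g', by rw [lin_mul, l, lin_inv_lin]⟩, mul_one,
        mul_inv_cancel]
  exact ⟨f, h, mem, fun x hx => dif_neg fun ⟨g, k⟩ => hx (by rw [← k, lin_isom, hu]), tf, feqv,
    P3f.addN h mem tf feqv⟩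

end Cfsg.Lib.SU5
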