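import Cfsg.Agent.SU5.SYk

/-!
# Standard subgroups of type `U_m(2ⁿ)`: the pure complement
-/

set_option autoImplicit false
set_option linter.unusedSectionVars false

namespace Cfsg.Lib.SU5

open Subgroup Module Cfsg.Lib.Trans Cfsg.Lib.Gold Cfsg.Lib.Class.Form Cfsg.Lib.Class.FAut ESa
open Cfsg.Lib.SG2 (Uq Top Pp)
open Cfsg.Lib.Comp (Tw)
open scoped commutatorElement

variable {G E M : Type*} [Group G] [Finite G] [Field E] [Finite E] [AddCommGroup M] [Module E M]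
  [FiniteDimensional E M] {σ : E →+* E} {B : M →ₛₗ[σ] M →ₗ[E] E} {φ φ' : sIsom B →* G} {t : G}
  {X : Subgroup G} {y z : sIsom B →* G} {P : Subgroup G} {U : Subgroup (sIsom B)} {W : Submodule E M}
  {u : M} {γ : (E ≃+* E) →* MulAut (sIsom B)}

theorem Fr.mp_U (k : Fr B U W u γ) {l : sIsom B} (hl : l ∈ U) {τ : E ≃+* E} (h : Tw τ) :
    mp (MulAut.conj l * γ τ) U = U := by
  have : cj l (mp (γ τ) U) = mp (MulAut.conj l * γ τ) U := map_map U _ _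
  rw [← this, k.γU τ h, cj_eq_of_mem hl]

theorem SYp.aux (h : FS0 φ t y z X) (k : Fr B U W u γ) {S : Subgroup G} (hS : IsSylowIn 2 S ⊤)
    (ht : t ∈ S) (A : ∀ s ∈ S, s ∈ Ns y.range → ∃ l ∈ U, ∃ τ, Mp y y s (MulAut.conj l * γ τ)) :
    ∃ P, PC t y z U γ P := by
  have m := h.my.toMo
  have hM := h.uq.two_le h.toES.tM hS.isPGroup ht
  have tw : ∀ {y : sIsom B →* G}, Mod y → ∀ s ∈ S, ∀ l τ, Mp y y s (MulAut.conj l * γ τ) → Tw τ :=
    fun hy s hs l τ e => by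
      simpa [m.fa_mul, m.fa_conj, k.faγ] using m.tw_fa (e.tw hy (.of_mem hS.isPGroup hs))
  have act : Mp y z t 1 := h.act
  have A' : ∀ s ∈ S, s ∈ Ns y.range → ∃ l ∈ U, ∃ τ, Mp z z s (MulAut.conj l * γ τ) := fun s hs e => by
    obtain ⟨l, hl, τ, e⟩ := A _ (mul_mem (mul_mem (inv_mem ht) hs) (inv_mem (inv_mem ht)))
      ((h.toES.conj_iff (inv_mem h.toES.tM) (hM hs)).2 e)
    refine ⟨l, hl, τ, ?_⟩
    simpa [mul_assoc] using (act.mul e).mul act.inv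
  have st := h.toES.swp_t (γ := γ)
  have I : ∀ H : Subgroup G, t ∈ H → (∀ s ∈ S, s ∈ Ns y.range → s ∈ H) → S ≤ H := fun H h1 h2 s hs => by
    by_cases e : s ∈ Ns y.range
    · exact h2 s hs e
    · exact (mul_mem_cancel_right h1).1 (h2 _ (mul_mem hs ht)
        (h.toES.idx _ (hM hs) _ (hM ht) e (h.toES.swp_not st)))
  have N : S ≤ Ns (U.map y ⊔ U.map z) := I _ (mem_Ns_iff.2 (by
    rw [cj_sup, st.1.cj_map, st.2.cj_map, k.γU 1 ⟨0, one_pow _⟩, sup_comm])) fun s hs e => by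
    obtain ⟨a, ha, τ₁, e1⟩ := A s hs e
    obtain ⟨b, hb, τ₂, e2⟩ := A' s hs e
    rw [mem_Ns_iff, cj_sup, e1.cj_map, e2.cj_map, k.mp_U ha (tw h.my s hs _ _ e1),
      k.mp_U hb (tw h.mz s hs _ _ e2)]
  have T : U.map y ⊔ U.map z ≤ S := le_sup_left.trans (hS.eq_of_le (Comp.isPGroup_sup
    (h.toES.pg_sup k.syl.isPGroup k.syl.isPGroup) hS.isPGroup N) le_sup_right le_top).le
  let P : Subgroup G :=
    { carrier := {p | p ∈ S ∧ ∃ τ₁ τ₂, Tw τ₁ ∧ Tw τ₂ ∧ (Nsw y z γ p τ₁ τ₂ ∨ Swp y z γ p τ₁ τ₂)}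
      one_mem' := ⟨one_mem _, 1, 1, ⟨0, one_pow _⟩, ⟨0, one_pow _⟩, .inl Nsw.one⟩
      mul_mem' := by
        rintro p q ⟨hp, a, b, ha, hb, e | e⟩ ⟨hq, c, d, hc, hd, e' | e'⟩
        exacts [⟨mul_mem hp hq, _, _, tw_mul ha hc (aut_comm _ _), tw_mul hb hd (aut_comm _ _),
            .inl (e.mul e')⟩,
          ⟨mul_mem hp hq, _, _, tw_mul hb hc (aut_comm _ _), tw_mul ha hd (aut_comm _ _),
            .inr (e.mul_swp e')⟩,
          ⟨mul_mem hp hq, _, _, tw_mul ha hc (aut_comm _ _), tw_mul hb hd (aut_comm _ _),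
            .inr (e.mul_nsw e')⟩,
          ⟨mul_mem hp hq, _, _, tw_mul hb hc (aut_comm _ _), tw_mul ha hd (aut_comm _ _),
            .inl (e.mul e')⟩]
      inv_mem' := by
        rintro p ⟨hp, a, b, ha, hb, e | e⟩
        exacts [⟨inv_mem hp, _, _, tw_inv ha, tw_inv hb, .inl e.inv⟩,
          ⟨inv_mem hp, _, _, tw_inv hb, tw_inv ha, .inr e.inv⟩] }
  have tP : t ∈ P := ⟨ht, 1, 1, ⟨0, one_pow _⟩, ⟨0, one_pow _⟩, .inr st⟩
  refine ⟨P, hS.isPGroup.to_le fun p hp => hp.1, tP, fun p hp => hp.2, fun p hp e => ?_, ?_⟩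
  · rw [Nsw, map_one] at e
    exact h.toES.one_of_Mp e.1 e.2 (.of_mem hS.isPGroup hp.1)
  refine le_antisymm (I _ (mem_sup_right tP) fun s hs e => ?_) (sup_le T fun p hp => hp.1) ▸ hS
  obtain ⟨a, ha, τ₁, e1⟩ := A s hs e
  obtain ⟨b, hb, τ₂, e2⟩ := A' s hs e
  have h1 := h.toES.mem_sup.2 ⟨a, ha, b, hb, rfl⟩
  refine (mul_mem_cancel_left (inv_mem (mem_sup_left h1))).1 (mem_sup_right
    ⟨mul_mem (inv_mem (T h1)) hs, τ₁, τ₂, tw h.my s hs _ _ e1, tw h.mz s hs _ _ e2, .inl ⟨?_, ?_⟩⟩)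
  · simpa using (h.toES.mp_mul a b).1.inv.mul e1
  · simpa using (h.toES.mp_mul a b).2.inv.mul e2

theorem FS0.exists_PC (h : FS0 φ t y z X) (k : Fr B U W u γ) :
    ∃ β P, PC t (SU5.re y β) (SU5.re z β) U γ P := by
  obtain ⟨S, hS, h1⟩ := exists_isSylowIn_ge (Tw.of_sq h.t2).isPGroup (le_top (a := zpowers t))
  obtain ⟨ρ, hρ⟩ := h.my.exists_ind
  obtain ⟨β, hβ⟩ := k.conj_into h.my.toMo ((isPGroup_subgroupOf hS.isPGroup _).map ρ)
  refine ⟨β, SYp.aux (h.re β) k hS (h1 (mem_zpowers t)) fun s hs e => ?_⟩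
  rw [range_re] at e
  obtain ⟨l, hl, τ, e'⟩ := hβ _ ⟨⟨s, e⟩, hs, rfl⟩
  refine ⟨l, hl, τ, fun a => ?_⟩
  rw [← e', re_apply, re_apply, hρ ⟨s, e⟩]
  simp

end Cfsg.Lib.SU5
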