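import Cfsg.Agent.SU5.K4

/-!
# Generation lemmas for the field case
-/

set_option autoImplicit false
set_option linter.unusedSectionVars false
set_option linter.unusedVariables false

namespace Cfsg.Lib.SU5

open Subgroup Module Cfsg.Lib.Trans Cfsg.Lib.Gold Cfsg.Lib.Class.Form Cfsg.Lib.Class.FAut
open scoped commutatorElement

variable {E M : Type*} [Field E] [Finite E] [AddCommGroup M] [Module E M] [FiniteDimensional E M]
  {σ : E →+* E} {B : M →ₛₗ[σ] M →ₗ[E] E}

namespace GN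

/-- The isometries of `N` whose extension by the identity lies in `H`. -/
def res (H : Subgroup (sIsom B)) (N : Submodule E M) : Subgroup (isomGroup (restr B N)) where
  carrier := {g | ∃ a ∈ H, (∀ x : N, lin a x = (g : N ≃ₗ[E] N) x) ∧ ∀ y ∈ orth B N, lin a y = y}
  one_mem' := ⟨1, one_mem _, fun _ => rfl, fun _ _ => rfl⟩
  mul_mem' := by
    rintro g g' ⟨a, ha, h1, h2⟩ ⟨b, hb, h3, h4⟩
    exact ⟨a * b, mul_mem ha hb, fun x => by rw [lin_mul, h3, h1]; rfl,
      fun y hy => by rw [lin_mul, h4 y hy, h2 y hy]⟩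
  inv_mem' := by
    rintro g ⟨a, ha, h1, h2⟩
    refine ⟨a⁻¹, inv_mem ha, fun x => ?_, fun y hy => ?_⟩
    · obtain ⟨x, rfl⟩ := (g : N ≃ₗ[E] N).surjective x
      rw [← h1, lin_inv_lin, isom_inv_apply]
    · conv_lhs => rw [← h2 y hy]
      exact lin_inv_lin a y

theorem res_eq_1' : type_of% @res.eq_1 := @res.eq_1

theorem witt (h : Herm B) (h3 : 5 ≤ finrank E M) {ι : Type*} [Fintype ι] (hc : Fintype.card ι ≤ 2)
    {x y : ι → M} (hx : LinearIndependent E x) (hy : LinearIndependent E y)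
    (hB : ∀ i j, B (y i) (y j) = B (x i) (x j)) : ∃ g : sIsom B, ∀ i, lin g (x i) = y i := by
  have h1 := finrank_range_le_card (R := E) y
  obtain ⟨d, h2, hd⟩ := h.exists_nonisotropic_orth_of_lt
    (W := Submodule.span E (Set.range y)) (by unfold Set.finrank at h1; omega)
  obtain ⟨g, hg⟩ := h.toGood.witt_family hx hy hB
  obtain ⟨μ, hμ, e⟩ := h.exists_mul_qrefl_mem hd g⁻¹
  refine ⟨(⟨_, e⟩ : sIsom B)⁻¹, fun i => ?_⟩
  have : lin (⟨_, e⟩ : sIsom B) (y i) = x i := by
    rw [lin_mk, isom_mul_apply, h.qrefl_apply_of_orth hd μ hμ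
      (h.comm (mem_orth_span.1 h2 _ ⟨i, rfl⟩)), ← hg, isom_inv_apply]
  rw [← this, lin_inv_lin]

theorem wittN (h : Mo B) {N : Submodule E M} (hN : NondegOn B N) (h3 : 5 ≤ finrank E N)
    {H : Subgroup (sIsom B)} (hH : sIsom (restr B N) ≤ res H N) {ι : Type*} [Fintype ι]
    (hc : Fintype.card ι ≤ 2) {x y : ι → M} (xN : ∀ i, x i ∈ N) (yN : ∀ i, y i ∈ N)
    (hx : LinearIndependent E x) (hy : LinearIndependent E y)
    (hB : ∀ i j, B (y i) (y j) = B (x i) (x j)) :
    ∃ a ∈ H, (∀ i, lin a (x i) = y i) ∧ ∀ z ∈ orth B N, lin a z = z := by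
  obtain ⟨g, hg⟩ := witt (h.toHerm.restrict hN) h3 hc (x := fun i => ⟨x i, xN i⟩)
    (y := fun i => ⟨y i, yN i⟩) (LinearIndependent.of_comp N.subtype hx)
    (LinearIndependent.of_comp N.subtype hy) hB
  obtain ⟨a, ha, h1, h2⟩ := hH g.2
  exact ⟨a, ha, fun i => (h1 ⟨x i, xN i⟩).trans (congrArg Subtype.val (hg i)), h2⟩

section dual
variable {ι : Type*} [Fintype ι] [DecidableEq ι] {b d : ι → M}

theorem coef (hb : ∀ i j, B (d j) (b i) = if i = j then 1 else 0) (c : ι → E) (j : ι) :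
    B (d j) (∑ i, c i • b i) = c j := by
  simp [hb]

theorem lind (hb : ∀ i j, B (d j) (b i) = if i = j then 1 else 0) : LinearIndependent E b :=
  Fintype.linearIndependent_iff.2 fun c hc j => by rw [← coef hb c j, hc, map_zero]

theorem nondeg (h : Mo B) (hb : ∀ i j, B (d j) (b i) = if i = j then 1 else 0)
    (hd : ∀ j, d j ∈ Submodule.span E (Set.range b)) :
    NondegOn B (Submodule.span E (Set.range b)) := fun u hu k => by
  obtain ⟨c, rfl⟩ := (Submodule.mem_span_range_iff_exists_fun E).1 hu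
  exact Finset.sum_eq_zero fun j _ => by rw [← coef hb c j, h.swap (k _ (hd j)), zero_smul]

end dual

theorem gram (h : Mo B) {ι : Type*} [DecidableEq ι] {e f : ι → M} (ee : ∀ i j, B (e i) (e j) = 0)
    (ff : ∀ i j, B (f i) (f j) = 0) (ef : ∀ i j, B (e i) (f j) = if i = j then 1 else 0)
    (a c : ι ⊕ ι) : B (Sum.elim e f c.swap) (Sum.elim e f a) = if a = c then 1 else 0 := by
  have fe : ∀ i j, B (f i) (e j) = if j = i then 1 else 0 := fun i j => by
    rw [← h.toHerm.conj, ef]; split_ifs <;> simp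
  rcases a with a | a <;> rcases c with c | c <;> simp [ee, ff, ef, fe, eq_comm]

theorem hyp (h : Mo B) {N : Submodule E M} (hN : NondegOn B N) {n : ℕ} (hn : finrank E N = 2 * n) :
    ∃ e f : Fin n → M, (∀ i j, B (e i) (e j) = 0) ∧ (∀ i j, B (f i) (f j) = 0) ∧
      (∀ i j, B (e i) (f j) = if i = j then 1 else 0) ∧
      Submodule.span E (Set.range (Sum.elim e f)) = N := by
  obtain ⟨W, hW, ti⟩ := (h.toHerm.restrict hN).exists_totIso n hn.ge
  obtain ⟨e, li1, he⟩ := exists_basis hW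
  obtain ⟨s, li2, hs⟩ := exists_basis (W := orth B N) rfl
  have eW : ∀ i, e i ∈ W := fun i => he ▸ Submodule.subset_span ⟨i, rfl⟩
  have sO : ∀ k, s k ∈ orth B N := fun k => hs ▸ Submodule.subset_span ⟨k, rfl⟩
  have ee : ∀ i j, B (e i : M) (e j : M) = 0 := fun i j => ti _ (eW i) _ (eW j)
  obtain ⟨f, ff, ef, sf⟩ := h.dual (e := fun i => (e i : M)) (s := s)
    ((li1.map' N.subtype N.ker_subtype).sum_type li2 (by
      rw [hs]
      exact (h.toGood.nondegOn_iff_disjoint.1 hN).mono_left (Submodule.span_le.2 (by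
        rintro _ ⟨i, rfl⟩; exact (e i).2)))) ee
    fun i k => h.swap (mem_orth.1 (sO k) _ (e i).2)
  refine ⟨_, f, ee, ff, ef, Submodule.eq_of_le_of_finrank_eq (Submodule.span_le.2 ?_) ?_⟩
  · rintro _ ⟨i | i, rfl⟩
    · exact (e i).2
    · refine (h.toGood.orth_orth N).le (?_ : f i ∈ _)
      rw [← hs]
      exact mem_orth_span.2 (by rintro _ ⟨k, rfl⟩; exact sf k i)
  · rw [finrank_span_eq_card (lind (gram h ee ff ef)), hn]
    simp [two_mul]

end GN

open GN

theorem Mo.kap (h : Mo B) {ι : Type*} [Fintype ι] [DecidableEq ι] {b d : ι → M}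
    (hb : ∀ i j, B (d j) (b i) = if i = j then 1 else 0) :
    ∃ κ : Matrix.SpecialLinearGroup ι E →* (M ≃ₗ[E] M), Function.Injective κ ∧
      (∀ i j s, i ≠ j → κ (Chev.slE i j s) = tv B (s • b i) (d j)) ∧
      ∀ u ∈ Submodule.span E (Set.range b), ∀ w ∈ Submodule.span E (Set.range d), B w u = 0 →
        tv B u w ∈ κ.range := by
  let P : M →ₗ[E] ι → E := LinearMap.pi fun j => B (d j)
  let Q : (ι → E) →ₗ[E] M := Fintype.linearCombination E b
  have PQ : ∀ v, P (Q v) = v := fun v => funext fun j => coef hb v j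
  let φ : Matrix.SpecialLinearGroup ι E →* Module.End E M :=
    { toFun := fun g => 1 + Q ∘ₗ Matrix.toLin' (g.1 - 1) ∘ₗ P
      map_one' := by simp
      map_mul' := fun g g' => LinearMap.ext fun x => by
        simp [PQ]; abel }
  let κ : Matrix.SpecialLinearGroup ι E →* (M ≃ₗ[E] M) :=
    (LinearMap.GeneralLinearGroup.generalLinearEquiv E M).toMonoidHom.comp φ.toHomUnits
  have hκ : ∀ g x, κ g x = x + Q ((g.1 - 1).mulVec (P x)) := fun g x => rfl
  refine ⟨κ, (injective_iff_map_eq_one _).2 fun g e => Subtype.ext ?_, fun i j s hij => ?_,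
    fun u hu w hw e => ?_⟩
  · refine sub_eq_zero.1 (Matrix.ext_iff_mulVec.2 fun v => ?_)
    have := congrArg P (hκ g (Q v))
    rw [e, map_add, PQ, PQ] at this
    simpa [PQ] using this
  · ext x
    rw [hκ, tv_apply (by simp [hb, hij]), Chev.coe_slE hij, add_sub_cancel_left,
      Matrix.single_mulVec]
    simp [Q, P, Fintype.linearCombination_apply, Function.update_apply, smul_smul, mul_comm]
  · obtain ⟨α, rfl⟩ := (Submodule.mem_span_range_iff_exists_fun E).1 hu
    obtain ⟨β, rfl⟩ := (Submodule.mem_span_range_iff_exists_fun E).1 hw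
    have k : ∀ x, B (∑ j, β j • d j) x = (fun j => σ (β j)) ⬝ᵥ P x := fun x => by
      simp [P, dotProduct]
    obtain ⟨g, hg⟩ : ∃ g : Matrix.SpecialLinearGroup ι E,
        g.1 = 1 + Matrix.vecMulVec α fun j => σ (β j) := ⟨⟨_, by
      rw [Matrix.vecMulVec_eq Unit, Matrix.det_one_add_replicateCol_mul_replicateRow,
        ← PQ α, ← k]
      exact (congrArg _ e).trans (add_zero _)⟩, rfl⟩
    refine ⟨g, LinearEquiv.ext fun x => ?_⟩
    rw [hκ, tv_apply e, hg, add_sub_cancel_left, k, Matrix.vecMulVec_mulVec, op_smul_eq_smul,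
      map_smul]
    rfl

theorem Mo.gen4 (h : Mo B) {N : Submodule E M} (hN : NondegOn B N) (h4 : finrank E N = 4)
    {H : Subgroup (M ≃ₗ[E] M)} (hH : ∀ u ∈ N, ∀ w ∈ N, I2 B u w → tv B u w ∈ H) {u w : M}
    (hu : u ∈ N) (hw : w ∈ N) (e : B w u = 0) : tv B u w ∈ H := by
  obtain ⟨a, b, h1, h2, h3, rfl⟩ := hyp h hN (n := 2) h4
  have gr := gram h h1 h2 h3
  have vv : ∀ c, B (Sum.elim a b c) (Sum.elim a b c) = 0 := by rintro (c | c) <;> simp [h1, h2]
  obtain ⟨κ, -, k1, k2⟩ := h.kap gr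
  have top := Chev.closure_slE (H.comap κ) fun i j hij s => by
    rw [mem_comap, k1 i j s hij]
    refine hH _ (Submodule.smul_mem _ _ (Submodule.subset_span ⟨i, rfl⟩)) _
      (Submodule.subset_span ⟨_, rfl⟩) ?_
    simpa using (I2.mk (vv i) (vv j.swap) (h.swap (by rw [gr, if_neg hij]))).smul s 1
  obtain ⟨g, hg⟩ := k2 u hu w (by
    rwa [show (fun j : Fin 2 ⊕ Fin 2 => Sum.elim a b j.swap) = Sum.elim a b ∘ Sum.swap from rfl,
      Sum.swap_leftInverse.surjective.range_comp]) e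
  exact hg ▸ (top.ge (mem_top g) : κ g ∈ H)

end Cfsg.Lib.SU5
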