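import Cfsg.Agent.SU5.S1
import Cfsg.Agent.SLA.NF

/-!
# Inner-diagonal and graph involutions centralise large elementary abelian subgroups
-/

set_option autoImplicit false
set_option linter.unusedSectionVars false

namespace Cfsg.Lib.SU5

open Subgroup Module Cfsg.Lib.Trans Cfsg.Lib.Gold Cfsg.Lib.Class.Form Cfsg.Lib.Class.FAut
open Cfsg.Lib.Comp (Tw)
open scoped commutatorElement MatrixGroups

variable {G E : Type*} [Group G] [Finite G] [Field E] [Finite E] {σ : E →+* E} {m : ℕ}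
  {ψ : SL(m, E) →* G}

namespace S2

open Cfsg.Lib.SLA hiding kk Fx mp Mx Hyp cx
variable {d : ℕ}

/-- The corner block attached to a symmetric matrix. -/
def blk (d : ℕ) (S : Sym2 (Fin (SLA.kk d)) → E) : Matrix (I d) (I d) E := fun a b =>
  if h : a.val < SLA.kk d ∧ b.rev.val < SLA.kk d then S s(⟨a, h.1⟩, ⟨b.rev, h.2⟩) else 0

theorem blk_eq_1' : type_of% @blk.eq_1 := @blk.eq_1

theorem blk_zero (S : Sym2 (Fin (SLA.kk d)) → E) {a b : I d}
    (h : SLA.kk d ≤ a.val ∨ b.val < SLA.kk d) : blk d S a b = 0 := by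
  have h1 := kk_add_kl (d := d)
  have h2 := kk_le_kl (d := d)
  refine dif_neg fun k => ?_
  rw [Fin.val_rev] at k
  omega

theorem blk_sq (S : Sym2 (Fin (SLA.kk d)) → E) : blk d S * blk d S = 0 := by
  ext a b
  rw [Matrix.mul_apply]
  refine Finset.sum_eq_zero fun c _ => ?_
  rcases lt_or_ge c.val (SLA.kk d) with k | k
  · rw [blk_zero S (Or.inr k), zero_mul]
  · rw [blk_zero S (a := c) (Or.inl k), mul_zero]

theorem blk_rev (S : Sym2 (Fin (SLA.kk d)) → E) (a b : I d) :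
    blk d S b.rev a.rev = blk d S a b := by
  unfold blk
  by_cases h : a.val < SLA.kk d ∧ b.rev.val < SLA.kk d
  · rw [dif_pos h, dif_pos ⟨h.2, by rw [Fin.rev_rev]; exact h.1⟩, Sym2.eq_swap]
    simp only [Fin.rev_rev]
  · rw [dif_neg h, dif_neg fun k => h ⟨by simpa only [Fin.rev_rev] using k.2, k.1⟩]

theorem blk_inj : Function.Injective (blk (E := E) d) := fun S T e => by
  funext s
  induction s using Sym2.ind with | h i j => ?_
  have h1 := kk_add_kl (d := d)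
  have hi := i.2
  have hj := j.2
  have := congrFun (congrFun e ⟨i, by omega⟩) (Fin.rev ⟨j, by omega⟩)
  simpa [blk] using this

theorem card_gr (h : Par d E) : Nat.card E ^ (SLA.kk d * (SLA.kk d + 1) / 2) ≤
    Nat.card ↥(A0 d E ⊓ SLA.Fx (gr d E)) := by
  have sq : ∀ S, (1 + blk d S) * (1 + blk d S) = (1 : Matrix (I d) (I d) E) := fun S => by
    rw [mul_add, mul_one, add_mul, one_mul, blk_sq, add_zero, add_assoc, h.mat_add_self, add_zero]
  let x : (Sym2 (Fin (SLA.kk d)) → E) → SLd d E := fun S =>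
    ⟨1 + blk d S, h.sq_one (by rw [← Matrix.det_mul, sq, Matrix.det_one])⟩
  have h1 : ∀ S, x S ∈ A0 d E ⊓ SLA.Fx (gr d E) := fun S => by
    refine ⟨mem_Aj.2 fun a b k => ?_, SLA.mem_Fx.2 (Subtype.ext ?_)⟩
    · change (1 + blk d S) a b = _
      rw [Matrix.add_apply, blk_zero S k, add_zero]
    · rw [gr_apply, Chev.coe_suσ, inv_eq_of_mul_eq_one_right (Subtype.ext (sq S) : x S * x S = 1)]
      ext a b
      rw [Chev.adjM_apply]
      change (1 + blk d S) b.rev a.rev = (1 + blk d S) a b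
      rw [Matrix.add_apply, Matrix.add_apply, blk_rev, Matrix.one_apply, Matrix.one_apply]
      simp [eq_comm]
  have h2 := Nat.card_le_card_of_injective (fun S => (⟨x S, h1 S⟩ : ↥(A0 d E ⊓ SLA.Fx (gr d E))))
    fun S T e => blk_inj (add_left_cancel (congrArg (fun y => y.1.1) e))
  rwa [Nat.card_fun, Nat.card_eq_fintype_card (α := Sym2 _), Sym2.card, Fintype.card_fin,
    Nat.choose_two_right, Nat.add_sub_cancel, mul_comm (SLA.kk d + 1)] at h2

theorem move {H : Type*} [Group H] {A : Subgroup H} {γ : MulAut H} (δ : MulAut H) (h1 : El A)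
    (h2 : A ≤ SLA.Fx γ) : El (SLA.mp δ A) ∧ SLA.mp δ A ≤ SLA.Fx (δ * γ * δ⁻¹) := by
  refine ⟨h1.map _, fun x hx => ?_⟩
  obtain ⟨y, hy, rfl⟩ := mem_mp.1 hx
  rw [SLA.mem_Fx, MulAut.mul_apply, MulAut.mul_apply, MulAut.inv_apply_self, SLA.mem_Fx.1 (h2 hy)]

theorem aut (h : Par d E) {β : MulAut (SLd d E)} {b : Bool} (h1 : Ty β 1 b) (h2 : β * β = 1) :
    ∃ A : Subgroup (SLd d E), El A ∧ A ≤ SLA.Fx β ∧
      Nat.card E ^ (SLA.kk d * (SLA.kk d + 1) / 2) ≤ Nat.card A := by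
  have el : El (A0 d E) := h.el_AW _
  have fx : ∀ y ∈ A0 d E, A0 d E ≤ SLA.Fx (MulAut.conj y) := fun y hy x hx => by
    rw [SLA.mem_Fx, MulAut.conj_apply, el.comm hy hx, mul_inv_cancel_right]
  have c0 := (card_gr h).trans (Trans.card_le_of_le inf_le_left)
  cases b
  · obtain ⟨l, l2, rfl⟩ := (h1.inr h (Tw.of_sq h2)).lift2 h h2
    by_cases l1 : l = 1
    · exact ⟨_, el, l1 ▸ fx 1 (one_mem _), c0⟩
    obtain ⟨r, k, -, hr, e⟩ := h.inv_nf l2 l1
    obtain ⟨k1, k2⟩ := move (MulAut.conj k⁻¹) el (fx _ (vr_mem_B0 hr).1)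
    refine ⟨_, k1, ?_, by rwa [card_mp]⟩
    rwa [← map_inv, ← map_mul, ← map_mul, ← e, show k⁻¹ * (k * l * k⁻¹) * k⁻¹⁻¹ = l by group] at k2
  · obtain ⟨c, e | ⟨-, e⟩⟩ := h.nf_graph h2 h1
    · obtain ⟨k1, k2⟩ := move (Known.conjSL _ E c) (el.mono inf_le_left)
        (inf_le_right : A0 d E ⊓ SLA.Fx (gr d E) ≤ _)
      exact ⟨_, k1, e ▸ k2, by rw [card_mp]; exact card_gr h⟩
    · obtain ⟨k1, k2⟩ := move (γ := MulAut.conj (z0 d E) * gr d E) (Known.conjSL _ E c)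
        (el.mono (inf_le_left : A0 d E ⊓ SLA.Fx (gr d E) ≤ _)) fun x hx => by
          rw [SLA.mem_Fx, MulAut.mul_apply, SLA.mem_Fx.1 hx.2]
          exact fx _ (R0_le_B0 z0_mem_R0).1 hx.1
      exact ⟨_, k1, e ▸ k2, by rw [card_mp]; exact card_gr h⟩

end S2

theorem Th.rank (h : MS σ ψ) {c : G} {b : Bool} (k : Th ψ c 1 b) (c2 : c * c = 1) :
    ∃ A : Subgroup G, A ≤ C1 c ∧ (∀ a ∈ A, a * a = 1) ∧
      qn σ ^ (m / 2 * (m / 2 + 1)) ≤ Nat.card A := by
  obtain ⟨B, hB⟩ := h.mo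
  obtain ⟨d, rfl⟩ := S1.cases h
  obtain ⟨hn, k⟩ := (S1.th_ty h).1 k
  have hm := S1.md h
  obtain ⟨A, h1, h2, h3⟩ := S2.aut (S1.par h) k (by rw [← hm.ac_mul hn hn, c2, hm.ac_one])
  refine ⟨A.map ψ, (map_mono h2).trans (hm.map_Fx hn), h1.map ψ, ?_⟩
  rw [hm.card h1.two]
  rwa [hB.card_E, ← pow_mul, Nat.mul_div_cancel' (Nat.even_mul_succ_self _).two_dvd] at h3

end Cfsg.Lib.SU5
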