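import Cfsg.Agent.SU5.P3a
import Cfsg.Agent.SU5.K3
import Cfsg.Agent.SU5.FR
import Cfsg.Agent.SU5.SYL
import Cfsg.Agent.SU5.LIFT
import Cfsg.Agent.SU5.GN
import Cfsg.Agent.SU5.S2
import Cfsg.Agent.SU5.S3
import Cfsg.Agent.SU5.PN
import Cfsg.Agent.SG2.SYb
import Cfsg.Agent.SG2.EFf
import Cfsg.Agent.SU4.UFT
import Cfsg.Agent.SU4.PZ

/-!
# Standard subgroups of type `U₅(2ⁿ)`: the model library, collected
-/
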