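import Cfsg.Agent.SU5.Base

/-!
# Standard subgroups of type `U_m(2ⁿ)`: the split case, basic facts
-/

set_option autoImplicit false
set_option linter.unusedSectionVars false

namespace Cfsg.Lib.SU5

open Subgroup Module Cfsg.Lib.Trans Cfsg.Lib.Gold Cfsg.Lib.Class.Form Cfsg.Lib.Class.FAut
open Cfsg.Lib.SG2 (Uq Top Pp)
open Cfsg.Lib.Comp (Tw)
open scoped commutatorElement

namespace ESa

variable {H K : Type*} [Group H] [Group K] {a b : H}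

theorem tw_map {F : Type*} [FunLike F H K] [MonoidHomClass F H K] (f : F) (h : Tw a) : Tw (f a) :=
  h.imp fun _ e => by rw [← map_pow, e, map_one]

theorem tw_inv (h : Tw a) : Tw a⁻¹ := h.imp fun _ e => by rw [inv_pow, e, inv_one]

theorem tw_mul (h : Tw a) (k : Tw b) (c : Commute a b) : Tw (a * b) := by
  obtain ⟨i, h⟩ := h
  obtain ⟨j, k⟩ := k
  exact ⟨i + j, by rw [c.mul_pow, pow_add, pow_mul, h, one_pow, mul_comm, pow_mul, k, one_pow, one_mul]⟩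

theorem tw_odd (h : Tw a) (o : Odd (orderOf a)) : a = 1 := by
  obtain ⟨k, h⟩ := h
  exact orderOf_eq_one_iff.1 (Nat.Coprime.eq_one_of_dvd (o.coprime_two_right.pow_right k)
    (orderOf_dvd_of_pow_eq_one h))

theorem tw_pow (h : Tw a) (n : ℕ) : Tw (a ^ n) :=
  h.imp fun _ e => by rw [← pow_mul, mul_comm, pow_mul, e, one_pow]

theorem tw_root (h : Tw a) {o : ℕ} (ho : Odd o) : ∃ n, (a ^ o) ^ n = a := by
  obtain ⟨k, h⟩ := h
  exact exists_pow_eq_self_of_coprime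
    ((ho.coprime_two_right.pow_right k).coprime_dvd_right (orderOf_dvd_of_pow_eq_one h))

end ESa

open ESa

variable {G E M : Type*} [Group G] [Finite G] [Field E] [Finite E] [AddCommGroup M] [Module E M]
  [FiniteDimensional E M] {σ : E →+* E} {B : M →ₛₗ[σ] M →ₗ[E] E} {φ φ' : sIsom B →* G} {t : G}
  {X : Subgroup G} {y z : sIsom B →* G} {P : Subgroup G} {U : Subgroup (sIsom B)}

theorem ESa.eq_c (h : Mo B) {a b : sIsom B} (ha : Tw a) (hb : Tw b) (e : b⁻¹ * a ∈ center (sIsom B)) :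
    a = b := (inv_mul_eq_one.1 (tw_odd (tw_mul (tw_inv hb) ha (Commute.inv_left (by
  have := mem_center_iff.1 e b
  rw [mul_inv_cancel_left, mul_assoc, eq_inv_mul_iff_mul_eq] at this
  exact this))) (h.odd_center e))).symm

theorem ESa.nab (h : Mod φ) : ¬ φ.range ≤ Cs φ.range := fun e => by
  obtain ⟨u, u0, hu⟩ := h.toMo.exists_iso
  have s := Tw.of_sq (h.toMo.tT_sq hu (map_one σ))
  exact h.toMo.tT_ne hu u0 (map_one σ) one_ne_zero
    (h.inj2 s (h.one_of ⟨_, rfl⟩ (e ⟨_, rfl⟩) (tw_map φ s)))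

theorem ES.symm (h : ES φ t y z) : ES φ t z y where
  toH1 := h.toH1
  my := h.mz
  mz := h.my
  res g := (h.res g).trans (h.com g g).eq
  com g k := (h.com k g).symm
  act g := by
    rw [← h.act]
    calc _ = t * t * y g * (t * t)⁻¹ := by group
      _ = _ := by simp [h.t2]
  cO := sup_comm y.range _ ▸ h.cO
  nL := sup_comm y.range _ ▸ h.nL

theorem ES.re (h : ES φ t y z) (α : MulAut (sIsom B)) :
    ES (SU5.re φ α) t (SU5.re y α) (SU5.re z α) where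
  toH1 := h.toH1.re α
  my := h.my.re α
  mz := h.mz.re α
  res _ := h.res _
  com _ _ := h.com _ _
  act _ := h.act _
  cO := by
    rw [range_re, range_re, Ot, range_re]
    exact h.cO
  nL := by
    rw [range_re, range_re]
    exact h.nL

theorem ES.le_Cs (h : ES φ t y z) : y.range ≤ Cs z.range := by
  rintro _ ⟨g, rfl⟩
  exact mem_Cs.2 (by rintro _ ⟨k, rfl⟩; exact (h.com g k).symm.eq)

theorem ES.map_Cs (h : ES φ t y z) (A₁ A₂ : Subgroup (sIsom B)) : A₁.map y ≤ Cs (A₂.map z) :=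
  (map_le_range _ _).trans (h.le_Cs.trans (Cs_anti (map_le_range _ _)))

theorem ES.one_of (h : ES φ t y z) {a : G} (h1 : a ∈ y.range) (h2 : a ∈ z.range) (h3 : Tw a) :
    a = 1 := h.my.one_of h1 (h.symm.le_Cs h2) h3

theorem ES.inf2 (h : ES φ t y z) {A₁ A₂ : Subgroup G} (h1 : A₁ ≤ y.range) (h2 : A₂ ≤ z.range)
    (h3 : IsPGroup 2 A₁) : A₁ ⊓ A₂ = ⊥ :=
  le_bot_iff.1 fun _ ha => h.one_of (h1 ha.1) (h2 ha.2) (.of_mem h3 ha.1)

theorem ES.cen_of (h : ES φ t y z) {a b : sIsom B} (e : y a * z b = 1) :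
    a ∈ center (sIsom B) ∧ b ∈ center (sIsom B) :=
  ⟨h.my.mem_Cs.1 (eq_inv_of_mul_eq_one_left e ▸ inv_mem (h.symm.le_Cs ⟨b, rfl⟩)),
    h.mz.mem_Cs.1 (eq_inv_of_mul_eq_one_right e ▸ inv_mem (h.le_Cs ⟨a, rfl⟩))⟩

theorem ES.eq2 (h : ES φ t y z) {a b a' b' : sIsom B} (ha : Tw a) (ha' : Tw a') (hb : Tw b)
    (hb' : Tw b') (e : y a * z b = y a' * z b') : a = a' ∧ b = b' := by
  have := h.cen_of (a := a'⁻¹ * a) (b := b'⁻¹ * b) (by
    rw [map_mul, map_mul, (h.com _ _).mul_mul_mul_comm, e, map_inv, map_inv, ← mul_inv_rev,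
      (h.com _ _).eq, inv_mul_cancel])
  exact ⟨eq_c h.my.toMo ha ha' this.1, eq_c h.my.toMo hb hb' this.2⟩

theorem ES.dec0 (h : ES φ t y z) {c : G} (hc : c ∈ y.range ⊔ z.range) : ∃ a b, c = y a * z b := by
  obtain ⟨_, ⟨a, rfl⟩, _, ⟨b, rfl⟩, rfl⟩ := (SG2.mem_sup_Cs h.le_Cs).1 hc
  exact ⟨a, b, rfl⟩

theorem ES.dec2 (h : ES φ t y z) {c : G} (hc : c ∈ y.range ⊔ z.range) (h2 : Tw c) :
    ∃ a b, Tw a ∧ Tw b ∧ c = y a * z b := by
  obtain ⟨a, b, rfl⟩ := h.dec0 hc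
  obtain ⟨k, hk⟩ := id h2
  rw [(h.com a b).mul_pow, ← map_pow, ← map_pow] at hk
  obtain ⟨n, e⟩ := tw_root h2
    ((h.my.toMo.odd_center (h.cen_of hk).1).mul (h.my.toMo.odd_center (h.cen_of hk).2))
  refine ⟨_, _, tw_pow ⟨k, ?_⟩ n, tw_pow ⟨k, ?_⟩ n,
    by rw [← e, (h.com a b).mul_pow, ← map_pow, ← map_pow, (h.com _ _).mul_pow, ← map_pow, ← map_pow]⟩
  · rw [← pow_mul, mul_comm, pow_mul, pow_mul, pow_orderOf_eq_one, one_pow]
  · rw [← pow_mul, mul_comm, pow_mul, mul_comm, pow_mul, pow_orderOf_eq_one, one_pow]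

theorem ES.comm2 (h : ES φ t y z) {a b : sIsom B} (ha : Tw a) (hb : Tw b) {c : G}
    {α β : MulAut (sIsom B)} (k : Mp y y c α) (k' : Mp z z c β) (e : Commute c (y a * z b)) :
    a ∈ Cf α ∧ b ∈ Cf β :=
  h.eq2 (tw_map α ha) ha (tw_map β hb) hb (by rw [← k, ← k', conj_mul', e.eq, mul_inv_cancel_right])

theorem ES.cj_t (h : ES φ t y z) : cj t y.range = z.range := Mp.cj_range (α := 1) h.act

theorem ES.ne (h : ES φ t y z) : y.range ≠ z.range := fun e => nab h.mz (e.ge.trans h.le_Cs)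

theorem ES.L_le' (h : ES φ t y z) : φ.range ≤ y.range ⊔ z.range := by
  rintro _ ⟨g, rfl⟩
  exact h.res g ▸ mul_mem (mem_sup_left ⟨g, rfl⟩) (mem_sup_right ⟨g, rfl⟩)

theorem ES.tM (h : ES φ t y z) : t ∈ Ns (y.range ⊔ z.range) := h.nL (mem_C1.2 rfl)

theorem ES.G0_le (h : ES φ t y z) : y.range ⊔ z.range ≤ Ns y.range ⊓ Ns z.range :=
  sup_le (le_inf le_normalizer (h.le_Cs.trans Cs_le_Ns))
    (le_inf (h.symm.le_Cs.trans Cs_le_Ns) le_normalizer)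

theorem ES.nrm (h : ES φ t y z) {w : sIsom B →* G} (hw : Mod w) (h1 : w.range ≤ y.range ⊔ z.range)
    (h2 : y.range ⊔ z.range ≤ Ns w.range) : w.range = y.range ∨ w.range = z.range := by
  have k : ∀ {y : sIsom B →* G}, Mod y → w.range ≤ Ns y.range → y.range ≤ Ns w.range →
      w.range = y.range ∨ y.range ≤ Cs w.range := fun {y} hy h1 h2 => by
    rcases hy.toMo.normal_or (w.range.comap y) ⟨fun n hn g => by
      simpa using mem_normalizer_conj (h2 ⟨g, rfl⟩) hn⟩ with e | e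
    · refine .inr (le_Cs_comm.1 (commutator_eq_bot_iff_le_centralizer.1
        (commutator_eq_bot_of_perfect hy.perf (commutator_eq_bot_iff_le_centralizer.2 fun g hg => ?_))))
      obtain ⟨a, rfl⟩ := commutator_le_right_of_le h1 hg
      exact hy.mem_Cs.2 (e (commutator_le_left_of_le h2 hg))
    · exact .inl (hy.eq_of_le hw (by rintro _ ⟨a, rfl⟩; exact e.ge (mem_top a))).symm
  rcases k h.my (h1.trans (h.G0_le.trans inf_le_left)) (le_sup_left.trans h2) with e | e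
  · exact .inl e
  rcases k h.mz (h1.trans (h.G0_le.trans inf_le_right)) (le_sup_right.trans h2) with e' | e'
  · exact .inr e'
  exact absurd (h1.trans (sup_le e e')) (nab hw)

theorem ES.perm (h : ES φ t y z) {c : G} (hc : c ∈ Ns (y.range ⊔ z.range)) :
    (c ∈ Ns y.range ∧ c ∈ Ns z.range) ∨ (cj c y.range = z.range ∧ cj c z.range = y.range) := by
  have k : ∀ {w : sIsom B →* G}, Mod w → w.range ≤ y.range ⊔ z.range →
      y.range ⊔ z.range ≤ Ns w.range → cj c w.range = y.range ∨ cj c w.range = z.range :=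
    fun {w} hw h1 h2 => by
    rw [← range_cx]
    refine h.nrm (hw.cx c) ?_ ?_ <;> rw [range_cx, ← mem_Ns_iff.1 hc]
    exacts [cj_mono c h1, cj_Ns c _ ▸ cj_mono c h2]
  have ne : cj c y.range ≠ cj c z.range := fun e => h.ne (cj_inj.1 e)
  rcases k h.my le_sup_left (h.G0_le.trans inf_le_left) with e | e <;>
    rcases k h.mz le_sup_right (h.G0_le.trans inf_le_right) with e' | e'
  exacts [absurd (e.trans e'.symm) ne, Or.inl ⟨mem_Ns_iff.2 e, mem_Ns_iff.2 e'⟩, Or.inr ⟨e, e'⟩,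
    absurd (e.trans e'.symm) ne]

theorem ES.idx (h : ES φ t y z) : ∀ a ∈ Ns (y.range ⊔ z.range), ∀ b ∈ Ns (y.range ⊔ z.range),
    a ∉ Ns y.range → b ∉ Ns y.range → a * b ∈ Ns y.range := fun _ ha _ hb h1 h2 =>
  mem_Ns_iff.2 (by rw [cj_mul, ((h.perm hb).resolve_left fun e => h2 e.1).1,
    ((h.perm ha).resolve_left fun e => h1 e.1).2])

theorem ES.conj_iff (h : ES φ t y z) {c g : G} (hc : c ∈ Ns (y.range ⊔ z.range))
    (hg : g ∈ Ns (y.range ⊔ z.range)) : c * g * c⁻¹ ∈ Ns y.range ↔ g ∈ Ns y.range := by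
  have k : ∀ c ∈ Ns (y.range ⊔ z.range), ∀ g ∈ Ns (y.range ⊔ z.range), g ∈ Ns y.range →
      c * g * c⁻¹ ∈ Ns y.range := fun c hc g hg e => by
    by_cases h1 : c ∈ Ns y.range
    · exact mul_mem (mul_mem h1 e) (inv_mem h1)
    · exact h.idx _ (mul_mem hc hg) _ (inv_mem hc) (mt (mul_mem_cancel_right e).1 h1)
        (mt inv_mem_iff.1 h1)
  refine ⟨fun e => ?_, k c hc g hg⟩
  simpa [mul_assoc] using k _ (inv_mem hc) _ (mul_mem (mul_mem hc hg) (inv_mem hc)) e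

theorem ES.syl (h : ES φ t y z) {U₁ U₂ : Subgroup (sIsom B)} (h1 : IsSylowIn 2 U₁ ⊤)
    (h2 : IsSylowIn 2 U₂ ⊤) : IsSylowIn 2 (U₁.map y ⊔ U₂.map z) (y.range ⊔ z.range) := by
  have : IsSylowIn 2 (U₁.prod U₂) ⊤ := ⟨le_top, by
    rintro ⟨⟨a, b⟩, ha, hb⟩
    obtain ⟨i, hi⟩ := Tw.of_mem h1.isPGroup ha
    obtain ⟨j, hj⟩ := Tw.of_mem h2.isPGroup hb
    refine ⟨i + j, Subtype.ext (Prod.ext ?_ ?_)⟩
    · change a ^ _ = 1
      rw [pow_add, pow_mul, hi, one_pow]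
    · change b ^ _ = 1
      rw [pow_add, mul_comm, pow_mul, hj, one_pow], by
    rw [relIndex_top_right, index_prod, ← relIndex_top_right, ← relIndex_top_right]
    exact fun e => (Nat.prime_two.dvd_mul.1 e).elim h1.not_dvd h2.not_dvd⟩
  have k : ∀ A₁ A₂ : Subgroup (sIsom B),
      (A₁.prod A₂).map (y.noncommCoprod z h.com) = A₁.map y ⊔ A₂.map z := fun A₁ A₂ => by
    ext g
    rw [SG2.mem_sup_Cs (h.map_Cs A₁ A₂)]
    exact ⟨fun ⟨p, hp, e⟩ => ⟨_, ⟨p.1, hp.1, rfl⟩, _, ⟨p.2, hp.2, rfl⟩, e⟩,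
      fun ⟨_, ⟨a, ha, rfl⟩, _, ⟨b, hb, rfl⟩, e⟩ => ⟨(a, b), ⟨ha, hb⟩, e⟩⟩
  have := this.map (y.noncommCoprod z h.com)
  rwa [← top_prod_top, k, k, ← MonoidHom.range_eq_map, ← MonoidHom.range_eq_map] at this

theorem ES.odd (h : ES φ t y z) : Odd (Nat.card (Cs (y.range ⊔ z.range))) :=
  h.toH1.odd_Cs h.L_le' h.cO h.tM fun e =>
    h.ne (h.cj_t ▸ (cj_eq_of_mem_centralizer (Cs_anti le_sup_left e)).symm)

theorem ESa.pg_el {H : Type*} [Group H] {A : Subgroup H} (h : ∀ a ∈ A, a * a = 1) : IsPGroup 2 A :=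
  fun a => ⟨1, Subtype.ext (by simpa [pow_two] using h a a.2)⟩

theorem ES.mem_sup (h : ES φ t y z) {A₁ A₂ : Subgroup (sIsom B)} {c : G} :
    c ∈ A₁.map y ⊔ A₂.map z ↔ ∃ a ∈ A₁, ∃ b ∈ A₂, c = y a * z b := by
  rw [SG2.mem_sup_Cs (h.map_Cs A₁ A₂)]
  exact ⟨fun ⟨_, ⟨a, ha, e⟩, _, ⟨b, hb, e'⟩, k⟩ => ⟨a, ha, b, hb, by rw [e, e', k]⟩,
    fun ⟨a, ha, b, hb, e⟩ => ⟨_, ⟨a, ha, rfl⟩, _, ⟨b, hb, rfl⟩, e.symm⟩⟩

theorem ES.el_sup (h : ES φ t y z) {A₁ A₂ : Subgroup (sIsom B)} (h1 : ∀ a ∈ A₁, a * a = 1)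
    (h2 : ∀ a ∈ A₂, a * a = 1) : ∀ c ∈ A₁.map y ⊔ A₂.map z, c * c = 1 := fun c hc => by
  obtain ⟨a, ha, b, hb, rfl⟩ := h.mem_sup.1 hc
  rw [← (h.com a b).mul_mul_mul_comm, ← map_mul, ← map_mul, h1 a ha, h2 b hb, map_one, map_one, mul_one]

theorem ES.card_sup (h : ES φ t y z) {A₁ A₂ : Subgroup (sIsom B)} (h1 : IsPGroup 2 A₁)
    (h2 : IsPGroup 2 A₂) : Nat.card ↥(A₁.map y ⊔ A₂.map z) = Nat.card A₁ * Nat.card A₂ := by
  rw [SG2.card_sup_Cs (h.map_Cs _ _) (h.inf2 (map_le_range _ _) (map_le_range _ _) (h1.map y)),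
    h.my.card_map h1, h.mz.card_map h2]

theorem ES.pg_sup (h : ES φ t y z) {A₁ A₂ : Subgroup (sIsom B)} (h1 : IsPGroup 2 A₁)
    (h2 : IsPGroup 2 A₂) : IsPGroup 2 ↥(A₁.map y ⊔ A₂.map z) :=
  Comp.isPGroup_sup (h1.map y) (h2.map z) ((h.symm.map_Cs _ _).trans Cs_le_Ns)

theorem ES.fix_sup (h : ES φ t y z) {A₁ A₂ : Subgroup (sIsom B)} (h1 : IsPGroup 2 A₁)
    (h2 : IsPGroup 2 A₂) {c : G} {α β : MulAut (sIsom B)} (k : Mp y y c α) (k' : Mp z z c β)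
    (e1 : A₁ ≤ Cf α) (e2 : A₂ ≤ Cf β) : A₁.map y ⊔ A₂.map z ≤ C1 c :=
  sup_le (map_le_iff_le_comap.2 fun _ ha =>
    mem_C1.2 ((k.fix2 h.my (.of_mem h1 ha)).2 (e1 ha)).symm.eq) (map_le_iff_le_comap.2 fun _ ha =>
    mem_C1.2 ((k'.fix2 h.mz (.of_mem h2 ha)).2 (e2 ha)).symm.eq)

theorem Mp.sq_one (h : Mod φ) {c : G} {α : MulAut (sIsom B)} (k : Mp φ φ c α) (e : c * c = 1) :
    α * α = 1 := (k.mul k).uniq h (e ▸ Mp.one)

theorem ES.mem_CG (_h : ES φ t y z) {c : G} :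
    c ∈ Cs (y.range ⊔ z.range) ↔ c ∈ Cs y.range ∧ c ∈ Cs z.range :=
  ⟨fun e => ⟨Cs_anti le_sup_left e, Cs_anti le_sup_right e⟩, fun e => le_Cs_comm.1
    (sup_le (le_Cs_comm.1 (zpowers_le.2 e.1)) (le_Cs_comm.1 (zpowers_le.2 e.2))) (mem_zpowers _)⟩

theorem ES.one_of_Mp (h : ES φ t y z) {c : G} (k : Mp y y c 1) (k' : Mp z z c 1) (hc : Tw c) : c = 1 :=
  tw_odd hc (h.odd.of_dvd_nat (orderOf_dvd_natCard _ (h.mem_CG.2 ⟨k.mem_Cs, k'.mem_Cs⟩)))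

theorem ES.lin2 (h : ES φ t y z) {c : G} {α β : MulAut (sIsom B)} (k : Mp y y c α) (k' : Mp z z c β)
    (h1 : fa α = 1) (h2 : fa β = 1) (hc : Tw c) : c ∈ y.range ⊔ z.range := by
  obtain ⟨a, ha, ea⟩ := k.lin2 h.my h1 (k.tw h.my hc)
  obtain ⟨b, hb, eb⟩ := k'.lin2 h.mz h2 (k'.tw h.mz hc)
  have m : y a * z b ∈ y.range ⊔ z.range := mul_mem (mem_sup_left ⟨a, rfl⟩) (mem_sup_right ⟨b, rfl⟩)
  have e : (y a * z b)⁻¹ * c ∈ Cs (y.range ⊔ z.range) := h.mem_CG.2 ⟨by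
    rw [mul_inv_rev, mul_assoc]
    exact mul_mem (inv_mem (h.symm.le_Cs ⟨b, rfl⟩)) ea, by
    rw [(h.com a b).eq, mul_inv_rev, mul_assoc]
    exact mul_mem (inv_mem (h.le_Cs ⟨a, rfl⟩)) eb⟩
  have c1 : Commute (y a * z b) c := by
    have := mem_Cs.1 e _ m
    rw [mul_inv_cancel_left, mul_assoc, eq_inv_mul_iff_mul_eq] at this
    exact this
  rwa [← inv_mul_eq_one.1 (tw_odd (tw_mul (tw_inv (tw_mul (tw_map y ha) (tw_map z hb) (h.com a b))) hc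
    c1.inv_left) (h.odd.of_dvd_nat (orderOf_dvd_natCard _ e)))]

theorem ES.exists_diag (h : ES φ t y z) (α : MulAut (sIsom B)) :
    ∃ w : sIsom B →* G, Mod w ∧ ∀ g, w g = y g * z (α g) :=
  ⟨(y.noncommCoprod z h.com).comp ((MonoidHom.id _).prod α.toMonoidHom),
    ⟨h.my.toMo, fun _ e => (h.cen_of e).1⟩, fun _ => rfl⟩

theorem FS0.symm (h : FS0 φ t y z X) : FS0 φ t z y X where
  toES := h.toES.symm
  top := h.top
  le := sup_comm y.range _ ▸ h.le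
  odd := sup_comm y.range _ ▸ h.odd
  uq := sup_comm y.range _ ▸ h.uq
  nt := h.nt

theorem FS0.re (h : FS0 φ t y z X) (α : MulAut (sIsom B)) :
    FS0 (SU5.re φ α) t (SU5.re y α) (SU5.re z α) X where
  toES := h.toES.re α
  top := h.top
  le := by rw [range_re, range_re]; exact h.le
  odd := by rw [range_re, range_re]; exact h.odd
  uq := by rw [range_re, range_re]; exact h.uq
  nt := h.nt

theorem FS.symm (h : FS φ t y z X U) : FS φ t z y X U where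
  toFS0 := h.toFS0.symm
  syl := sup_comm (U.map y) _ ▸ h.syl

end Cfsg.Lib.SU5
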