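import Cfsg.Agent.SU5.OUT
import Cfsg.Agent.Trans.PLocal

/-!
# Standard subgroups of type `U_m(2ⁿ)`: standard field automorphisms
-/

set_option autoImplicit false
set_option linter.unusedSectionVars false

namespace Cfsg.Lib.SU5

open Subgroup Module Cfsg.Lib.Trans Cfsg.Lib.Gold Cfsg.Lib.Class.Form Cfsg.Lib.Class.FAut
open Cfsg.Lib.Comp (Tw)
open scoped commutatorElement

variable {E M : Type*} [Field E] [Finite E] [AddCommGroup M] [Module E M] [FiniteDimensional E M]
  {σ : E →+* E} {B : M →ₛₗ[σ] M →ₗ[E] E}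

theorem FR.gam (h : Mo B) {ι : Type*} [Fintype ι] (b : Basis ι E M)
    (hb : ∀ i j, B (b i) (b j) = 0 ∨ B (b i) (b j) = 1) :
    ∃ γ : (E ≃+* E) →* MulAut (sIsom B), ∀ τ, ∃ Γ, Semi (γ τ) Γ τ ∧ ∀ i, Γ (b i) = b i := by
  classical
  let Γ : (E ≃+* E) → M ≃+ M := fun τ => b.equivFun.toAddEquiv.trans
    ((AddEquiv.piCongrRight fun _ => τ.toAddEquiv).trans b.equivFun.symm.toAddEquiv)
  have h1 : ∀ τ x i, b.repr (Γ τ x) i = τ (b.repr x i) := fun τ x i =>
    congrFun (b.equivFun.apply_symm_apply fun i => τ (b.repr x i)) i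
  have h2 : ∀ x y, B x y = ∑ i, ∑ j, σ (b.repr x j) * b.repr y i * B (b j) (b i) := fun x y => by
    conv_lhs => rw [← b.sum_repr x, ← b.sum_repr y]
    simp only [map_sum, map_smulₛₗ, LinearMap.sum_apply, LinearMap.smul_apply, smul_eq_mul,
      RingHom.id_apply, Finset.mul_sum]
    exact Finset.sum_congr rfl fun i _ => Finset.sum_congr rfl fun j _ => by ring
  choose γ hγ using fun τ => h.of_semi (Γ τ) τ
    (fun a x => b.ext_elem fun i => by simp [h1]) fun x y => by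
      rw [h2, h2 x]
      simp only [map_sum, map_mul, h1, h.aut_σ]
      refine Finset.sum_congr rfl fun i _ => Finset.sum_congr rfl fun j _ => ?_
      rcases hb j i with c | c <;> simp [c]
  refine ⟨MonoidHom.mk' γ fun τ ρ => (hγ _).ext (ρ := τ * ρ) ?_, fun τ => ⟨_, hγ τ, fun i =>
    b.ext_elem fun j => ?_⟩⟩
  · rw [show Γ (τ * ρ) = (Γ ρ).trans (Γ τ) from AddEquiv.ext fun x => b.ext_elem fun i => by
      rw [h1, AddEquiv.trans_apply, h1, h1]; rfl]
    exact (hγ τ).mul (hγ ρ)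
  · rw [h1, b.repr_self, Finsupp.single_apply]
    split_ifs <;> simp

theorem Mo.exists_gam (h : Mo B) : ∃ (e f : Fin (kk E M) → M) (γ : (E ≃+* E) →* MulAut (sIsom B)),
    (∀ i j, B (e i) (e j) = 0) ∧ (∀ i j, B (f i) (f j) = 0) ∧
    (∀ i j, B (e i) (f j) = if i = j then 1 else 0) ∧
    ∀ τ, ∃ Γ, Semi (γ τ) Γ τ ∧ ∀ i, Γ (e i) = e i ∧ Γ (f i) = f i := by
  obtain ⟨W, hW, -⟩ := h.le_Mx (W := ⊥) fun u hu v _ => by simp [(Submodule.mem_bot E).1 hu]
  obtain ⟨e, li, rfl⟩ := exists_basis hW.dim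
  have he : ∀ i j, B (e i) (e j) = 0 := fun i j =>
    hW.ti _ (Submodule.subset_span ⟨i, rfl⟩) _ (Submodule.subset_span ⟨j, rfl⟩)
  obtain ⟨f, hf, hef⟩ := h.dual' li he
  have hfe := OUT.fe h hef
  have hP : NondegOn B (Submodule.span E (Set.range (Sum.elim e f))) := fun u hu hu' => by
    obtain ⟨a, rfl⟩ := (Submodule.mem_span_range_iff_exists_fun E).1 hu
    refine Finset.sum_eq_zero fun i _ => ?_
    have := h.swap (hu' _ (Submodule.subset_span ⟨i.swap, rfl⟩))
    rcases i with i | i <;> simp [Fintype.sum_sum_type, he, hf, hef, hfe] at this <;> simp [this]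
  obtain ⟨d, hd⟩ := (h.toHerm.restrict (h.nondegOn_orth hP)).exists_orthonormal_basis rfl
  have a1 : ∀ i j, B (e i) (d j) = 0 := fun i j => (d j).2 _ (Submodule.subset_span ⟨.inl i, rfl⟩)
  have a2 : ∀ i j, B (f i) (d j) = 0 := fun i j => (d j).2 _ (Submodule.subset_span ⟨.inr i, rfl⟩)
  have a3 : ∀ i j, B (d j) (e i) = 0 := fun i j => h.swap (a1 i j)
  have a4 : ∀ i j, B (d j) (f i) = 0 := fun i j => h.swap (a2 i j)
  have h2 : ∀ i j, B (d i : M) (d j) = if i = j then 1 else 0 := hd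
  have h3 : LinearIndependent E (Sum.elim (Sum.elim e f) fun j => (d j : M)) :=
    Fintype.linearIndependent_iff.2 fun c hc => by
      rintro ((i | i) | i)
      · simpa [Fintype.sum_sum_type, hf, hfe, a2] using congrArg (B (f i)) hc
      · simpa [Fintype.sum_sum_type, he, hef, a1] using congrArg (B (e i)) hc
      · simpa [Fintype.sum_sum_type, h2, a3, a4] using congrArg (B (d i)) hc
  have h4 := h.finrank_orth (Submodule.span E (Set.range (Sum.elim e f)))
  rw [finrank_span_eq_card (b := Sum.elim e f) (h3.comp Sum.inl Sum.inl_injective)] at h4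
  obtain ⟨γ, hγ⟩ := FR.gam h (basisOfLinearIndependentOfCardEqFinrank' _ h3 (by
    rw [Fintype.card_sum, Fintype.card_fin, add_comm, h4])) (by
      simp only [coe_basisOfLinearIndependentOfCardEqFinrank']
      rintro ((i | i) | i) ((j | j) | j) <;>
        simp [he, hf, hef, hfe, h2, a1, a2, a3, a4, em'])
  refine ⟨e, f, γ, he, hf, hef, fun τ => ?_⟩
  obtain ⟨Γ, k, c⟩ := hγ τ
  simp only [coe_basisOfLinearIndependentOfCardEqFinrank'] at c
  exact ⟨Γ, k, fun i => ⟨c (.inl (.inl i)), c (.inl (.inr i))⟩⟩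

end Cfsg.Lib.SU5
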