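import Cfsg.Agent.SU5.FRA

/-!
# Standard subgroups of type `U_m(2ⁿ)`: invariant Sylow subgroups
-/

set_option autoImplicit false
set_option linter.unusedSectionVars false

namespace Cfsg.Lib.SU5

open Subgroup Module Cfsg.Lib.Trans Cfsg.Lib.Gold Cfsg.Lib.Class.Form Cfsg.Lib.Class.FAut
open Cfsg.Lib.Comp (Tw)
open scoped commutatorElement

variable {E M : Type*} [Field E] [Finite E] [AddCommGroup M] [Module E M] [FiniteDimensional E M]
  {σ : E →+* E} {B : M →ₛₗ[σ] M →ₗ[E] E}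

namespace FR

theorem odd_St (h : Mo B) {W : Submodule E M} (hW : Mx B W) : ¬ 2 ∣ (St B W).relIndex ⊤ := by
  have h1 := ((h.two_QW hW.ti).to_le (h.VW_le_QW hW.ti)).card_modEq_card_fixedPoints
    (sIsom B ⧸ St B W)
  have h2 : MulAction.fixedPoints (VW B W) (sIsom B ⧸ St B W) = {((1 : sIsom B) : _ ⧸ St B W)} := by
    refine Set.eq_singleton_iff_unique_mem.2 ⟨fun v => QuotientGroup.eq.2 ?_, fun q hq => ?_⟩
    · simpa using Fx_le_St (h.VW_le_QW hW.ti v.2).1
    obtain ⟨g, rfl⟩ := QuotientGroup.mk_surjective q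
    refine QuotientGroup.eq.2 (mem_St_of fun x hx => by_contra fun hn => hn ?_)
    rw [mul_one] at hn ⊢
    have hxx := hW.ti x hx x hx
    have hy := (lin_isom g⁻¹ x x).trans hxx
    have e : g⁻¹ * (tT B x 1 * g) ∈ St B W :=
      QuotientGroup.eq.1 (hq ⟨_, h.tT_mem hxx hx (map_one σ)⟩).symm
    rw [← mul_assoc, ← inv_inv g, inv_inv g⁻¹, h.tT_conj _ hxx (map_one σ)] at e
    refine hW.mem h hy fun w hw => h.swap (by_contra fun c => hn ?_)
    have := sub_mem ((e w).1 hw) hw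
    rwa [h.lin_tT hy (map_one σ), add_sub_cancel_left, one_mul, W.smul_mem_iff c] at this
  rw [h2, Nat.card_coe_set_eq, Set.ncard_singleton] at h1
  rw [relIndex_top_right, index_eq_card]
  unfold Nat.ModEq at h1
  omega

theorem nrm_conj {α : MulAut (sIsom B)} {X : Subgroup (sIsom B)} (e : mp α X = X) :
    α ∈ Ns (X.map MulAut.conj) := by
  rw [mem_Ns_iff]
  conv_rhs => rw [← e]
  rw [cj, map_map, map_map]
  refine congrArg X.map (MonoidHom.ext fun g => MulEquiv.ext fun x => ?_)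
  simp

theorem mp_eq_of_le {α : MulAut (sIsom B)} {X : Subgroup (sIsom B)} (e : ∀ g ∈ X, α g ∈ X) :
    mp α X = X :=
  eq_of_le_of_card_ge (map_le_iff_le_comap.2 e) (card_map_of_injective α.injective).ge

theorem inv_syl (h : Mo B) {T : Subgroup (MulAut (sIsom B))} (hT : IsPGroup 2 T)
    {H X : Subgroup (sIsom B)} (hX : IsPGroup 2 X) (hle : X ≤ H) (h1 : ∀ α ∈ T, mp α H = H)
    (h2 : ∀ α ∈ T, mp α X = X) : ∃ U, IsSylowIn 2 U H ∧ X ≤ U ∧ ∀ α ∈ T, mp α U = U := by
  obtain ⟨S, hS, n1, n2, -⟩ := exists_isSylowIn_normalized (M := H.map MulAut.conj)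
    ((hX.map MulAut.conj).to_sup_of_normal_left' hT fun α hα => nrm_conj (h2 α hα))
    (sup_le ((map_mono hle).trans le_normalizer) fun α hα => nrm_conj (h1 α hα))
  obtain ⟨U, hU, hXU⟩ := exists_isSylowIn_ge (H := H ⊓ S.comap MulAut.conj) hX (le_inf hle
    (map_le_iff_le_comap.1 ((le_inf le_sup_left (map_mono hle)).trans n2)))
  have h3 : (H ⊓ S.comap MulAut.conj).map MulAut.conj = S :=
    le_antisymm (map_le_iff_le_comap.2 inf_le_right) fun s hs => by
      obtain ⟨l, hl, rfl⟩ := hS.le hs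
      exact ⟨l, ⟨hl, hs⟩, rfl⟩
  have h4 : S = U.map MulAut.conj :=
    (hU.map MulAut.conj).eq_of_le hS.isPGroup (h3 ▸ map_mono hU.le) h3.ge
  have h5 : ∀ l, Tw l → MulAut.conj l ∈ S → l ∈ U := fun l hl hs => by
    obtain ⟨u, hu, e⟩ := h4.le hs
    exact h.conj_inj (Tw.of_mem hU.isPGroup hu) hl e ▸ hu
  refine ⟨U, isSylowIn_of_maximal (hU.le.trans inf_le_left) hU.isPGroup fun Q hQ a b l hl =>
    h5 l (Tw.of_mem hQ hl) ((hS.eq_of_le (hQ.map _) (h4 ▸ map_mono a) (map_mono b)).le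
      ⟨l, hl, rfl⟩), hXU, fun α hα => mp_eq_of_le fun l hl => h5 _ ?_ ?_⟩
  · obtain ⟨j, hj⟩ := Tw.of_mem hU.isPGroup hl
    exact ⟨j, by rw [← map_pow, hj, map_one]⟩
  · rw [show MulAut.conj (α l) = α * MulAut.conj l * α⁻¹ from MulEquiv.ext fun x => by simp]
    exact (mem_normalizer_iff.1 (n1 (mem_sup_right hα)) _).1 (hU.le hl).2

theorem two_cl (h : Mo B) {n : ℕ} {e f : Fin n → M} (he : ∀ i j, B (e i) (e j) = 0)
    (hf : ∀ i j, B (f i) (f j) = 0) (hef : ∀ i j, B (e i) (f j) = if i = j then 1 else 0) :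
    IsPGroup 2 (closure {y | ∃ (i j : Fin n) (s : E), i < j ∧ σ s = s ∧ y = tE B (s • e i) (f j)}) := by
  have hW := OUT.ti h he
  let C : ℕ → Submodule E M := fun m => Submodule.span E (e '' {i | i.1 < m})
  have hC : ∀ m, C m ≤ C (m + 1) := fun m =>
    Submodule.span_mono (Set.image_mono fun i (hi : i.1 < m) => Nat.lt_succ_of_lt hi)
  let P : Submonoid (sIsom B) :=
    { carrier := {g | (∀ m, ∀ w ∈ C (m + 1), lin g w - w ∈ C m) ∧
        ∀ x ∈ orth B (Submodule.span E (Set.range e)), lin g x - x ∈ Submodule.span E (Set.range e)}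
      one_mem' := ⟨fun m w _ => by simp, fun x _ => by simp⟩
      mul_mem' := fun {a b} ha hb => by
        have e : ∀ x, lin (a * b) x - x =
            (lin a (lin b x - x) - (lin b x - x)) + (lin b x - x) + (lin a x - x) := fun x => by
          rw [lin_mul, map_sub]; abel
        exact ⟨fun m w hw => e w ▸ add_mem (add_mem (ha.1 m _ (hC m (hb.1 m w hw))) (hb.1 m w hw))
          (ha.1 m w hw), fun x hx => e x ▸ add_mem (add_mem (ha.2 _ (K2.le_orth hW (hb.2 x hx)))
          (hb.2 x hx)) (ha.2 x hx)⟩ }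
  have h1 : ∀ g ∈ P, ∀ m, ∀ w ∈ C m, lin (g ^ 2 ^ m) w = w := fun g hg m => by
    induction m with
    | zero => intro w hw; simp_all [C]
    | succ m ih =>
      intro w hw
      have := ih _ ((pow_mem hg (2 ^ m)).1 m w hw)
      rw [map_sub] at this
      rw [pow_succ, pow_mul, pow_two, lin_mul]
      linear_combination (norm := module) this + h.vadd_self (lin (g ^ 2 ^ m) w - w)
  have h2 : ∀ (i j : Fin n) (s : E), i < j → I2 B (s • e i) (f j) := fun i j s hij =>
    ⟨by simp [he], hf j j, by simp [hef, hij.ne]⟩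
  have h3 : ∀ y ∈ {y | ∃ (i j : Fin n) (s : E), i < j ∧ σ s = s ∧ y = tE B (s • e i) (f j)},
      y ∈ P := by
    rintro _ ⟨i, j, s, hij, -, rfl⟩
    have h4 : ∀ x ∈ orth B (Submodule.span E (Set.range e)),
        lin (tE B (s • e i) (f j)) x - x = (B (f j) x * s) • e i := fun x hx => by
      rw [h.lin_tE (h2 i j s hij)]
      simp [hx _ (Submodule.subset_span ⟨i, rfl⟩), smul_smul]
    refine ⟨fun m w hw => ?_, fun x hx => h4 x hx ▸ Submodule.smul_mem _ _
      (Submodule.subset_span ⟨i, rfl⟩)⟩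
    rw [h4 w (K2.le_orth hW (Submodule.span_mono (Set.image_subset_range _ _) hw))]
    by_cases c : i.1 < m
    · exact Submodule.smul_mem _ _ (Submodule.subset_span ⟨i, c, rfl⟩)
    have : f j ∈ orth B (C (m + 1)) := mem_orth_span.2 (by
      rintro _ ⟨l, hl, rfl⟩
      have : l.1 < m + 1 := hl
      rw [hef, if_neg (by rintro rfl; have : i.1 < l.1 := hij; omega)])
    rw [h.swap (this w hw), zero_mul, zero_smul]
    exact zero_mem _
  rintro ⟨g, hg⟩
  have h4 : g ∈ P := by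
    induction hg using closure_induction'' with
    | mem x hx => exact h3 x hx
    | inv_mem x hx =>
      obtain ⟨i, j, s, hij, hs, rfl⟩ := hx
      rw [inv_eq_of_mul_eq_one_right (h.tE_sq (h2 i j s hij))]
      exact h3 _ ⟨i, j, s, hij, hs, rfl⟩
    | one => exact one_mem _
    | mul x y _ _ hx hy => exact mul_mem hx hy
  obtain ⟨j, hj⟩ := Tw.of_mem (h.two_QW hW) (x := g ^ 2 ^ n) ⟨fun w hw => h1 g h4 n w
    (Submodule.span_mono (by rintro _ ⟨i, rfl⟩; exact ⟨i, i.2, rfl⟩) hw), (pow_mem h4 _).2⟩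
  exact ⟨n + j, Subtype.ext (by rw [coe_pow, pow_add, pow_mul]; exact hj)⟩

end FR

end Cfsg.Lib.SU5
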