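import Cfsg.Agent.SU5.RK
import Cfsg.Agent.SU5.DS

/-!
# Standard subgroups of type `U_m(2ⁿ)`: 2-ranks of centralisers of outer automorphisms
-/

set_option autoImplicit false
set_option linter.unusedSectionVars false
set_option linter.unusedVariables false

namespace Cfsg.Lib.SU5

open Subgroup Module Cfsg.Lib.Trans Cfsg.Lib.Gold Cfsg.Lib.Class.Form Cfsg.Lib.Class.FAut
open Cfsg.Lib.Comp (Tw)

variable {E M : Type*} [Field E] [Finite E] [AddCommGroup M] [Module E M] [FiniteDimensional E M]
  {σ : E →+* E} {B : M →ₛₗ[σ] M →ₗ[E] E}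

namespace J2

theorem gen (h : Mo B) {α : MulAut (sIsom B)} (h1 : α ^ orderOf (fa α) = 1)
    (h2 : sg σ ∈ zpowers (fa α)) {A : Subgroup (sIsom B)} (hA : ∀ a ∈ A, a * a = 1)
    (hc : A ≤ Cf α) :
    Nat.card A ≤ Nat.card {a : E // fa α a = a} ^ (kk E M * (kk E M + 1) / 2) := by
  obtain ⟨Γ, k, hΓ⟩ := h.semi_pow h1 h2
  obtain ⟨b, hb⟩ := descent (fa α) Γ k.smul hΓ
  generalize fa α = τ at k h2 ⊢
  let K : Subfield E := RingHom.eqLocusField (τ : E →+* E) (RingHom.id E)
  have mK : ∀ a : E, a ∈ K ↔ τ a = a := fun a => Iff.rfl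
  have fK : ∀ a : K, σ a = a := fun a => by
    rw [← h.sg_apply]
    exact MulAction.mem_stabilizer_iff.1
      ((zpowers_le.2 (show τ ∈ MulAction.stabilizer (E ≃+* E) (a : E) from a.2)) h2)
  let N : Submodule K M :=
    { carrier := {x | Γ x = x}
      zero_mem' := map_zero Γ
      add_mem' := fun {x y} hx hy => by rw [Set.mem_ofPred_eq, map_add, hx, hy]
      smul_mem' := fun c x hx => by
        change Γ ((c : E) • x) = (c : E) • x
        rw [k.smul, hx, (mK c).1 c.2] }
  have mN : ∀ x : N, Γ x = x := fun x => x.2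
  have hN : N ≤ Submodule.span K (Set.range b) := fun x hx => by
    have e : ∀ i, τ (b.repr x i) = b.repr x i := fun i => by
      have e1 : Γ x = ∑ j, τ (b.repr x j) • b j := by
        conv_lhs => rw [← b.sum_repr x]
        rw [map_sum]
        exact Finset.sum_congr rfl fun j _ => by rw [k.smul, hb]
      rw [show Γ x = x from hx] at e1
      conv_rhs => rw [e1]
      simp [Finsupp.single_apply]
    rw [← b.sum_repr x]
    exact Submodule.sum_mem _ fun i _ => Submodule.smul_mem _ (⟨b.repr x i, (mK _).2 (e i)⟩ : K)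
      (Submodule.subset_span ⟨i, rfl⟩)
  have : Finite M := Module.finite_of_finite E
  have hd : finrank K N ≤ finrank E M := (Submodule.finrank_mono hN).trans
    ((finrank_range_le_card (R := K) b).trans (Fintype.card_fin _).le)
  let D : N →ₗ[K] N →ₗ[K] K := LinearMap.mk₂ K
    (fun x y => ⟨B x y, (mK _).2 (by rw [← k.form, mN, mN])⟩)
    (fun x y z => Subtype.ext (by simp))
    (fun c x y => Subtype.ext (by
      change B ((c : E) • (x : M)) y = c * B x y
      rw [LinearMap.map_smulₛₗ₂, fK, smul_eq_mul]))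
    (fun x y z => Subtype.ext (by simp))
    (fun c x y => Subtype.ext (by
      change B x ((c : E) • (y : M)) = c * B x y
      rw [map_smul, smul_eq_mul]))
  have hD : ∀ x y : N, (D x y : E) = B x y := fun _ _ => rfl
  have st : ∀ g : Cf α, ∀ x : N, lin (g : sIsom B) x ∈ N := fun g x => by
    have := k.conj g x
    rw [mem_Cf.1 g.2, mN] at this
    exact this.symm
  let ρ : Cf α →* (N ≃ₗ[K] N) :=
    { toFun g :=
        { toFun x := ⟨_, st g x⟩
          invFun x := ⟨_, st g⁻¹ x⟩
          map_add' x y := Subtype.ext (map_add (lin (g : sIsom B)) _ _)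
          map_smul' c x := Subtype.ext (map_smul (lin (g : sIsom B)) (c : E) (x : M))
          left_inv x := Subtype.ext (lin_inv_lin _ _)
          right_inv x := Subtype.ext (lin_lin_inv _ _) }
      map_one' := rfl
      map_mul' _ _ := rfl }
  have hρ : ∀ g x, (ρ g x : M) = lin (g : sIsom B) x := fun _ _ => rfl
  have inj : Function.Injective ρ := (injective_iff_map_eq_one ρ).2 fun g e =>
    Subtype.ext (lin_ext fun x => by
      have : (lin (g : sIsom B) : M →ₗ[E] M) = LinearMap.id := b.ext fun i => by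
        have := hρ g ⟨b i, hb i⟩
        rw [e] at this
        exact this.symm
      exact LinearMap.congr_fun this x)
  have key := rank_sym (K := K) (N := N) (Subtype.ext h.two) D
    (fun x y => Subtype.ext (by rw [hD, hD, h.sym, one_mul, ← hD, fK]))
    (fun x hx => Subtype.ext (h.sep _ fun y => by
      have : B x = 0 := b.ext fun i => congrArg Subtype.val (hx ⟨b i, hb i⟩)
      rw [this, LinearMap.zero_apply]))
    ((A.subgroupOf (Cf α)).map ρ) (by
      rintro _ ⟨a, ha, rfl⟩
      rw [← map_mul, show a * a = 1 from Subtype.ext (hA a ha), map_one]) (by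
      rintro _ ⟨a, ha, rfl⟩ x y
      exact Subtype.ext (lin_isom _ _ _))
  rw [card_map_of_injective inj, Nat.card_congr (subgroupOfEquivOfLe hc).toEquiv] at key
  refine key.trans (Nat.pow_le_pow_right Nat.card_pos (Nat.div_le_div_right ?_))
  have : finrank K N / 2 ≤ kk E M := Nat.div_le_div_right hd
  exact Nat.mul_le_mul this (Nat.succ_le_succ this)

end J2

theorem Mo.j2 (h : Mo B) {α : MulAut (sIsom B)} (h1 : α * α = 1) (h2 : fa α = sg σ)
    {A : Subgroup (sIsom B)} (hA : ∀ a ∈ A, a * a = 1) (hc : A ≤ Cf α) :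
    Nat.card A ≤ qn σ ^ (kk E M * (kk E M + 1) / 2) := by
  have ho : orderOf (fa α) = 2 := by
    rw [h2]
    exact orderOf_eq_prime (by rw [pow_two, h.sg_sq]) h.sg_ne
  have := J2.gen h (by rw [ho, pow_two, h1]) (h2 ▸ mem_zpowers _) hA hc
  simp only [h2, h.sg_apply] at this
  exact this

theorem Mo.j4 (h : Mo B) {α : MulAut (sIsom B)} (h1 : α ^ 4 = 1) (h2 : fa α * fa α = sg σ)
    {A : Subgroup (sIsom B)} (hA : ∀ a ∈ A, a * a = 1) (hc : A ≤ Cf α) :
    Nat.card A ^ 2 ≤ qn σ ^ (kk E M * (kk E M + 1) / 2) := by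
  have ho : orderOf (fa α) = 2 ^ (1 + 1) := orderOf_eq_prime_pow
    (by rw [pow_one, pow_two, h2]; exact h.sg_ne)
    (by rw [← h.fa_pow, show 2 ^ (1 + 1) = 4 from rfl, h1, h.fa_one])
  have h3 := J2.gen h (by rw [ho]; exact h1) (h2 ▸ mul_mem (mem_zpowers _) (mem_zpowers _)) hA hc
  have h4 := card_fixed (fa α)
  rw [ho, h.card_E, show 2 ^ (1 + 1) = 2 * 2 from rfl, pow_mul] at h4
  rw [← Nat.pow_left_injective two_ne_zero h4, ← pow_mul, mul_comm 2, pow_mul]
  exact Nat.pow_le_pow_left h3 2

end Cfsg.Lib.SU5
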