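import Cfsg.Agent.SU5.K1

/-!
# Standard subgroups of type `U_m(2ⁿ)`: the groups `V_W` and `Q_W`
-/

set_option autoImplicit false
set_option linter.unusedSectionVars false

namespace Cfsg.Lib.SU5

open Subgroup Module Cfsg.Lib.Trans Cfsg.Lib.Gold Cfsg.Lib.Class.Form Cfsg.Lib.Class.FAut
open Cfsg.Lib.Comp (Tw)
open scoped commutatorElement

variable {E M : Type*} [Field E] [Finite E] [AddCommGroup M] [Module E M] [FiniteDimensional E M]
  {σ : E →+* E} {B : M →ₛₗ[σ] M →ₗ[E] E}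

theorem mem_St_of {W : Submodule E M} {g : sIsom B} (k : ∀ x ∈ W, lin g x ∈ W) : g ∈ St B W :=
  mem_stab_of_forall_mem (g := g.1) k

theorem Fx_le_St {W : Submodule E M} : Fx B W ≤ St B W :=
  fun _ hg => mem_St_of fun x hx => (hg x hx).symm ▸ hx

theorem Mo.VW_fix (h : Mo B) {W : Submodule E M} {v : sIsom B} (hv : v ∈ VW B W) {x : M}
    (hx : x ∈ orth B W) : lin v x = x := by
  refine sub_eq_zero.1 (h.sep' _ fun y => ?_)
  have := hx _ (mem_VW.1 (inv_mem hv) y)
  rwa [map_sub, LinearMap.sub_apply, ← lin_right, ← map_sub] at this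

theorem K2.le_orth {W : Submodule E M} (hW : TotIso B W) {x : M} (hx : x ∈ W) : x ∈ orth B W :=
  fun u hu => hW u hu x hx

theorem Mo.VW_le_QW (h : Mo B) {W : Submodule E M} (hW : TotIso B W) : VW B W ≤ QW B W :=
  fun _ hv => ⟨fun _ hw => h.VW_fix hv (K2.le_orth hW hw), fun x _ => hv x⟩

theorem Mo.QW_le_St (h : Mo B) {W W' : Submodule E M} (hW' : TotIso B W') (hle : W ≤ W') :
    QW B W ≤ St B W' := fun _ hg => (fun _ => mem_St_of fun x hx => by
  have := add_mem (hle (hg.2 x fun u hu => hW' u (hle hu) x hx)) hx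
  rwa [sub_add_cancel] at this) h

theorem Mo.QW_le_Fx1 (h : Mo B) {W : Submodule E M} {u : M} (hu : u ∈ W) :
    QW B W ≤ Fx B (E ∙ u) := fun _ hg => (fun _ => mem_Fx1.2 (hg.1 u hu)) h

theorem K2.Fx_sub {W : Submodule E M} {g : sIsom B} (hg : g ∈ Fx B W) (x : M) :
    lin g x - x ∈ orth B W := fun w hw => by
  rw [map_sub, lin_right, mem_Fx.1 (inv_mem hg) w hw, sub_self]

theorem Mo.Fx_le_Cs (h : Mo B) {W : Submodule E M} : Fx B W ≤ Cs (VW B W) := fun g hg =>
  mem_Cs.2 fun v hv => lin_ext fun x => by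
    have h1 := h.VW_fix hv (K2.Fx_sub hg x)
    have h2 := hg _ (mem_VW.1 hv x)
    rw [map_sub] at h1 h2
    rw [lin_mul, lin_mul]
    linear_combination (norm := module) h1 - h2

theorem Mo.sq_VW (h : Mo B) {W : Submodule E M} (hW : TotIso B W) {v : sIsom B} (hv : v ∈ VW B W) :
    v * v = 1 := lin_ext fun x => by
  have h1 := (h.VW_le_QW hW hv).1 _ (mem_VW.1 hv x)
  rw [map_sub] at h1
  rw [lin_mul, lin_one]
  linear_combination (norm := module) h1 + h.vadd_self (lin v x - x)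

theorem Mo.two_QW (h : Mo B) {W : Submodule E M} (hW : TotIso B W) : IsPGroup 2 (QW B W) := by
  rintro ⟨g, hg⟩
  have k : g * g ∈ VW B W := mem_VW.2 fun x => by
    have h1 := hg.2 _ (K2.Fx_sub hg.1 x)
    rwa [show lin g (lin g x - x) - (lin g x - x) = lin (g * g) x - x by
      rw [map_sub, lin_mul]
      linear_combination (norm := module) -h.vadd_self (lin g x - x)] at h1
  refine ⟨2, Subtype.ext ?_⟩
  change g ^ (2 * 2) = 1
  rw [pow_mul, pow_two, pow_two, h.sq_VW hW k]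

theorem K2.cj_eq {F : Submodule E M → Subgroup (sIsom B)}
    (hF : ∀ (W W' : Submodule E M) (g : sIsom B), (∀ x, x ∈ W ↔ lin g x ∈ W') → ∀ a ∈ F W',
      g⁻¹ * a * g ∈ F W)
    {W W' : Submodule E M} {g : sIsom B} (k : ∀ x, x ∈ W ↔ lin g x ∈ W') : cj g (F W) = F W' := by
  ext a
  refine mem_cj.trans ⟨fun ha => ?_, hF W W' g k a⟩
  have := hF W' W g⁻¹ (fun x => by rw [k, lin_lin_inv]) _ ha
  rwa [show g⁻¹⁻¹ * (g⁻¹ * a * g) * g⁻¹ = a by group] at this

theorem cj_sub {W W' : Submodule E M} {g : sIsom B} (k : ∀ x, x ∈ W ↔ lin g x ∈ W') :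
    cj g (VW B W) = VW B W' ∧ cj g (QW B W) = QW B W' ∧ cj g (Fx B W) = Fx B W' ∧
      cj g (St B W) = St B W' := by
  have hF : ∀ (W W' : Submodule E M) (g : sIsom B), (∀ x, x ∈ W ↔ lin g x ∈ W') → ∀ a ∈ Fx B W',
      g⁻¹ * a * g ∈ Fx B W := fun W W' g k a ha w hw => by
    rw [lin_mul, lin_mul, ha _ ((k w).1 hw), lin_inv_lin]
  refine ⟨K2.cj_eq (F := VW B) (fun W W' g k a ha => mem_VW.2 fun x => ?_) k,
    K2.cj_eq (F := QW B) (fun W W' g k a ha => ⟨hF W W' g k a ha.1, fun x hx => ?_⟩) k,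
    K2.cj_eq hF k, K2.cj_eq (F := St B) (fun W W' g k a ha x => ?_) k⟩
  · rw [k, map_sub, lin_mul, lin_mul, lin_lin_inv]
    exact ha _
  · rw [k, map_sub, lin_mul, lin_mul, lin_lin_inv]
    exact ha.2 _ fun u hu => by rw [lin_right, hx _ ((k _).2 (by rwa [lin_lin_inv]))]
  · rw [k, k, lin_mul, lin_mul, lin_lin_inv]
    exact ha _

theorem cj_map (W : Submodule E M) (g : sIsom B) (x : M) :
    x ∈ W ↔ lin g x ∈ W.map (lin g : M →ₗ[E] M) :=
  ⟨fun hx => ⟨x, hx, rfl⟩, fun ⟨_, hy, e⟩ => (lin g).injective e ▸ hy⟩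

theorem cj_span (s : Set M) (g : sIsom B) (x : M) :
    x ∈ Submodule.span E s ↔ lin g x ∈ Submodule.span E (lin g '' s) := by
  rw [cj_map _ g, Submodule.map_span]
  rfl

theorem St_le_Ns {W : Submodule E M} :
    St B W ≤ Ns (VW B W) ⊓ Ns (QW B W) ⊓ Ns (Fx B W) := fun _ hg =>
  ⟨⟨mem_Ns_iff.2 (cj_sub hg).1, mem_Ns_iff.2 (cj_sub hg).2.1⟩, mem_Ns_iff.2 (cj_sub hg).2.2.1⟩

theorem K2.sym (h : Mo B) {W : Submodule E M} (hW : TotIso B W) {v : sIsom B} (hv : v ∈ VW B W)
    (x y : M) : B (lin v x - x) y = B x (lin v y - y) := by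
  have h1 := hW _ (mem_VW.1 hv x) _ (mem_VW.1 hv y)
  simp only [map_sub, LinearMap.sub_apply, lin_isom] at h1 ⊢
  linear_combination -h1 + (B x y - B x (lin v y) + B x y) * h.two - B x y * h.two

theorem K2.exists_nf (h : Mo B) : ∃ s : E, σ s - s ≠ 0 := by
  by_contra! e
  exact h.ne_id (RingHom.ext fun s => sub_eq_zero.1 (e s))

theorem K2.exists_self (h : Mo B) {v : sIsom B} (v1 : v ≠ 1) : ∃ x, B x (lin v x - x) ≠ 0 := by
  by_contra! e
  obtain ⟨s, hs⟩ := K2.exists_nf h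
  refine v1 (lin_ext fun y => sub_eq_zero.1 (h.sep' _ fun x => mul_left_cancel₀ hs ?_))
  have h1 := e (x + y)
  have h2 := e (s • x + y)
  have h3 := e x
  have h4 := e y
  simp only [map_sub, map_add, map_smulₛₗ, LinearMap.add_apply, LinearMap.smul_apply, smul_eq_mul,
    RingHom.id_apply, lin_one] at h1 h2 h3 h4 ⊢
  linear_combination h2 - s * h1 - (σ s * s - s) * h3 - (1 - s) * h4

theorem Mo.gen_VW (h : Mo B) {W : Submodule E M} (hW : TotIso B W) {H : Subgroup (sIsom B)}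
    (k : ∀ x ∈ W, tT B x 1 ∈ H) : VW B W ≤ H := by
  suffices ∀ K : Submodule E M, ∀ v ∈ VW B W,
      LinearMap.eqLocus (lin v : M →ₗ[E] M) LinearMap.id = K → v ∈ H from fun v hv => this _ v hv rfl
  intro K
  induction K using WellFoundedGT.induction with
  | _ K ih =>
  rintro v hv rfl
  by_cases v1 : v = 1
  · exact v1 ▸ one_mem H
  obtain ⟨x, hx⟩ := K2.exists_self h v1
  have hu := mem_VW.1 hv x
  have hs := K2.sym h hW hv x
  generalize hu' : lin v x - x = u at hx hu hs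
  have huu := hW u hu u hu
  have hd : σ (B x u)⁻¹ = (B x u)⁻¹ := by rw [map_inv₀, h.toHerm.conj, hs, hu']
  have hT : tT B u (B x u)⁻¹ ∈ H := by
    obtain ⟨a, -, e⟩ := h.tT_nm huu hd
    exact e ▸ k _ (W.smul_mem a hu)
  have hl : ∀ y, lin (v * tT B u (B x u)⁻¹) y = lin v y + ((B x u)⁻¹ * B u y) • u := fun y => by
    rw [lin_mul, h.lin_tT huu hd, map_add, map_smul, (h.VW_le_QW hW hv).1 u hu]
  refine (mul_mem_cancel_right hT).1 (ih _ (lt_of_le_of_ne (fun y hy => ?_) fun e => ?_) _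
    (mul_mem hv (h.tT_mem huu hu hd)) rfl)
  · have hy' : lin v y = y := hy
    change lin _ y = y
    rw [hl, hs, hy', sub_self, map_zero, mul_zero, zero_smul, add_zero]
  · have h1 : x ∈ LinearMap.eqLocus (lin (v * tT B u (B x u)⁻¹) : M →ₗ[E] M) LinearMap.id := by
      change lin _ x = x
      rw [hl, hs, hu', inv_mul_cancel₀ hx, one_smul]
      linear_combination (norm := module) hu' + h.vadd_self u
    have h2 : lin v x = x := (e ▸ h1 :)
    exact hx (by rw [← hu', h2, sub_self, map_zero])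

theorem K2.card_herm (h : Mo B) (n : ℕ) :
    Nat.card {A : Fin n → Fin n → E // ∀ i j, σ (A j i) = A i j} = qn σ ^ (n ^ 2) := by
  let T : (Fin n → Fin n → E) →+ (Fin n → Fin n → E) :=
    AddMonoidHom.mk' (fun X i j => X i j + σ (X j i)) fun X Y => by
      ext i j
      simp only [Pi.add_apply, map_add]
      ring
  have hT : ∀ X i j, T X i j = X i j + σ (X j i) := fun _ _ _ => rfl
  obtain ⟨ω, hω⟩ := h.exists_tr (map_one σ)
  have h1 : Nat.card T.ker = Nat.card {A : Fin n → Fin n → E // ∀ i j, σ (A j i) = A i j} :=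
    Nat.card_congr (Equiv.subtypeEquivRight fun A => by
      simp only [AddMonoidHom.mem_ker, funext_iff, hT, Pi.zero_apply]
      exact forall₂_congr fun i j => ⟨fun e => by linear_combination e - A i j * h.two,
        fun e => by linear_combination e + A i j * h.two⟩)
  have h2 : Nat.card T.range = Nat.card {A : Fin n → Fin n → E // ∀ i j, σ (A j i) = A i j} :=
    Nat.card_congr (Equiv.subtypeEquivRight fun A => ⟨by
      rintro ⟨X, rfl⟩ i j
      rw [hT, hT, map_add, h.ss, add_comm], fun hA => ⟨fun i j => ω * A i j, by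
        ext i j
        rw [hT, map_mul, hA, ← add_mul, hω, one_mul]⟩⟩)
  have h3 := T.ker.card_mul_index
  rw [AddSubgroup.index_ker, h1, h2, Nat.card_fun, Nat.card_fun, h.card_E, Nat.card_fin, ← pow_two,
    ← pow_mul, ← pow_mul] at h3
  refine Nat.pow_left_injective two_ne_zero (h3.trans ?_)
  change _ = (_ ^ _) ^ 2
  rw [← pow_mul]
  congr 1
  ring

theorem Mo.card_VW (h : Mo B) {W : Submodule E M} (hW : TotIso B W) :
    Nat.card (VW B W) = qn σ ^ (finrank E W ^ 2) := by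
  classical
  rw [← K2.card_herm h]
  let b := Module.finBasis E W
  have hli : LinearIndependent E fun i => (b i : M) := b.linearIndependent.map' W.subtype (by simp)
  choose f hf using fun j => h.exists_forall_eq' hli (Pi.single j 1)
  have hf' : ∀ i j, B (f i) (b j) = Pi.single (M := fun _ => E) i 1 j := fun i j => by
    rw [← h.toHerm.conj, hf, Pi.single_apply]
    split_ifs <;> simp
  have hW' : ∀ w ∈ W, ∑ i, B (f i) w • (b i : M) = w := fun w hw => by
    have := congrArg W.subtype (b.sum_repr ⟨w, hw⟩)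
    simp only [map_sum, map_smul, Submodule.subtype_apply] at this
    refine (Finset.sum_congr rfl fun i _ => ?_).trans this
    conv_lhs => rw [← this]
    simp [hf', Pi.single_apply]
  have hx : ∀ x, x - ∑ j, B (b j) x • f j ∈ orth B W := fun x w hw => by
    rw [← hW' w hw]
    simp [hf, Pi.single_apply]
  refine Nat.card_congr (Equiv.ofBijective (fun v => ⟨fun i j => B (f i) (lin v.1 (f j) - f j),
    fun i j => by rw [h.toHerm.conj, K2.sym h hW v.2]⟩) ⟨fun v v' e => ?_, fun ⟨A, hA⟩ => ?_⟩)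
  · have e1 : ∀ j, lin v.1 (f j) = lin v'.1 (f j) := fun j => by
      rw [← sub_left_inj (a := f j), ← hW' _ (mem_VW.1 v.2 _), ← hW' _ (mem_VW.1 v'.2 _)]
      exact Finset.sum_congr rfl fun i _ =>
        congrArg (· • _) (congrFun (congrFun (congrArg Subtype.val e) i) j)
    refine Subtype.ext (lin_ext fun x => ?_)
    rw [← sub_add_cancel x (∑ j, B (b j) x • f j), map_add, map_add, h.VW_fix v.2 (hx x),
      h.VW_fix v'.2 (hx x)]
    simp only [map_sum, map_smul, e1]
  · let N : M →ₗ[E] M := ∑ i, ∑ j, (A i j • B (b j)).smulRight (b i : M)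
    have hN : ∀ x, N x = ∑ i, ∑ j, (A i j * B (b j) x) • (b i : M) := fun x => by simp [N]
    have hNW : ∀ x, N x ∈ W := fun x => hN x ▸ sum_mem fun i _ => sum_mem fun j _ =>
      W.smul_mem _ (b i).2
    have hNs : ∀ x y, B (N x) y = B x (N y) := fun x y => by
      simp only [hN, map_sum, map_smulₛₗ, LinearMap.sum_apply, LinearMap.smul_apply, smul_eq_mul,
        map_mul, hA, h.toHerm.conj, RingHom.id_apply]
      rw [Finset.sum_comm]
      exact Finset.sum_congr rfl fun i _ => Finset.sum_congr rfl fun j _ => by ring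
    have hNN : ∀ x, N (N x) = 0 := fun x => h.sep _ fun y => by
      rw [hNs]
      exact hW _ (hNW _) _ (hNW _)
    have hi : ∀ x y, B ((1 + N) x) ((1 + N) y) = B x y := fun x y => by
      simp only [LinearMap.add_apply, Module.End.one_apply, map_add, hNs, hNN, map_zero]
      linear_combination B x (N y) * h.two
    have hd : LinearMap.det (1 + N) = 1 := h.sq_inj (by
      rw [← map_mul, mul_one, show (1 + N) * (1 + N) = 1 from LinearMap.ext fun x => ?_, map_one]
      simp only [Module.End.mul_apply, LinearMap.add_apply, Module.End.one_apply, map_add, hNN]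
      linear_combination (norm := module) h.vadd_self (N x))
    let g : sIsom B := ⟨h.ofLin _ hi, mem_sIsom'.2 ((h.det_ofLin _ hi).trans hd)⟩
    have hg : ∀ x, lin g x - x = N x := fun x => add_sub_cancel_left x (N x)
    refine ⟨⟨g, mem_VW.2 fun x => hg x ▸ hNW x⟩, Subtype.ext (funext₂ fun i j => ?_)⟩
    change B _ (lin g _ - _) = A i j
    simp [hg, hN, hf, hf', Pi.single_apply]

theorem Mo.VW_inj (h : Mo B) {W W' : Submodule E M} (hW : TotIso B W) (e : VW B W ≤ VW B W') :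
    W ≤ W' := fun x hx => by
  by_cases x0 : x = 0
  · exact x0 ▸ zero_mem W'
  obtain ⟨y, hy⟩ := h.exists_ne x0
  have := mem_VW.1 (e (h.tT_mem (hW x hx x hx) hx (map_one σ))) y
  rwa [h.lin_tT (hW x hx x hx) (map_one σ), add_sub_cancel_left, one_mul,
    W'.smul_mem_iff hy] at this

theorem Mo.cV (h : Mo B) {W : Submodule E M} (hW : TotIso B W) {g : sIsom B} (hg : Tw g)
    (hc : g ∈ Cs (VW B W)) : g ∈ Fx B W := fun x hx => by
  by_cases x0 : x = 0
  · rw [x0, map_zero]
  have hxx := hW x hx x hx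
  have e := h.tT_conj g hxx (map_one σ)
  rw [← mem_Cs.1 hc _ (h.tT_mem hxx hx (map_one σ)), mul_inv_cancel_right] at e
  obtain ⟨a, -, ha, -⟩ := h.tT_dep hxx x0 ((lin_isom ..).trans hxx) (map_one σ) one_ne_zero
    (map_one σ) e
  exact h.tw_fix hg ha

theorem Mo.isE_mem_Q (h : Mo B) {u w : M} (hu : B u u = 0) (huw : B u w = 0) {b : E} {g : sIsom B}
    (hg : IsE B 1 u w b g) : g ∈ QW B (E ∙ u) := by
  refine mem_QW.2 ⟨mem_Fx1.2 (hg.apply_self hu (h.swap huw)), fun x hx => ?_⟩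
  rw [hg, mem_orth_span_singleton.1 hx, zero_smul, add_zero, sub_sub_cancel_left]
  exact neg_mem (Submodule.smul_mem _ _ (Submodule.mem_span_singleton_self u))

theorem Mo.cVQ (h : Mo B) {W : Submodule E M} (hW : TotIso B W) {u : M} (hu : u ∈ W) (u0 : u ≠ 0)
    {v : sIsom B} (hv : v ∈ VW B W) (hc : v ∈ Cs (QW B (E ∙ u))) : v ∈ RR B u := by
  have huu := hW u hu u hu
  obtain ⟨x, -, hx⟩ := h.cls.exists_hyperbolic u0 huu
  have h1 : B u (lin v x) = 1 := by
    have := hW u hu _ (mem_VW.1 hv x)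
    rwa [map_sub, hx, sub_eq_zero] at this
  have h2 : ∀ w, B u w = 0 → lin v w - w = -B w (lin v x - x) • u := fun w hw => by
    obtain ⟨b, hb⟩ := h.cls.exists_trace w
    obtain ⟨g, hg⟩ := h.cls.exists_isE huu hw hb
    have e := congrArg (lin · x) (mem_Cs.1 hc g (h.isE_mem_Q huu hw hg))
    simp only [lin_mul, hg _, hx, h1, map_add, map_sub, map_smul,
      (h.VW_le_QW hW hv).1 u hu] at e ⊢
    linear_combination (norm := module) -e
  have h3 : lin v x - x ∈ E ∙ u := by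
    rw [← h.orth_orth (E ∙ u)]
    intro w hw
    have hw' := mem_orth_span_singleton.1 hw
    obtain ⟨s, hs⟩ := K2.exists_nf h
    have e := h2 (s • w) (by simp [hw'])
    rw [map_smul, ← smul_sub, h2 w hw', smul_smul, map_smulₛₗ] at e
    have e' := smul_left_injective E u0 e
    simp only [LinearMap.smul_apply, smul_eq_mul] at e'
    exact mul_left_cancel₀ hs (by linear_combination e')
  refine mem_VW.2 fun y => ?_
  have e := h2 (y - B u y • x) (by simp [hx])
  rw [show lin v y - y = (lin v (y - B u y • x) - (y - B u y • x)) + B u y • (lin v x - x) by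
    rw [map_sub, map_smul]; module, e]
  exact add_mem (Submodule.smul_mem _ _ (Submodule.mem_span_singleton_self u))
    (Submodule.smul_mem _ _ h3)

theorem K2.tE_St (h : Mo B) {W : Submodule E M} (hW : TotIso B W) {a f : M} (ha : a ∈ W)
    (k : I2 B a f) : tE B a f ∈ St B W := mem_St_of fun x hx => by
  rw [h.lin_tE k, hW a ha x hx, zero_smul, add_zero]
  exact add_mem hx (W.smul_mem _ ha)

theorem Mo.cVSt (h : Mo B) {W : Submodule E M} (hW : TotIso B W) (h2 : 2 ≤ finrank E W)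
    {v : sIsom B} (hv : v ∈ VW B W) (hc : ∀ y ∈ St B W, y * y = 1 → Commute v y) : v = 1 := by
  have key : LinearMap.eqLocus (lin v : M →ₗ[E] M) LinearMap.id = ⊤ := by
    refine h.cls.eq_top_of_iso (le_trans (by norm_num) h.ge5) fun f hf => ?_
    obtain ⟨⟨a, ha⟩, hfa, a0⟩ := (Submodule.ne_bot_iff _).1
      (((B f).domRestrict W).ker_ne_bot_of_finrank_lt (by rw [finrank_self]; omega))
    have haf : B a f = 0 := h.swap hfa
    obtain ⟨x, hx⟩ := h.exists_ne (u := a) fun e => a0 (Subtype.ext e)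
    have h1 : ∀ a ∈ W, B a f = 0 → B a x • (lin v f - f) = B f (lin v x - x) • a := fun a ha e => by
      have k : I2 B a f := ⟨hW a ha a ha, hf, e⟩
      have e1 := congrArg (lin · x) (hc _ (K2.tE_St h hW ha k) (h.tE_sq k)).eq
      have e2 := hW a ha _ (mem_VW.1 hv x)
      rw [map_sub, sub_eq_zero] at e2
      simp only [lin_mul, h.lin_tE k, map_add, map_sub, map_smul, e2,
        (h.VW_le_QW hW hv).1 a ha] at e1 ⊢
      linear_combination (norm := module) e1
    obtain ⟨s, hs⟩ := K2.exists_nf h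
    have e1 := h1 a ha haf
    have e2 := h1 (s • a) (W.smul_mem s ha) (by simp [haf])
    rw [map_smulₛₗ, LinearMap.smul_apply, smul_eq_mul] at e2
    have e3 : ((σ s - s) * B a x) • (lin v f - f) = 0 := by
      linear_combination (norm := module) e2 - s • e1
    exact sub_eq_zero.1 ((smul_eq_zero.1 e3).resolve_left (mul_ne_zero hs hx))
  exact lin_ext fun x => (key ▸ Submodule.mem_top : x ∈ LinearMap.eqLocus _ _)

theorem K2.comm_of (h : Mo B) {W : Submodule E M} (hW : TotIso B W) {y : sIsom B} {a x : M}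
    (ha : a ∈ W) (hx : x ∈ W) (ya : lin y a = a + x) (yx : lin y x = x) :
    ∃ v ∈ VW B W, ⁅v, y⁆ = tT B x 1 := by
  obtain ⟨l, hl⟩ := h.exists_tr (map_one σ)
  have hl' := W.smul_mem l hx
  have k := I2.of_ti hW ha hl'
  refine ⟨_, h.tE_mem k ha hl', ?_⟩
  rw [commutatorElement_def, inv_eq_of_mul_eq_one_right (h.tE_sq k), mul_assoc, mul_assoc,
    ← mul_assoc y, h.tE_conj y k, map_smul, ya, yx, h.tE_add' (I3.of_ti hW hl' ha hx), ← mul_assoc,
    h.tE_sq k, one_mul, h.tE_comm (I2.of_ti hW hx hl'), h.tE_self (hW x hx x hx), hl]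

theorem K2.partner (h : Mo B) {x a : M} (k : I2 B x a) (ha : a ∉ E ∙ x) :
    ∃ f, I2 B x f ∧ B a f = 1 := by
  obtain ⟨w, h1, h2⟩ := h.cls.exists_orth_eq_one ha
  obtain ⟨f, h3, h4, h5⟩ := h.cls.exists_partner (W := orth B (E ∙ x))
    (mem_orth_span_singleton.2 k.uw) (mem_orth_span_singleton.2 h1) k.ww (h2 ▸ one_ne_zero)
  exact ⟨f, ⟨k.uu, h4, mem_orth_span_singleton.1 h3⟩, h5⟩

theorem Mo.rootSt (h : Mo B) {W : Submodule E M} (hW : TotIso B W) (h2 : 2 ≤ finrank E W) {x : M}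
    (hx : x ∈ W) : ∃ y ∈ St B W, y * y = 1 ∧ ∃ v ∈ VW B W, ⁅v, y⁆ = tT B x 1 := by
  obtain ⟨a, ha, ha'⟩ : ∃ a ∈ W, a ∉ E ∙ x := by
    by_contra! e
    have := (Submodule.finrank_mono (show W ≤ E ∙ x from e)).trans (finrank_span_le_card {x})
    simp only [Set.toFinset_singleton, Finset.card_singleton] at this
    omega
  obtain ⟨f, k, hf⟩ := K2.partner h (I2.of_ti hW hx ha) ha'
  refine ⟨_, K2.tE_St h hW hx k, h.tE_sq k, K2.comm_of h hW ha hx ?_ ?_⟩
  · rw [h.lin_tE k, hW x hx a ha, h.cls.swap_one hf, zero_smul, add_zero, one_smul]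
  · exact (h.isE k).apply_self k.uu (h.swap k.uw)

theorem Mo.rootV (h : Mo B) {W : Submodule E M} (hW : TotIso B W) {y : sIsom B} (hy : y ∈ St B W)
    (h2 : y * y ∈ Fx B W) (hn : y ∉ Fx B W) :
    ∃ v ∈ VW B W, ∃ x ∈ W, x ≠ 0 ∧ ⁅v, y⁆ = tT B x 1 := by
  obtain ⟨a, ha, ha'⟩ : ∃ a ∈ W, lin y a ≠ a := by
    by_contra! e
    exact hn e
  have hx := sub_mem ((hy a).1 ha) ha
  obtain ⟨v, hv, e⟩ := K2.comm_of h hW (y := y) ha hx (add_sub_cancel _ _).symm (by
    rw [map_sub, ← lin_mul, h2 a ha, h.vsub, h.vsub, add_comm])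
  exact ⟨v, hv, _, hx, sub_ne_zero.2 ha', e⟩

theorem Mo.irr (h : Mo B) {u w : M} (k : I2 B u w) (li : LinearIndependent E ![u, w])
    {H : Subgroup (sIsom B)}
    (hH : ∀ x ∈ Submodule.span E {u, w}, x ≠ 0 → tT B u 1 * tT B x 1 ∈ H) {c : E} (hc : σ c = c) :
    tT B u c ∈ H := by
  have h1 : ∀ a b : E, a ≠ 0 ∨ b ≠ 0 → tT B u 1 * tT B (a • u + b • w) 1 ∈ H := fun a b e =>
    hH _ (Submodule.mem_span_pair.2 ⟨a, b, rfl⟩) fun e' => by
      have := LinearIndependent.pair_iff.1 li a b e'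
      tauto
  by_cases c1 : c = 1
  · obtain ⟨ω, hω⟩ := h.exists_tr (map_one σ)
    have h2 : ∀ s : E, ∀ x, lin (tT B u 1 * tT B ((1 : E) • u + s • w) 1) x =
        x + (σ s * s * B w x + s * B u x) • w + (σ s * B w x) • u := fun s x => by
      simp only [lin_mul, h.lin_tT ((k.smul 1 s).add h) (map_one σ), h.lin_tT k.uu (map_one σ),
        map_add, map_smulₛₗ, LinearMap.add_apply, LinearMap.smul_apply, smul_eq_mul,
        RingHom.id_apply, k.uu, k.uw, map_one]
      match_scalars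
      · ring
      · linear_combination B u x * h.two
      · ring
    have h3 := mul_mem (mul_mem (h1 1 1 (by simp)) (h1 1 ω (by simp))) (h1 1 (ω + 1) (by simp))
    have h4 := h1 0 1 (by simp)
    rw [zero_smul, one_smul, zero_add] at h4
    rw [c1, ← mul_mem_cancel_right h3]
    convert h4 using 2
    refine lin_ext fun x => ?_
    rw [lin_mul, lin_mul _ (tT B u 1 * _), h2, h2, h2, h.lin_tT k.ww (map_one σ)]
    simp only [map_add, map_smul, smul_eq_mul, k.uu, k.ww, k.uw, h.swap k.uw, map_one]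
    match_scalars
    · ring
    · linear_combination B w x * hω + (B w x * (1 + σ ω * ω) + B u x * (1 + ω)) * h.two
    · linear_combination (B w x * (1 + σ ω)) * h.two
  obtain ⟨a, ha, e⟩ := h.tT_nm k.uu (c := 1 + c) (by rw [map_add, map_one, hc])
  have := h1 a 0 (Or.inl fun a0 => c1 (by
    rw [a0, mul_zero] at ha
    linear_combination -ha - h.two))
  rwa [zero_smul, add_zero, ← e, ← h.tT_add k.uu (map_one σ) (by rw [map_add, map_one, hc]),
    ← add_assoc, h.add_self, zero_add] at this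

theorem Mo.comm_root (h : Mo B) {u : M} (hu : B u u = 0) (u0 : u ≠ 0) {c : E} (hc : σ c = c) :
    ∃ a ∈ QW B (E ∙ u), ∃ b ∈ QW B (E ∙ u), a * a = 1 ∧ b * b = 1 ∧ ⁅a, b⁆ = tT B u c := by
  obtain ⟨f, hf, huf⟩ := h.cls.exists_hyperbolic u0 hu
  have h1 := h.cls.finrank_hypU hu huf
  have h6 := h.ge5
  have hc' := h.cls.restrict (h.cls.nondegOn_hypU hu hf huf)
  obtain ⟨x, x0, hx⟩ := hc'.exists_iso (by omega)
  obtain ⟨y, hy, hxy⟩ := hc'.exists_hyperbolic x0 hx
  rw [restr_apply] at hx hy hxy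
  obtain ⟨l, hl⟩ := h.exists_tr hc
  have k1 : I2 B u x := ⟨hu, hx, (mem_hypU.1 x.2).1⟩
  have k2 : I2 B u y := ⟨hu, hy, (mem_hypU.1 y.2).1⟩
  have k3 : I2 B u (l • y) := by simpa using k2.smul 1 l
  have k4 : I2 B u (l • u) := by simpa using (I2.self hu).smul 1 l
  refine ⟨_, h.tE_mem_Q k1, _, h.tE_mem_Q k3, h.tE_sq k1, h.tE_sq k3, ?_⟩
  rw [commutatorElement_def, h.tE_conj _ k3, (h.isE k1).apply_self hu (h.swap k1.uw), map_smul,
    h.lin_tE k1, k2.uw, hxy, zero_smul, add_zero, one_smul, add_comm, smul_add,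
    h.tE_add ⟨k4, k3.ww, k3.uw, by simp [k2.uw]⟩, mul_inv_cancel_right, h.tE_comm k4,
    h.tE_self hu, hl]

end Cfsg.Lib.SU5
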