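import Cfsg.Agent.SU5.N3

/-!
# Standard subgroups of type `U_m(2ⁿ)`: pairs of root involutions in the split case
-/

set_option autoImplicit false
set_option linter.unusedSectionVars false

namespace Cfsg.Lib.SU5

open Subgroup Module Cfsg.Lib.Trans Cfsg.Lib.Gold Cfsg.Lib.Class.Form Cfsg.Lib.Class.FAut
open Cfsg.Lib.SG2 (Uq Top Pp)
open Cfsg.Lib.Comp (Tw)
open scoped commutatorElement

variable {G E M : Type*} [Group G] [Finite G] [Field E] [Finite E] [AddCommGroup M] [Module E M]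
  [FiniteDimensional E M] {σ : E →+* E} {B : M →ₛₗ[σ] M →ₗ[E] E} {φ φ' : sIsom B →* G} {t : G}
  {X : Subgroup G} {y z : sIsom B →* G} {P : Subgroup G} {U : Subgroup (sIsom B)}
  {W : Submodule E M} {u : M} {γ : (E ≃+* E) →* MulAut (sIsom B)}

theorem FS.nV' (h : FS φ t y z X U) (k : Fr B U W u γ) :
    X ⊓ Ns ((VW B W).map y ⊔ (VW B W).map z) ≤ Ns ((VW B W).map z) := by
  rw [sup_comm]; exact h.symm.nV k

theorem FS.half (h : FS φ t y z X U) (k : Fr B U W u γ) {g : G} (hg : g ∈ X)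
    (hv : g * y (tT B u 1) * g⁻¹ ∈ (VW B W).map y) :
    ∃ c ∈ X ⊓ Cs ((VW B W).map z), c * y (tT B u 1) * c⁻¹ = g * y (tT B u 1) * g⁻¹ := by
  have := Fact.mk Nat.prime_two
  have m := h.toMo
  have k1 := k.fc h.my
  have r1 : y (tT B u 1) ∈ (RR B u).map y := mem_map_of_mem _ (k.T_mem m)
  obtain ⟨n, hn, e⟩ := h.fus_J k (mem_sup_left (k1.RV r1)) hg (mem_sup_left hv)
  have s := h.sylJ k
  have n1 := le_Ns_inf le_normalizer (le_Ns_Cs (h.nV k))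
  have n2 := le_Ns_inf le_normalizer (le_Ns_Cs (h.nV' k))
  generalize hH : X ⊓ Ns ((VW B W).map y ⊔ (VW B W).map z) = H at hn s n1 n2
  have HX : H ≤ X := hH ▸ inf_le_left
  have s1 : IsSylowIn 2 (U.map y ⊔ U.map z)
      (H ⊓ Cs ((VW B W).map z) ⊔ H ⊓ Cs ((VW B W).map y)) :=
    s.mono (sup_le_sup (le_inf (le_sup_left.trans s.le) (h.toES.map_Cs _ _))
      (le_inf (le_sup_right.trans s.le) (h.toES.symm.map_Cs _ _))) (sup_le inf_le_left inf_le_left)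
  obtain ⟨p, hp, c, hc, e1⟩ := s1.frattini' (le_Ns_sup n2 n1 (inv_mem hn))
  obtain ⟨c2, h2, c1, h1, e2⟩ := (Solv.Coprime.mem_sup_iff (inf_le_left.trans n2)).1 (inv_mem hc)
  have e3 : n = c2 * c1 * p⁻¹ := by rw [e2, ← mul_inv_rev, ← e1, inv_inv]
  have p1 : p⁻¹ ∈ X := (mul_mem_cancel_left (mul_mem (HX h2.1) (HX h1.1))).1 (e3 ▸ HX hn)
  have r2 := mem_normalizer_conj (h.nT k (mem_inf.2 ⟨p1, inv_mem hp⟩)).1 r1
  have r3 := Gold.mem_Cs.1 h1.2 _ (k1.RV r2)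
  obtain ⟨r, hr, e4⟩ := r2
  obtain ⟨d, hd, rfl⟩ := (m.mem_RR k.iso).1 hr
  obtain ⟨l, hl⟩ := m.tT_conj' k.iso k.ne k.iso k.ne (map_one σ) one_ne_zero hd (by
    rintro rfl
    rw [m.tT_zero, map_one] at e4
    exact h.my.T_ne k.iso k.ne (conj_eq_one_iff.1 e4.symm))
  refine ⟨c2 * y l, ⟨mul_mem (HX h2.1) (h.yX ⟨l, rfl⟩),
    mul_mem h2.2 (h.toES.map_Cs ⊤ _ (mem_map_of_mem _ (mem_top l)))⟩, ?_⟩
  rw [← hl, map_mul, map_mul, map_inv] at e4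
  rw [← e, e3]
  calc _ = c2 * (y l * y (tT B u 1) * (y l)⁻¹) * c2⁻¹ := by group
    _ = c2 * (p⁻¹ * y (tT B u 1) * p⁻¹⁻¹ * c1) * c1⁻¹ * c2⁻¹ := by rw [e4]; group
    _ = _ := by rw [r3]; group

theorem FS.pair (h : FS φ t y z X U) (k : Fr B U W u γ) {g g' : G} (hg : g ∈ X) (hg' : g' ∈ X)
    (e : Tw (g * y (tT B u 1) * g⁻¹ * (g' * z (tT B u 1) * g'⁻¹))) :
    ∃ c ∈ X, c * y (tT B u 1) * c⁻¹ = g * y (tT B u 1) * g⁻¹ ∧
      c * z (tT B u 1) * c⁻¹ = g' * z (tT B u 1) * g'⁻¹ := by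
  have := Fact.mk Nat.prime_two
  have m := h.toMo
  have k1 := k.fc h.my
  have k2 := k.fc h.mz
  have r1 : y (tT B u 1) ∈ (VW B W).map y := k1.RV (mem_map_of_mem _ (k.T_mem m))
  have r2 : z (tT B u 1) ∈ (VW B W).map z := k2.RV (mem_map_of_mem _ (k.T_mem m))
  have a2 : ∀ g : G, g * y (tT B u 1) * g⁻¹ * (g * y (tT B u 1) * g⁻¹) = 1 := fun g => by
    rw [conj_mul, k1.el _ r1]; simp
  have b2 : ∀ g : G, g * z (tT B u 1) * g⁻¹ * (g * z (tT B u 1) * g⁻¹) = 1 := fun g => by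
    rw [conj_mul, k2.el _ r2]; simp
  have aX : g * y (tT B u 1) * g⁻¹ ∈ X := mul_mem (mul_mem hg (h.yX ⟨_, rfl⟩)) (inv_mem hg)
  have bX : g' * z (tT B u 1) * g'⁻¹ ∈ X := mul_mem (mul_mem hg' (h.zX ⟨_, rfl⟩)) (inv_mem hg')
  obtain ⟨x, hx, s⟩ := h.syl.exists_cj_le (Comp.isPGroup_sup e.isPGroup (Tw.of_sq (a2 g)).isPGroup
    (zpowers_le.2 (mem_Ns_iff.2 (by
      rw [cj_zpowers, ← mul_assoc (g * _ * g⁻¹), a2, one_mul, ← zpowers_inv, mul_inv_rev, inv_inv,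
        inv_eq_of_mul_eq_one_left (b2 g')]))))
    (sup_le (zpowers_le.2 (mul_mem aX bX)) (zpowers_le.2 aX))
  have G0 : U.map y ⊔ U.map z ≤ y.range ⊔ z.range := sup_le_sup (map_le_range _ _) (map_le_range _ _)
  have s1 := G0 (cj_le_iff.1 s _ (mem_sup_right (mem_zpowers _)))
  have s2 := G0 (cj_le_iff.1 s _ ((mul_mem_cancel_left (mem_sup_right (mem_zpowers _))).1
    (mem_sup_left (mem_zpowers _))))
  rw [show ∀ a, x * (g * a * g⁻¹) * x⁻¹ = x * g * a * (x * g)⁻¹ from fun a => by group] at s1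
  rw [show ∀ a, x * (g' * a * g'⁻¹) * x⁻¹ = x * g' * a * (x * g')⁻¹ from fun a => by group,
    sup_comm] at s2
  obtain ⟨a, a3, e1⟩ := h.my.lift_inv (h.ic k ⟨_, rfl⟩ (k1.el _ r1) (mul_mem hx hg) s1) (a2 _)
  obtain ⟨b, b3, e2⟩ := h.mz.lift_inv (h.symm.ic k ⟨_, rfl⟩ (k2.el _ r2) (mul_mem hx hg') s2) (b2 _)
  obtain ⟨l, hl⟩ := k.inv_V m a3
  obtain ⟨n, hn⟩ := k.inv_V m b3
  have hw : y l * z n * x ∈ X := mul_mem (mul_mem (h.yX ⟨l, rfl⟩) (h.zX ⟨n, rfl⟩)) hx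
  have e3 : y l * z n * x * g * y (tT B u 1) * (y l * z n * x * g)⁻¹ = y (l * a * l⁻¹) := by
    rw [map_mul, map_mul, map_inv]
    calc _ = y l * (z n * (x * g * y (tT B u 1) * (x * g)⁻¹)) * (z n)⁻¹ * (y l)⁻¹ := by group
      _ = _ := by rw [← e1, ← (h.com a n).eq]; group
  have e4 : y l * z n * x * g' * z (tT B u 1) * (y l * z n * x * g')⁻¹ = z (n * b * n⁻¹) := by
    calc _ = y l * (z n * (x * g' * z (tT B u 1) * (x * g')⁻¹) * (z n)⁻¹) * (y l)⁻¹ := by group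
      _ = _ := by rw [← e2, ← map_inv z, ← map_mul, ← map_mul, (h.com l _).eq, mul_inv_cancel_right]
  have v2 : _ ∈ (VW B W).map z := e4 ▸ mem_map_of_mem _ hn
  obtain ⟨c2, h2, f2⟩ := h.half k (mul_mem hw hg) (e3 ▸ mem_map_of_mem _ hl)
  obtain ⟨c1, h1, f1⟩ := h.symm.half k (mul_mem hw hg') v2
  generalize y l * z n * x = w at hw f1 f2 v2
  refine ⟨w⁻¹ * (c2 * c1), mul_mem (inv_mem hw) (mul_mem h2.1 h1.1), ?_, ?_⟩
  · calc _ = w⁻¹ * (c2 * (c1 * y (tT B u 1)) * c1⁻¹ * c2⁻¹) * w := by group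
      _ = w⁻¹ * (c2 * y (tT B u 1) * c2⁻¹) * w := by rw [← Gold.mem_Cs.1 h1.2 _ r1]; group
      _ = _ := by rw [f2]; group
  · calc _ = w⁻¹ * (c2 * (c1 * z (tT B u 1) * c1⁻¹) * c2⁻¹) * w := by group
      _ = _ := by rw [f1, ← Gold.mem_Cs.1 h2.2 _ v2]; group

end Cfsg.Lib.SU5
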