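import Cfsg.Agent.SU5.J2
import Cfsg.Agent.SU5.J1
import Cfsg.Agent.SU5.KIT

/-!
# Standard subgroups of type `U_m(2ⁿ)`: basic consequences of the hypotheses
-/

set_option autoImplicit false
set_option linter.unusedSectionVars false
set_option linter.unusedVariables false

namespace Cfsg.Lib.SU5

open Subgroup Module Cfsg.Lib.Trans Cfsg.Lib.Gold Cfsg.Lib.Class.Form Cfsg.Lib.Class.FAut
open Cfsg.Lib.SG2 (Uq Top Pp)
open Cfsg.Lib.Comp (Tw)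
open scoped commutatorElement

variable {G E M : Type*} [Group G] [Finite G] [Field E] [Finite E] [AddCommGroup M] [Module E M]
  [FiniteDimensional E M] {σ : E →+* E} {B : M →ₛₗ[σ] M →ₗ[E] E} {φ φ' : sIsom B →* G} {t : G}

theorem Hyp.cx (h : Hyp φ t) (g : G) : Hyp (cx φ g) (g * t * g⁻¹) where
  toMod := h.toMod.cx g
  t2 := Comp.conj_sq h.t2 g
  t1 := by simpa using h.t1
  tc a := (h.tc a).map (MulAut.conj g)
  cn := by rw [range_cx, ← cj_C1, ← cj_Ns]; exact cj_mono g h.cn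
  cyc P hP hle := by
    rw [range_cx, ← cj_Cs] at hle
    have := h.cyc _ (isPGroup_cj hP g⁻¹) (cj_inv_le_iff_le_cj.2 hle)
    exact isCyclic_of_injective (cjEquiv g⁻¹ P).toMonoidHom (cjEquiv g⁻¹ P).injective

theorem Hyp.re (h : Hyp φ t) (α : MulAut (sIsom B)) : Hyp (re φ α) t where
  toMod := h.toMod.re α
  t2 := h.t2
  t1 := h.t1
  tc a := h.tc (α a)
  cn := by rw [range_re]; exact h.cn
  cyc := by rw [range_re]; exact h.cyc

theorem H1.re (h : H1 φ t) (α : MulAut (sIsom B)) : H1 (re φ α) t where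
  toHyp := h.toHyp.re α
  dec := by rw [Ot, range_re]; exact h.dec

theorem Hyp.L_le (h : Hyp φ t) : φ.range ≤ C1 t := by
  rintro _ ⟨a, rfl⟩
  exact mem_C1.2 (h.tc a).symm

theorem Hyp.tC (h : Hyp φ t) : t ∈ Cs φ.range := mem_Cs.2 fun _ hu => mem_C1.1 (h.L_le hu)

theorem Hyp.t_not (h : Hyp φ t) : t ∉ φ.range := fun e =>
  h.t1 (h.toMod.one_of e h.tC (.of_sq h.t2))

theorem Hyp.inv_eq (h : Hyp φ t) {c : G} (hc : c ∈ Cs φ.range) (c2 : c * c = 1)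
    (ct : Commute c t) : c = 1 ∨ c = t := by
  have hA := Comp.sq_sup (Comp.sq_zpowers c2) (Comp.sq_zpowers h.t2) fun a ha b hb => by
    rcases Tl.mem_zpowers_of_sq c2 ha with rfl | rfl <;>
      rcases Tl.mem_zpowers_of_sq h.t2 hb with rfl | rfl <;> simp [ct.eq]
  obtain ⟨r, hr⟩ := (Subgroup.isCyclic_iff_exists_zpowers_eq_top _).1 (h.cyc _ (isPGroup_of_sq hA)
    (sup_le (zpowers_le.2 hc) (zpowers_le.2 h.tC)))
  exact or_iff_not_imp_left.2 fun c1 => Comp.zpowers_uniq c (hr ▸ mem_sup_left (mem_zpowers c)) t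
    (hr ▸ mem_sup_right (mem_zpowers t)) c2 h.t2 c1 h.t1

theorem Hyp.perf (h : Hyp φ t) {Y : Subgroup G} (hY : ⁅Y, Y⁆ = Y) (hn : Y ≤ C1 t) :
    Y ≤ φ.range := by
  obtain ⟨T⟩ : Nonempty (Sylow 2 (Cs φ.range)) := inferInstance
  have := h.cyc _ (T.2.map (Cs φ.range).subtype) (map_subtype_le _)
  exact GW.Lift.perfect_le_of_le_sup hY (h.toMod.perf_le hY (hn.trans h.cn)) Cs_le_Ns
    (Cor.isSolvable_of_isCyclic_sylow_two T (isCyclic_of_injective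
      (equivMapOfInjective _ _ (subtype_injective _)).toMonoidHom (MulEquiv.injective _)))

namespace P1a

theorem cover {D A : Subgroup G} (a : G) (h : ∀ e ∈ D, e ∈ A ∨ a⁻¹ * e ∈ A) :
    Nat.card D ≤ 2 * Nat.card ↥(D ⊓ A) := by
  classical
  refine (SG2.card_le_cover (({1, a} : Finset G) : Set G) fun e he => ?_).trans
    (Nat.mul_le_mul_right _ (by simpa using Finset.card_le_two))
  simpa using h e he

theorem sq (h : Mod φ) {a : G} (a2 : a * a = 1) {α : MulAut (sIsom B)} (k : Mp φ φ a α) :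
    α * α = 1 := Mp.uniq h (k.mul k) (a2 ▸ Mp.one)

end P1a

open P1a

theorem Hyp.inn (h : Hyp φ t) {a : G} (ha : Commute a t) (a2 : a * a = 1) {α : MulAut (sIsom B)}
    (k : Mp φ φ a α) : fa α = sg σ ∨ ∃ l, l * l = 1 ∧ (a = φ l ∨ a = t * φ l) := by
  have h1 := sq h.toMod a2 k
  refine (h.toMo.aut_inv (by rw [← h.toMo.fa_mul, h1, h.toMo.fa_one])).symm.imp_right fun e => ?_
  obtain ⟨l, hl, hc⟩ := k.lin2 h.toMod e (.of_sq h1)
  obtain ⟨c, rfl⟩ : ∃ c, a = φ l * c := ⟨(φ l)⁻¹ * a, by group⟩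
  rw [inv_mul_cancel_left] at hc
  have lc : Commute (φ l) c := mem_Cs.1 hc _ ⟨l, rfl⟩
  rw [lc.symm.mul_mul_mul_comm, ← map_mul] at a2
  have l2 : Tw (l * l) := .of_mem hl.isPGroup (mul_mem (mem_zpowers l) (mem_zpowers l))
  have h2 : φ (l * l) = 1 := h.toMod.one_of ⟨_, rfl⟩
    (eq_inv_of_mul_eq_one_left a2 ▸ inv_mem (mul_mem hc hc))
    (l2.imp fun n hn => by rw [← map_pow, hn, map_one])
  rw [h2, one_mul] at a2
  refine ⟨l, h.toMod.inj2 l2 h2, ?_⟩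
  rcases h.inv_eq hc a2 (mem_C1.1 ((mul_mem_cancel_left (h.L_le ⟨l, rfl⟩)).1 (mem_C1.2 ha)))
    with rfl | rfl
  · exact .inl (mul_one _)
  · exact .inr lc.eq

theorem Hyp.card_A (h : Hyp φ t) {W : Submodule E M} (hW : TotIso B W) :
    Nat.card ↥(zpowers t ⊔ (VW B W).map φ) = 2 * qn σ ^ (finrank E W ^ 2) := by
  rw [sup_comm, Solv.PG.card_sup_zpowers Nat.prime_two (Cs_le_Ns (Cs_anti (map_le_range _ _) h.tC))
    (fun e => h.t_not (map_le_range _ _ e)) (by rw [pow_two, h.t2]; exact one_mem _),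
    h.toMod.card_map (isPGroup_of_sq fun v hv => h.toMo.sq_VW hW hv), h.toMo.card_VW hW]

theorem Hyp.mem_A (h : Hyp φ t) {V : Subgroup (sIsom B)} {a : G} :
    a ∈ zpowers t ⊔ V.map φ ↔ ∃ v ∈ V, a = φ v ∨ a = t * φ v := by
  constructor
  · intro ha
    obtain ⟨s, hs, _, ⟨v, hv, rfl⟩, rfl⟩ :=
      (SG2.mem_sup_Cs (zpowers_le.2 (Cs_anti (map_le_range _ _) h.tC))).1 ha
    refine ⟨v, hv, ?_⟩
    rcases Tl.mem_zpowers_of_sq h.t2 hs with rfl | rfl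
    · exact .inl (one_mul _)
    · exact .inr rfl
  · rintro ⟨v, hv, rfl | rfl⟩
    · exact mem_sup_right ⟨v, hv, rfl⟩
    · exact mul_mem_sup (mem_zpowers t) ⟨v, hv, rfl⟩

namespace P1a

theorem half (h : Hyp φ t) {A : Subgroup G} (hA : ∀ a ∈ A, ∃ l, a = φ l ∨ a = t * φ l) :
    Nat.card A ≤ 2 * Nat.card ↥(A ⊓ φ.range) :=
  cover t fun a ha => by
    obtain ⟨l, rfl | rfl⟩ := hA a ha
    · exact .inl ⟨l, rfl⟩
    · exact .inr ⟨l, by group⟩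

theorem dich (h : Hyp φ t) {A : Subgroup G} (hA : ∀ a ∈ A, a * a = 1) (hle : A ≤ C1 t) :
    Nat.card A ≤ 2 * qn σ ^ (kk E M ^ 2) ∨ ∀ a ∈ A, ∃ l, a = φ l ∨ a = t * φ l := by
  refine or_iff_not_imp_right.2 fun hn => ?_
  push Not at hn
  obtain ⟨a, ha, hn⟩ := hn
  obtain ⟨α, k⟩ := h.toMod.ind (h.cn (hle ha))
  have e : fa α = sg σ := (h.inn (mem_C1.1 (hle ha)) (hA a ha) k).resolve_right
    fun ⟨l, _, e⟩ => e.elim (hn l).1 (hn l).2
  obtain ⟨A₀, h1, h2, h3⟩ := h.toMod.liftE (A := A ⊓ φ.range) (fun a ha => hA a ha.1) inf_le_right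
  have h4 := h.toMo.j2 (sq h.toMod (hA a ha) k) e h1 fun b hb =>
    (k.fix2 h.toMod (.of_sq (h1 b hb))).1 (comm_of_sq hA a ha _ (h2.le ⟨b, hb, rfl⟩).1)
  have h5 := cover (D := A) (A := zpowers t ⊔ (⊤ : Subgroup (sIsom B)).map φ) a fun b hb => by
    obtain ⟨β, k'⟩ := h.toMod.ind (h.cn (hle hb))
    rcases h.inn (mem_C1.1 (hle hb)) (hA b hb) k' with e' | ⟨l, -, e'⟩
    · have hab := mul_mem (inv_mem ha) hb
      rcases h.inn (mem_C1.1 (hle hab)) (hA _ hab) (k.inv.mul k') with e2 | ⟨l, -, e2⟩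
      · rw [h.toMo.fa_mul, h.toMo.fa_inv, e, e', inv_mul_cancel] at e2
        exact absurd e2.symm h.toMo.sg_ne
      · exact .inr (h.mem_A.2 ⟨l, mem_top _, e2⟩)
    · exact .inl (h.mem_A.2 ⟨l, mem_top _, e'⟩)
  have h6 := half h (A := A ⊓ (zpowers t ⊔ (⊤ : Subgroup (sIsom B)).map φ)) fun a ha => by
    obtain ⟨l, -, e⟩ := h.mem_A.1 ha.2
    exact ⟨l, e⟩
  have h7 := Subgroup.card_le_of_le (inf_le_inf_right φ.range (inf_le_left :
    A ⊓ (zpowers t ⊔ (⊤ : Subgroup (sIsom B)).map φ) ≤ A))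
  have q2 := h.toMo.two_le
  rw [h.toMo.kk_eq] at h4 ⊢
  have h8 : qn σ ^ 2 ^ 2 = qn σ * qn σ ^ (2 * (2 + 1) / 2) := by norm_num; ring
  have h9 := Nat.mul_le_mul_right (qn σ ^ (2 * (2 + 1) / 2)) q2
  omega

theorem bound (h : Hyp φ t) {A : Subgroup G} (hA : ∀ a ∈ A, a * a = 1) (hle : A ≤ C1 t) :
    Nat.card A ≤ 2 * qn σ ^ (kk E M ^ 2) := by
  rcases dich h hA hle with h1 | h1
  · exact h1
  · obtain ⟨A₀, h2, -, h3⟩ := h.toMod.liftE (A := A ⊓ φ.range) (fun a ha => hA a ha.1) inf_le_right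
    exact (half h h1).trans (Nat.mul_le_mul_left _ (h3 ▸ (h.toMo.j1 h2).1))

end P1a

theorem Hyp.jl (h : Hyp φ t) {A : Subgroup G} (hA : ∀ a ∈ A, a * a = 1) (hle : A ≤ C1 t) :
    Nat.card A ≤ 2 * qn σ ^ (kk E M ^ 2) ∧ (2 * qn σ ^ (kk E M ^ 2) ≤ Nat.card A →
      A ≤ zpowers t ⊔ φ.range → ∃ W, Mx B W ∧ A = zpowers t ⊔ (VW B W).map φ) := by
  refine ⟨bound h hA hle, fun hc hr => ?_⟩
  have h1 : ∀ a ∈ A, ∃ l, a = φ l ∨ a = t * φ l := fun a ha => by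
    obtain ⟨l, -, e⟩ := h.mem_A.1 (MonoidHom.range_eq_map φ ▸ hr ha)
    exact ⟨l, e⟩
  obtain ⟨A₀, h2, h3, h4⟩ := h.toMod.liftE (A := A ⊓ φ.range) (fun a ha => hA a ha.1) inf_le_right
  obtain ⟨W, hW, rfl⟩ := (h.toMo.j1 h2).2 (by have := half h h1; omega)
  have tA : t ∈ A := by
    have h5 := bound h (A := A ⊔ zpowers t) (Comp.sq_sup hA (Comp.sq_zpowers h.t2) fun a ha b hb =>
      (mem_Cs.1 ((Cs_zpowers t).ge (hle ha)) b hb).symm)
      (sup_le hle (zpowers_le.2 (mem_C1.2 rfl)))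
    rw [eq_of_le_of_card_ge (le_sup_left : A ≤ A ⊔ zpowers t) (h5.trans hc)]
    exact mem_sup_right (mem_zpowers t)
  refine ⟨W, hW, le_antisymm (fun a ha => ?_) (sup_le (zpowers_le.2 tA) (h3.le.trans inf_le_left))⟩
  rw [h3]
  obtain ⟨l, rfl | rfl⟩ := h1 a ha
  · exact mem_sup_right ⟨ha, l, rfl⟩
  · exact mul_mem_sup (mem_zpowers t) ⟨(mul_mem_cancel_left tA).1 ha, l, rfl⟩

theorem Hyp.jl' (h : Hyp φ t) (g : G) {A : Subgroup G} (hA : ∀ a ∈ A, a * a = 1)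
    (hle : A ≤ C1 (g * t * g⁻¹)) : Nat.card A < qn σ ^ (kk E M * (kk E M + 1)) := by
  have h1 := bound (h.cx g) hA hle
  have q2 := h.toMo.two_le
  have k3 := h.toMo.k2
  have h2 : 2 ^ 2 ≤ qn σ ^ kk E M :=
    (Nat.pow_le_pow_left q2 2).trans (Nat.pow_le_pow_right (by omega) k3)
  have h3 : 0 < qn σ ^ (kk E M ^ 2) := Nat.pow_pos (by omega)
  rw [mul_add, mul_one, pow_add, ← pow_two]
  nlinarith

theorem Ot_le : Ot φ t ≤ C1 t ⊓ Cs φ.range := Oc_le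

theorem odd_Ot {o : G} (ho : o ∈ Ot φ t) : Odd (orderOf o) :=
  (odd_card_Oc (L := C1 t ⊓ Cs φ.range)).of_dvd_nat (orderOf_dvd_natCard _ ho)

theorem Hyp.Ns_Ot (h : Hyp φ t) : C1 t ≤ Ns (Ot φ t) :=
  le_Ns_Oc (le_Ns_inf le_normalizer (le_Ns_Cs h.cn))

theorem H1.two_mem (h : H1 φ t) {c : G} (hc : c ∈ C1 t ⊓ Cs φ.range) (h2 : Tw c) :
    c ∈ zpowers t := by
  have key : ∀ {c : G}, c ∈ Ot φ t → Comp.Tw c → c = 1 := fun hc h2 =>
    eq_one_of_mem_of_odd h2.isPGroup odd_card_Oc (mem_zpowers _) hc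
  rcases h.dec c hc with h1 | h1
  · exact key h1 h2 ▸ one_mem _
  · obtain ⟨k, hk⟩ := h2
    rw [eq_inv_of_mul_eq_one_right (key h1 ⟨k + 1, by
      rw [(Commute.symm (mem_C1.1 hc.1)).mul_pow, pow_succ, pow_mul c, hk, one_pow, mul_one,
        mul_comm, pow_mul, pow_two, h.t2, one_pow]⟩)]
    exact inv_mem (mem_zpowers t)

theorem H1.mem_Ot (h : H1 φ t) {c : G} (hc : c ∈ C1 t ⊓ Cs φ.range) (ho : Odd (orderOf c)) :
    c ∈ Ot φ t := by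
  refine (h.dec c hc).resolve_right fun h1 => h.t1 (eq_one_of_sq_of_odd h.t2 ?_)
  refine ((odd_Ot h1).mul ho).of_dvd_nat (orderOf_dvd_of_pow_eq_one ?_)
  have := (Commute.symm (mem_C1.1 hc.1)).mul_pow (orderOf (t * c) * orderOf c)
  rw [pow_mul, pow_orderOf_eq_one, one_pow, mul_comm _ (orderOf c), pow_mul c, pow_orderOf_eq_one,
    one_pow, mul_one, mul_comm] at this
  exact this.symm

theorem H1.cQ (h : H1 φ t) {W : Submodule E M} (hW : TotIso B W) (h0 : W ≠ ⊥) {c : G}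
    (h1 : Commute c t) (h2 : c ∈ Cs ((QW B W).map φ)) :
    ∃ v ∈ VW B W, ∃ o ∈ Ot φ t, c = φ v * o ∨ c = t * φ v * o := by
  obtain ⟨v, hv, hc⟩ := h.toMod.cQ hW h0 (h.cn (mem_C1.2 h1)) h2
  have pt : Commute (φ v) t := (h.tc v).symm
  refine ⟨v, hv, ?_⟩
  rcases h.dec _ ⟨mem_C1.2 (pt.inv_left.mul_left h1).eq, hc⟩ with h3 | h3
  · exact ⟨_, h3, Or.inl (by group)⟩
  · exact ⟨_, h3, Or.inr (by rw [← pt.eq, mul_assoc, ← mul_assoc t, h.t2]; group)⟩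

theorem H1.odd_Cs (h : H1 φ t) {K : Subgroup G} (hK : φ.range ≤ K) (hO : Ot φ t ≤ Cs K)
    (ht : t ∈ Ns K) (hn : t ∉ Cs K) : Odd (Nat.card (Cs K)) := by
  by_contra he
  rw [Nat.not_odd_iff_even, even_iff_two_dvd] at he
  obtain ⟨b, hb⟩ := exists_prime_orderOf_dvd_card' 2 he
  have b1 : (b : G) ≠ 1 := fun e => by
    rw [OneMemClass.coe_eq_one.1 e, orderOf_one] at hb; omega
  have b2 : (b : G) * b = 1 := by
    rw [← pow_two, ← hb, ← coe_pow, pow_orderOf_eq_one, coe_one]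
  obtain ⟨c, hc, c1, c2, ct⟩ := Comp.exists_fix_even (Comp.Tw.of_sq h.t2).isPGroup
    (zpowers_le.2 (mem_Ns_Cs ht)) b.2 b1 (Comp.Tw.of_sq b2)
  rw [Cs_zpowers] at ct
  rcases h.toHyp.inv_eq (Cs_anti hK hc) c2 (mem_C1.1 ct) with e | e
  · exact c1 e
  · exact hn (e ▸ hc)

end Cfsg.Lib.SU5
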