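import Cfsg.Agent.SU5.P1a
import Cfsg.Agent.SU5.K2
import Cfsg.Agent.SU5.KIT

/-!
# Standard subgroups of type `U₅(2ⁿ)`: calculus of `Ew`
-/

set_option autoImplicit false
set_option linter.unusedSectionVars false

namespace Cfsg.Lib.SU5

open Subgroup Module Cfsg.Lib.Trans Cfsg.Lib.Gold Cfsg.Lib.Class.Form Cfsg.Lib.Class.FAut
open Cfsg.Lib.Comp (Tw)
open scoped commutatorElement

namespace P4a

section Grp
variable {G : Type*} [Group G]

theorem okill {a o g : G} (ha : a ^ 4 = 1) (h1 : Commute a o) (h2 : Commute g o)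
    (h : g * (a * o) * g⁻¹ = (a * o)⁻¹) (ho : Odd (orderOf o)) : o = 1 := by
  have e := congrArg (· ^ 4) h
  simp only [conj_pow, inv_pow, h1.mul_pow, ha, one_mul] at e
  rw [(h2.pow_right 4).eq, mul_inv_cancel_right, eq_inv_iff_mul_eq_one, ← pow_add] at e
  exact orderOf_eq_one_iff.1 (((Nat.coprime_two_right.2 ho).pow_right 3).eq_one_of_dvd
    (orderOf_dvd_of_pow_eq_one e))

theorem flip {a t z : G} (t2 : t * t = 1) (e : a * t * a⁻¹ = t * z) (hc : Commute z a) :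
    t * a * t⁻¹ = a * z := by
  have e1 : t⁻¹ = t := inv_eq_of_mul_eq_one_right t2
  rw [mul_inv_eq_iff_eq_mul] at e
  rw [e1, mul_assoc, e, ← mul_assoc, ← mul_assoc, t2, one_mul, hc.eq]

theorem cmo {a b : G} (e : a * b * a⁻¹ = b) : Commute a b := mul_inv_eq_iff_eq_mul.1 e

theorem comm_mul {a b p q : G} (h2 : Commute p b) (h3 : Commute q a) (h5 : Commute p q) :
    ⁅a * p, b * q⁆ = ⁅a, b⁆ := by
  have e1 : p * (b * q) * p⁻¹ = b * q := (h2.mul_right h5).mul_inv_cancel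
  have e2 : q * a⁻¹ * q⁻¹ = a⁻¹ := h3.inv_right.mul_inv_cancel
  calc ⁅a * p, b * q⁆ = a * (p * (b * q) * p⁻¹) * a⁻¹ * (b * q)⁻¹ := by
        rw [commutatorElement_def]; group
    _ = a * b * (q * a⁻¹ * q⁻¹) * b⁻¹ := by rw [e1]; group
    _ = ⁅a, b⁆ := by rw [e2, commutatorElement_def]

theorem comm_tw {a b e A C Z : G} (h1 : A * b * A⁻¹ = b * e) (h2 : A * C * A⁻¹ = C * Z)
    (h3 : C * a * C⁻¹ = a * e) (Za : Commute Z a)
    (Zb : Commute Z b) (ZC : Commute Z C) (eZ : Commute e Z) : ⁅a * A, b * C⁆ = ⁅a, b⁆ * Z := by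
  have e1 : C * a⁻¹ * C⁻¹ = e⁻¹ * a⁻¹ := by rw [← mul_inv_rev, ← h3]; group
  calc ⁅a * A, b * C⁆ = a * (A * b * A⁻¹) * (A * C * A⁻¹) * a⁻¹ * C⁻¹ * b⁻¹ := by
        rw [commutatorElement_def]; group
    _ = a * b * e * (C * Z) * a⁻¹ * C⁻¹ * b⁻¹ := by rw [h1, h2]; group
    _ = a * b * e * Z * (C * a⁻¹ * C⁻¹) * b⁻¹ := by rw [← ZC.eq]; group
    _ = a * b * (e * Z * e⁻¹) * a⁻¹ * b⁻¹ := by rw [e1]; group
    _ = a * b * (Z * (a⁻¹ * b⁻¹)) := by rw [eZ.mul_inv_cancel]; group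
    _ = ⁅a, b⁆ * Z := by rw [(Za.inv_right.mul_right Zb.inv_right).eq, commutatorElement_def]; group

theorem inv_comm {a b : G} (a2 : a * a = 1) : a * ⁅a, b⁆ * a⁻¹ = ⁅a, b⁆⁻¹ := by
  have e1 : a⁻¹ = a := inv_eq_of_mul_eq_one_right a2
  rw [commutatorElement_inv, commutatorElement_def, commutatorElement_def, ← mul_assoc, ← mul_assoc,
    ← mul_assoc, a2, one_mul, e1]

end Grp

section
variable {E M : Type*} [Field E] [Finite E] [AddCommGroup M] [Module E M] [FiniteDimensional E M]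
  {σ : E →+* E} {B : M →ₛₗ[σ] M →ₗ[E] E}

theorem i3l (h : Mo B) {u w x : M} (k : I3 B u w x) : I2 B (u + w) x :=
  ⟨k.toI2.add h, k.xx, by simp [k.ux, k.wx]⟩

theorem tEfix (h : Mo B) {u w r : M} (k : I2 B u w) (h1 : B u r = 0) (h2 : B w r = 0) :
    lin (tE B u w) r = r := by rw [h.lin_tE k, h1, h2]; simp

theorem tTfix (h : Mo B) {u r : M} (k : B u u = 0) (h1 : B u r = 0) : lin (tT B u 1) r = r := by
  rw [h.lin_tT k (map_one σ), h1]; simp

end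

end P4a

open P4a

variable {G E M : Type*} [Group G] [Finite G] [Field E] [Finite E] [AddCommGroup M] [Module E M]
  [FiniteDimensional E M] {σ : E →+* E} {B : M →ₛₗ[σ] M →ₗ[E] E} {φ φ' : sIsom B →* G} {t : G}
  {f : M → G}

theorem H3.unit (h : H3 φ t f) {a : E} (ha : σ a * a = 1) (u : M) : f (a • u) = f u := by
  by_cases hu : B u u = 0
  · have := h.addN a 0 1 u hu (by simp [ha])
    rwa [zero_smul, h.f0, mul_one, one_smul] at this
  · rw [h.junk u hu, h.junk]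
    have : B (a • u) (a • u) = σ a * a * B u u := by simp [mul_left_comm, mul_assoc]
    rwa [this, ha, one_mul]

theorem H3.f_fix (h : H3 φ t f) {g : sIsom B} {u : M} (e : lin g u = u) : Commute (φ g) (f u) :=
  cmo (by rw [h.feqv, e])

theorem H3.Ew_comm (h : H3 φ t f) {u w : M} (k : I2 B u w) : Ew f u w = Ew f w u := by
  rw [Ew, Ew, add_comm w, mul_assoc, mul_assoc, (h.com u w k).eq]

theorem H3.Ew_zero (h : H3 φ t f) (u : M) : Ew f u 0 = 1 := by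
  rw [Ew, add_zero, h.f0, mul_one, h.sq]

theorem H3.Ew_zero' (h : H3 φ t f) (u : M) : Ew f 0 u = 1 := by
  rw [Ew, zero_add, h.f0, mul_one, h.sq]

theorem H3.Ew_f (h : H3 φ t f) {u w x : M} (k : I3 B u w x) : Commute (Ew f u w) (f x) :=
  ((h.com _ _ (i3l h.toMo k)).mul_left (h.com _ _ ⟨k.uu, k.xx, k.ux⟩)).mul_left
    (h.com _ _ ⟨k.ww, k.xx, k.wx⟩)

theorem H3.Ew_sq (h : H3 φ t f) {u w : M} (k : I2 B u w) : Ew f u w * Ew f u w = 1 := by
  have h1 := h.com _ _ (i3l h.toMo (⟨k, k.uu, k.uu, h.swap k.uw⟩ : I3 B u w u))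
  have h2 := h.com _ _ (i3l h.toMo (⟨k, k.ww, k.uw, k.ww⟩ : I3 B u w w))
  rw [Ew, ← pow_two, (h2.mul_left (h.com _ _ k)).mul_pow, h1.mul_pow, pow_two, pow_two, pow_two,
    h.sq, h.sq, h.sq, mul_one, mul_one]

theorem H3.bi' (h : H3 φ t f) {u w x : M} (k : I3 B w u x) :
    Ew f (u + x) w = Ew f u w * Ew f x w := by
  have k1 : I2 B w (u + x) := ⟨k.uu, I2.add h.toMo ⟨k.ww, k.xx, k.wx⟩, by simp [k.uw, k.ux]⟩
  rw [← h.Ew_comm k1, h.bi _ _ _ k, h.Ew_comm k.toI2, h.Ew_comm ⟨k.uu, k.xx, k.ux⟩]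

theorem H3.Ew_eqv (h : H3 φ t f) (g : sIsom B) (u w : M) :
    φ g * Ew f u w * (φ g)⁻¹ = Ew f (lin g u) (lin g w) := by
  rw [Ew, Ew, ← map_add, ← h.feqv, ← h.feqv, ← h.feqv]; group

theorem H3.Ew_t (h : H3 φ t f) {u w : M} (k : I2 B u w) :
    Ew f u w * t * (Ew f u w)⁻¹ = t * φ (tE B u w) := by
  have c1 := h.f_fix (tTfix h.toMo k.ww (h.swap k.uw))
  have c2 := h.f_fix (tTfix h.toMo (r := u + w) k.ww (by simp [k.ww, h.swap k.uw]))
  have c3 := h.f_fix (tTfix h.toMo (r := u + w) k.uu (by simp [k.uu, k.uw]))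
  calc Ew f u w * t * (Ew f u w)⁻¹
      = f (u + w) * (f u * (f w * t * (f w)⁻¹) * (f u)⁻¹) * (f (u + w))⁻¹ := by rw [Ew]; group
    _ = f (u + w) * (f u * t * (φ (tT B w 1) * (f u)⁻¹)) * (f (u + w))⁻¹ := by
        rw [h.tf w k.ww]; group
    _ = f (u + w) * (f u * t * (f u)⁻¹) * (φ (tT B w 1) * (f (u + w))⁻¹) := by
        rw [c1.inv_right.eq]; group
    _ = f (u + w) * t * (φ (tT B u 1) * (f (u + w))⁻¹) * φ (tT B w 1) := by
        rw [h.tf u k.uu, c2.inv_right.eq]; group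
    _ = f (u + w) * t * (f (u + w))⁻¹ * φ (tT B u 1) * φ (tT B w 1) := by
        rw [c3.inv_right.eq]; group
    _ = _ := by rw [h.tf _ (k.add h.toMo), h.tE_eq k, map_mul, map_mul]; group

theorem H3.t_f (h : H3 φ t f) {u : M} (hu : B u u = 0) :
    t * f u * t⁻¹ = f u * φ (tT B u 1) :=
  flip h.t2 (h.tf u hu) (h.f_fix (tTfix h.toMo hu hu))

theorem H3.Ew_fix (h : H3 φ t f) {g : sIsom B} {u w : M} (e : lin g u = u) (e' : lin g w = w) :
    Commute (φ g) (Ew f u w) := cmo (by rw [h.Ew_eqv, e, e'])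

theorem H3.t_Ew (h : H3 φ t f) {u w : M} (k : I2 B u w) :
    t * Ew f u w * t⁻¹ = Ew f u w * φ (tE B u w) :=
  flip h.t2 (h.Ew_t k)
    (h.Ew_fix (tEfix h.toMo k k.uu (h.swap k.uw)) (tEfix h.toMo k k.uw k.ww))

theorem H3.Ew_self (h : H3 φ t f) {u : M} (hu : B u u = 0) {a b : E} (e : σ b * b = a + σ a) :
    Ew f (a • u) u = f (b • u) := by
  obtain ⟨c, hc⟩ := h.exists_nm (c := σ (a + 1) * (a + 1) + σ a * a)
    (by simp only [map_add, map_mul, map_one, h.ss]; ring)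
  have e1 := h.addN (a + 1) a c u hu hc.symm
  have e2 := h.addN c 1 b u hu (by
    rw [hc, e, map_add, map_one]; linear_combination (σ a * a + 1) * h.two)
  rw [one_smul] at e2
  rw [add_smul, one_smul] at e1
  rw [Ew, e1, e2]

theorem H3.Ew_cO (h : H3 φ t f) (u w : M) : Ew f u w ∈ Cs (Ot φ t) :=
  mul_mem (mul_mem (h.cO _) (h.cO _)) (h.cO _)

theorem H3.Ew_Ew (h : H3 φ t f) {u w x y : M} (k : I3 B u w x) (k' : I3 B u w y) (e : B x y = 0) :
    Commute (Ew f u w) (Ew f x y) :=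
  ((h.Ew_f ⟨k.toI2, I2.add h.toMo ⟨k.xx, k'.xx, e⟩, by simp [k.ux, k'.ux],
    by simp [k.wx, k'.wx]⟩).mul_right (h.Ew_f k)).mul_right (h.Ew_f k')

end Cfsg.Lib.SU5
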