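import Cfsg.Agent.SU5.Defs

/-!
# The 2-rank of symplectic and orthogonal groups in characteristic two
-/

set_option autoImplicit false
set_option linter.unusedSectionVars false

namespace Cfsg.Lib.SU5

open Subgroup Module

universe u

variable {K : Type*} [Field K] [Finite K]

namespace RK

section
variable {N : Type*} [AddCommGroup N] [Module K N] [FiniteDimensional K N]
  {D : N →ₗ[K] N →ₗ[K] K}

theorem sym (h2 : (2 : K) = 0) (h0 : ∀ x, D x x = 0) (x y : N) : D x y = D y x := by
  have := h0 (x + y)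
  simp only [map_add, LinearMap.add_apply, h0] at this
  linear_combination this - D y x * h2

theorem invol {a : N ≃ₗ[K] N} (e : a * a = 1) (x : N) : a (a x) = x := DFunLike.congr_fun e x

theorem adj {a : N ≃ₗ[K] N} (e : a * a = 1) (hi : ∀ x y, D (a x) (a y) = D x y) (x y : N) :
    D (a x) y = D x (a y) := by rw [← hi x, invol e]

theorem fixed (h2 : (2 : K) = 0) (A : Subgroup (N ≃ₗ[K] N)) (hA : ∀ a ∈ A, a * a = 1) {x : N}
    (x0 : x ≠ 0) : ∃ u : N, u ≠ 0 ∧ ∀ a ∈ A, a u = u := by
  have : Finite N := Module.finite_of_finite K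
  have hP : IsPGroup 2 A := fun a => ⟨1, Subtype.ext (by simpa [pow_two] using hA a a.2)⟩
  have h1 : addOrderOf x = 2 := addOrderOf_eq_prime (by
    rw [two_nsmul, ← two_smul K, h2, zero_smul]) x0
  obtain ⟨v, hv, hv0⟩ := hP.exists_fixed_point_of_prime_dvd_card_of_fixed_point N
    (h1 ▸ addOrderOf_dvd_natCard x) (a := 0) fun g => smul_zero g
  exact ⟨v, hv0.symm, fun g hg => hv ⟨g, hg⟩⟩

theorem fix_bound (h0 : ∀ x y, D x y = D y x) (hn : ∀ x, (∀ y, D x y = 0) → x = 0)
    (A : Subgroup (N ≃ₗ[K] N)) (hA : ∀ a ∈ A, a * a = 1)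
    (hi : ∀ a ∈ A, ∀ x y, D (a x) (a y) = D x y) (C : Submodule K N)
    (hC : ∀ a ∈ A, ∀ x ∈ C, a x = x) : ∃ r, finrank K C + r = finrank K N ∧
      Nat.card A ≤ Nat.card K ^ (r * (r + 1) / 2) := by
  obtain ⟨C', hc⟩ := C.exists_isCompl
  refine ⟨_, Submodule.finrank_add_eq_of_isCompl hc, ?_⟩
  let b := finBasis K C'
  let s : A → Sym2 (Fin (finrank K C')) → K := fun a =>
    Sym2.lift ⟨fun i j => D (a.1 (b i)) (b j), fun i j => (adj (hA a a.2) (hi a a.2) _ _).trans (h0 _ _)⟩
  have hs : Function.Injective s := fun a a' e => by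
    have e1 : (D.comp (a.1 : N →ₗ[K] N)).domRestrict₁₂ C' C' =
        (D.comp (a'.1 : N →ₗ[K] N)).domRestrict₁₂ C' C' :=
      LinearMap.ext_basis b b fun i j => congrFun e s(i, j)
    refine Subtype.ext (LinearEquiv.ext fun x => sub_eq_zero.1 (hn _ fun y => ?_))
    obtain ⟨x, hx, x', hx', rfl⟩ := Submodule.mem_sup.1 (hc.sup_eq_top.ge (Submodule.mem_top (x := x)))
    obtain ⟨y, hy, y', hy', rfl⟩ := Submodule.mem_sup.1 (hc.sup_eq_top.ge (Submodule.mem_top (x := y)))
    have e2 : D (a.1 x') y' = D (a'.1 x') y' :=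
      DFunLike.congr_fun (DFunLike.congr_fun e1 ⟨x', hx'⟩) ⟨y', hy'⟩
    have e3 : D (a.1 x') y = D (a'.1 x') y := by
      rw [adj (hA a a.2) (hi a a.2), adj (hA a' a'.2) (hi a' a'.2), hC a a.2 y hy, hC a' a'.2 y hy]
    simp [hC a a.2 x hx, hC a' a'.2 x hx, e2, e3]
  refine (Nat.card_le_card_of_injective s hs).trans_eq ?_
  rw [Nat.card_fun, Nat.card_eq_fintype_card (α := Sym2 _), Sym2.card, Fintype.card_fin,
    Nat.choose_two_right, Nat.add_sub_cancel, mul_comm]

theorem exists_sqrt (h2 : (2 : K) = 0) (h0 : ∀ x y, D x y = D y x) :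
    ∃ l : N →ₗ[K] K, ∀ x, l x * l x = D x x := by
  have : CharP K 2 := CharTwo.of_one_ne_zero_of_two_eq_zero one_ne_zero h2
  have key : ∀ a : K, (frobeniusEquiv K 2).symm a * (frobeniusEquiv K 2).symm a = a := fun a => by
    rw [← pow_two, frobeniusEquiv_symm_pow_p]
  refine ⟨⟨⟨fun x => (frobeniusEquiv K 2).symm (D x x), fun x y => ?_⟩, fun c x => ?_⟩,
    fun x => key _⟩
  · rw [← map_add]
    congr 1
    simp only [map_add, LinearMap.add_apply, h0 y x]
    linear_combination D x y * h2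
  · simp only [map_smul, LinearMap.smul_apply, smul_eq_mul, map_mul, RingHom.id_apply]
    rw [← mul_assoc, key]

end

theorem alt (h2 : (2 : K) = 0) (n : ℕ) : ∀ {N : Type u} [AddCommGroup N] [Module K N]
    [FiniteDimensional K N] (D : N →ₗ[K] N →ₗ[K] K), finrank K N = n → (∀ x, D x x = 0) →
    (∀ x, (∀ y, D x y = 0) → x = 0) → ∀ A : Subgroup (N ≃ₗ[K] N), (∀ a ∈ A, a * a = 1) →
    (∀ a ∈ A, ∀ x y, D (a x) (a y) = D x y) →
    Even n ∧ Nat.card A ≤ Nat.card K ^ (n / 2 * (n / 2 + 1) / 2) := by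
  induction n using Nat.strong_induction_on with
  | _ n ih =>
  intro N _ _ _ D hd h0 hn A hA hi
  have hK : 0 < Nat.card K := Nat.card_pos
  have : Finite N := Module.finite_of_finite K
  rcases subsingleton_or_nontrivial N with c | c
  · rw [← hd, finrank_zero_of_subsingleton]
    exact ⟨Even.zero, (Finite.card_le_one_iff_subsingleton.2 inferInstance)⟩
  obtain ⟨x₀, x0⟩ := exists_ne (0 : N)
  obtain ⟨u, u0, fu⟩ := fixed h2 A hA x0
  have hs := sym h2 h0
  obtain ⟨f, hf⟩ : ∃ f, D u f = 1 := by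
    by_contra k
    refine u0 (hn u fun y => by_contra fun e => k ⟨(D u y)⁻¹ • y, ?_⟩)
    rw [map_smul, smul_eq_mul, inv_mul_cancel₀ e]
  have hf' : D f u = 1 := hs _ _ ▸ hf
  let Φ : N →ₗ[K] K × K := (D u).prod (D f)
  let U := LinearMap.ker Φ
  have mU : ∀ {x}, x ∈ U ↔ D u x = 0 ∧ D f x = 0 := Prod.ext_iff
  have hU : finrank K U + 2 = n := by
    have := Φ.finrank_range_add_finrank_ker
    rw [LinearMap.range_eq_top.2 fun p => ⟨p.1 • f + p.2 • u, by
      ext <;> simp [Φ, h0, hf, hf']⟩] at this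
    simp only [finrank_top, finrank_prod, finrank_self] at this
    rw [← hd, ← this, add_comm]
  let p : N →ₗ[K] U := (LinearMap.id - (D u).smulRight f - (D f).smulRight u).codRestrict U
    fun x => mU.2 (by simp [h0, hf, hf'])
  have hp : ∀ x, (p x : N) = x - D u x • f - D f x • u := fun _ => rfl
  have pU : ∀ w : U, p w = w := fun w => Subtype.ext (by simp [hp, mU.1 w.2])
  have pu : p u = 0 := Subtype.ext (by simp [hp, h0, hf'])
  have pf : p f = 0 := Subtype.ext (by simp [hp, h0, hf])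
  have au : ∀ a ∈ A, ∀ x, D u (a x) = D u x := fun a ha x => by
    rw [← hi a ha u x, fu a ha]
  have aw : ∀ a ∈ A, ∀ w : U, a w = p (a w) + D f (a w) • u := fun a ha w => by
    simp [hp, au a ha, (mU.1 w.2).1]
  have pm : ∀ a ∈ A, ∀ b ∈ A, ∀ w : U, p (a (p (b w))) = p (a (b w)) := fun a ha b hb w => by
    conv_rhs => rw [aw b hb]
    rw [map_add, map_smul, fu a ha, map_add, map_smul, pu, smul_zero, add_zero]
  let π : A →* (U ≃ₗ[K] U) := MonoidHom.mk' (fun a => LinearEquiv.ofInvolutive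
      (p ∘ₗ (a.1 : N →ₗ[K] N) ∘ₗ U.subtype) fun w =>
        (pm a a.2 a a.2 w).trans (by rw [invol (hA a a.2), pU]))
    fun a b => LinearEquiv.ext fun w => (pm a a.2 b b.2 w).symm
  have hπ : ∀ a w, π a w = p (a.1 w) := fun _ _ => rfl
  let D' := D.domRestrict₁₂ U U
  have n' : ∀ x : U, (∀ y, D' x y = 0) → x = 0 := fun x k => Subtype.ext (hn _ fun y => by
    have : D x (p y) = 0 := k (p y)
    rwa [hp, map_sub, map_sub, map_smul, map_smul, hs x u, hs x f, (mU.1 x.2).1, (mU.1 x.2).2,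
      smul_zero, smul_zero, sub_zero, sub_zero] at this)
  have A' : ∀ a ∈ π.range, a * a = 1 := by
    rintro _ ⟨a, rfl⟩
    rw [← map_mul, show a * a = 1 from Subtype.ext (hA a a.2), map_one]
  have i' : ∀ a ∈ π.range, ∀ x y, D' (a x) (a y) = D' x y := by
    rintro _ ⟨a, rfl⟩ x y
    change D (p (a.1 x)) (p (a.1 y)) = D x y
    rw [← hi a a.2 x y]
    conv_rhs => rw [aw a a.2 x, aw a a.2 y]
    simp [h0, (mU.1 (p _).2).1, hs _ u]
  obtain ⟨⟨d, hd'⟩, h3⟩ := ih _ (by omega) D' rfl (fun x => h0 x) n' π.range A' i'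
  let C : Submodule K U := Submodule.span K (Set.range fun a : π.ker => p (a.1.1 f))
  have af : ∀ a ∈ A, a f = f + p (a f) + D f (a f) • u := fun a ha => by
    rw [hp, au a ha, hf, one_smul]; abel
  have kw : ∀ (a : π.ker) (w : U), a.1.1 w = w + D (p (a.1.1 f)) w • u := fun a w => by
    rw [aw _ a.1.2, ← hπ, show π a.1 = 1 from a.2, ← adj (hA _ a.1.2) (hi _ a.1.2)]
    congr 2
    conv_lhs => rw [af _ a.1.2]
    simp [mU.1 w.2]
  have h4 : Nat.card π.ker ≤ Nat.card K ^ (finrank K C + 1) := by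
    rw [pow_succ, ← Module.natCard_eq_pow_finrank, ← Nat.card_prod]
    refine Nat.card_le_card_of_injective (fun a => ((⟨p (a.1.1 f), Submodule.subset_span ⟨a, rfl⟩⟩ : C),
      D f (a.1.1 f))) fun a b e => Subtype.ext (Subtype.ext (LinearEquiv.ext fun x => ?_))
    have e1 : p (a.1.1 f) = p (b.1.1 f) := congrArg (fun r => r.1.1) e
    have e2 : D f (a.1.1 f) = D f (b.1.1 f) := congrArg Prod.snd e
    rw [show x = p x + D u x • f + D f x • u by rw [hp]; abel]
    simp only [map_add, map_smul, kw, fu _ a.1.2, fu _ b.1.2, e1]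
    rw [af _ a.1.2, af _ b.1.2, e1, e2]
  obtain ⟨r, hr, h5⟩ := fix_bound (D := D') (fun x y => hs x y) n' π.range A' i' C (by
    rintro _ ⟨b, rfl⟩ x hx
    induction hx using Submodule.span_induction with
    | mem x hx =>
      obtain ⟨a, rfl⟩ := hx
      have e : b.1 * a.1.1 = a.1.1 * b.1 := by
        rw [← inv_eq_of_mul_eq_one_right (hA _ (mul_mem b.2 a.1.2)), mul_inv_rev,
          inv_eq_of_mul_eq_one_right (hA _ b.2), inv_eq_of_mul_eq_one_right (hA _ a.1.2)]
      have e1 : b.1 (a.1.1 f) = a.1.1 (b.1 f) := DFunLike.congr_fun e f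
      rw [af _ a.1.2, af _ b.2] at e1
      have e2 := congrArg p e1
      simp only [map_add, map_smul, fu _ a.1.2, fu _ b.2, kw, pu, pU, smul_zero, add_zero] at e2
      rw [hπ]
      exact add_left_cancel (e2.trans (add_comm _ _))
    | zero => exact map_zero _
    | add x y _ _ hx hy => rw [map_add, hx, hy]
    | smul a x _ hx => rw [map_smul, hx])
  refine ⟨⟨d + 1, by omega⟩, ?_⟩
  rw [← card_mul_index π.ker, index_ker, show n / 2 = d + 1 by omega]
  rw [show finrank K U / 2 = d by omega] at h3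
  rcases le_or_gt (finrank K C) d with c | c
  · refine (Nat.mul_le_mul h4 h3).trans ?_
    rw [← pow_add]
    refine Nat.pow_le_pow_right hK ((Nat.le_div_iff_mul_le two_pos).2 ?_)
    have := Nat.div_mul_le_self (d * (d + 1)) 2
    nlinarith
  · refine (Nat.mul_le_mul h4 h5).trans ?_
    rw [← pow_add]
    refine Nat.pow_le_pow_right hK ((Nat.le_div_iff_mul_le two_pos).2 ?_)
    have := Nat.div_mul_le_self (r * (r + 1)) 2
    obtain ⟨s, rfl⟩ : ∃ s, d = r + 1 + s := ⟨d - r - 1, by omega⟩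
    rw [show finrank K C = r + 2 + 2 * s by omega]
    nlinarith

end RK

theorem rank_alt {K N : Type*} [Field K] [Finite K] [AddCommGroup N] [Module K N]
    [FiniteDimensional K N] (h2 : (2 : K) = 0) (D : N →ₗ[K] N →ₗ[K] K) (h0 : ∀ x, D x x = 0)
    (hn : ∀ x, (∀ y, D x y = 0) → x = 0) (A : Subgroup (N ≃ₗ[K] N)) (hA : ∀ a ∈ A, a * a = 1)
    (hi : ∀ a ∈ A, ∀ x y, D (a x) (a y) = D x y) :
    Nat.card A ≤ Nat.card K ^ (finrank K N / 2 * (finrank K N / 2 + 1) / 2) :=
  (RK.alt h2 _ D rfl h0 hn A hA hi).2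

theorem rank_sym {K N : Type*} [Field K] [Finite K] [AddCommGroup N] [Module K N]
    [FiniteDimensional K N] (h2 : (2 : K) = 0) (D : N →ₗ[K] N →ₗ[K] K) (h0 : ∀ x y, D x y = D y x)
    (hn : ∀ x, (∀ y, D x y = 0) → x = 0) (A : Subgroup (N ≃ₗ[K] N)) (hA : ∀ a ∈ A, a * a = 1)
    (hi : ∀ a ∈ A, ∀ x y, D (a x) (a y) = D x y) :
    Nat.card A ≤ Nat.card K ^ (finrank K N / 2 * (finrank K N / 2 + 1) / 2) := by
  have : Finite N := Module.finite_of_finite K
  obtain ⟨l, hl⟩ := RK.exists_sqrt h2 h0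
  obtain ⟨e, he⟩ : ∃ e, D e = l := by
    refine (LinearMap.injective_iff_surjective_of_finrank_eq_finrank
      (Subspace.dual_finrank_eq).symm).1 ((injective_iff_map_eq_zero D).2 fun x hx =>
        hn x fun y => by rw [hx]; rfl) l
  subst he
  have ae : ∀ a ∈ A, ∀ x, D e (a x) = D e x := fun a ha x => by
    have := (hl (a x)).trans ((hi a ha x x).trans (hl x).symm)
    have h3 : (D e (a x) - D e x) ^ 2 = 0 := by
      linear_combination this + (D e x * D e x - D e (a x) * D e x) * h2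
    exact sub_eq_zero.1 (pow_eq_zero_iff two_ne_zero |>.1 h3)
  by_cases c : D e e = 0
  · refine rank_alt h2 (D + (D e).smulRight (D e)) (fun x => ?_) (fun x k => ?_) A hA
      fun a ha x y => by simp [hi a ha, ae a ha]
    · simp only [LinearMap.add_apply, LinearMap.smulRight_apply, LinearMap.smul_apply, smul_eq_mul,
        hl]
      linear_combination D x x * h2
    · have h3 : x + D e x • e = 0 := hn _ fun y => by simpa using k y
      have h4 := congrArg (D e) h3
      simp only [map_add, map_smul, c, smul_zero, add_zero, map_zero] at h4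
      rwa [h4, zero_smul, add_zero] at h3
  have fe : ∀ a ∈ A, a e = e := fun a ha => sub_eq_zero.1 (hn _ fun y => by
    rw [map_sub, LinearMap.sub_apply, RK.adj (hA a ha) (hi a ha), ae a ha, sub_self])
  let U := LinearMap.ker (D e)
  have dec : ∀ x, x - ((D e e)⁻¹ * D e x) • e ∈ U := fun x => by
    rw [LinearMap.mem_ker, map_sub, map_smul, smul_eq_mul]
    field_simp
    ring
  let π : A →* (U ≃ₗ[K] U) := MonoidHom.mk' (fun a => LinearEquiv.ofInvolutive
      ((a.1 : N →ₗ[K] N).restrict fun x hx => (ae a a.2 x).trans hx) fun w =>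
        Subtype.ext (RK.invol (hA a a.2) w)) fun a b => LinearEquiv.ext fun _ => rfl
  have hπ : Function.Injective π := (injective_iff_map_eq_one π).2 fun a k =>
    Subtype.ext (LinearEquiv.ext fun x => by
      have : a.1 (x - ((D e e)⁻¹ * D e x) • e) = x - ((D e e)⁻¹ * D e x) • e :=
        congrArg Subtype.val (DFunLike.congr_fun k (⟨_, dec x⟩ : U))
      rw [map_sub, map_smul, fe a a.2] at this
      exact sub_left_injective this)
  have := rank_alt h2 (D.domRestrict₁₂ U U)
    (fun x => by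
      change D x x = 0
      rw [← hl, show D e x = 0 from x.2, mul_zero])
    (fun x k => Subtype.ext (hn _ fun y => by
      have : D x (y - _ • e) = 0 := k ⟨_, dec y⟩
      rwa [map_sub, map_smul, h0 x e, show D e x = 0 from x.2, smul_zero, sub_zero] at this))
    π.range (by
      rintro _ ⟨a, rfl⟩
      rw [← map_mul, show a * a = 1 from Subtype.ext (hA a a.2), map_one]) (by
      rintro _ ⟨a, rfl⟩ x y
      exact hi a a.2 x y)
  rw [← Nat.card_congr (MonoidHom.ofInjective hπ).toEquiv] at this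
  have h3 := Nat.div_le_div_right (c := 2) (Submodule.finrank_le U)
  exact this.trans (Nat.pow_le_pow_right Nat.card_pos
    (Nat.div_le_div_right (Nat.mul_le_mul h3 (by omega))))

theorem sym_ti {K N : Type*} [Field K] [Finite K] [AddCommGroup N] [Module K N]
    [FiniteDimensional K N] (h2 : (2 : K) = 0) (D : N →ₗ[K] N →ₗ[K] K) (h0 : ∀ x y, D x y = D y x) :
    ∃ x : Fin (finrank K N / 2) → N, LinearIndependent K x ∧ ∀ i j, D (x i) (x j) = 0 := by
  obtain ⟨l, hl⟩ := RK.exists_sqrt h2 h0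
  have : ∀ j ≤ finrank K N / 2, ∃ x : Fin j → N, LinearIndependent K x ∧
      ∀ i j, D (x i) (x j) = 0 := fun j hj => by
    induction j with
    | zero => exact ⟨Fin.elim0, linearIndependent_empty_type, fun i => i.elim0⟩
    | succ j ih =>
      obtain ⟨x, li, hx⟩ := ih (by omega)
      let Φ : N →ₗ[K] (Fin j → K) × K := (LinearMap.pi fun i => D (x i)).prod l
      have h3 := Φ.finrank_range_add_finrank_ker
      have h4 := Submodule.finrank_le (LinearMap.range Φ)
      simp only [finrank_prod, finrank_self, finrank_fin_fun] at h4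
      obtain ⟨y, h5, h6⟩ := SetLike.not_le_iff_exists.1 fun k :
          LinearMap.ker Φ ≤ Submodule.span K (Set.range x) => by
        have := Submodule.finrank_mono k
        rw [finrank_span_eq_card li, Fintype.card_fin] at this
        omega
      have h7 : ∀ i, D (x i) y = 0 := fun i => congrFun (congrArg Prod.fst h5) i
      have h8 : l y = 0 := congrArg Prod.snd h5
      refine ⟨Fin.cons y x, linearIndependent_finCons.2 ⟨li, h6⟩, fun i k => ?_⟩
      induction i using Fin.cases <;> induction k using Fin.cases <;>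
        simp [hx, h7, ← hl, h8, h0 y]
  exact this _ le_rfl

end Cfsg.Lib.SU5
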