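import Cfsg.Agent.SU5.SYa

/-!
# Standard subgroups of type `U_m(2ⁿ)`: the elements with field parts of odd order
-/

set_option autoImplicit false
set_option linter.unusedSectionVars false

namespace Cfsg.Lib.SU5

open Subgroup Module Cfsg.Lib.Trans Cfsg.Lib.Gold Cfsg.Lib.Class.Form Cfsg.Lib.Class.FAut ESa
open Cfsg.Lib.SG2 (Uq Top Pp)
open Cfsg.Lib.Comp (Tw)
open scoped commutatorElement

variable {G E M : Type*} [Group G] [Finite G] [Field E] [Finite E] [AddCommGroup M] [Module E M]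
  [FiniteDimensional E M] {σ : E →+* E} {B : M →ₛₗ[σ] M →ₗ[E] E} {φ φ' : sIsom B →* G} {t : G}
  {X : Subgroup G} {y z : sIsom B →* G} {P : Subgroup G} {U : Subgroup (sIsom B)} {W : Submodule E M}
  {u : M} {γ : (E ≃+* E) →* MulAut (sIsom B)}

theorem ES.mem_KP (h : ES φ t y z) {c : G} : c ∈ KP y z ↔
    ∃ α β, Mp y y c α ∧ Mp z z c β ∧ Odd (orderOf (fa α)) ∧ Odd (orderOf (fa β)) := by
  have m := h.my.toMo
  have o : ∀ α β : MulAut (sIsom B), Odd (orderOf (fa α)) → Odd (orderOf (fa β)) →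
      Odd (orderOf (fa (α * β))) := fun α β ha hb => m.fa_mul α β ▸
    Odd.of_dvd_nat (ha.mul hb) (Commute.orderOf_mul_dvd_mul_orderOf (aut_comm _ _))
  refine ⟨fun hc => ?_, fun hc => subset_closure hc⟩
  induction hc using closure_induction with
  | mem x hx => exact hx
  | one => exact ⟨1, 1, Mp.one, Mp.one, by simp [m.fa_one], by simp [m.fa_one]⟩
  | mul a b _ _ ha hb =>
    obtain ⟨_, _, a1, a2, a3, a4⟩ := ha
    obtain ⟨_, _, b1, b2, b3, b4⟩ := hb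
    exact ⟨_, _, a1.mul b1, a2.mul b2, o _ _ a3 b3, o _ _ a4 b4⟩
  | inv a _ ha =>
    obtain ⟨_, _, a1, a2, a3, a4⟩ := ha
    exact ⟨_, _, a1.inv, a2.inv, by rwa [m.fa_inv, orderOf_inv], by rwa [m.fa_inv, orderOf_inv]⟩

theorem ES.G0_le_KP (h : ES φ t y z) : y.range ⊔ z.range ≤ KP y z := fun c hc => by
  obtain ⟨a, b, rfl⟩ := h.dec0 hc
  exact h.mem_KP.2 ⟨_, _, (h.mp_mul a b).1, (h.mp_mul a b).2, by simp [h.my.toMo.fa_conj],
    by simp [h.my.toMo.fa_conj]⟩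

theorem FS0.KP_inf (h : FS0 φ t y z X) (k : Fr B U W u γ) (hP : PC t y z U γ P) :
    KP y z ⊓ P = ⊥ := le_bot_iff.1 fun p ⟨h1, hp⟩ => by
  obtain ⟨α, β, a1, a2, a3, a4⟩ := h.toES.mem_KP.1 h1
  obtain ⟨τ₁, τ₂, b1, b2, e | e⟩ := hP.pure p hp
  · rw [← e.1.uniq h.my a1, k.faγ] at a3
    rw [← e.2.uniq h.mz a2, k.faγ] at a4
    exact hP.inj p hp (by rwa [tw_odd b1 a3, tw_odd b2 a4] at e)
  · exact absurd (mem_Ns_iff.2 a1.cj_range) (h.toES.swp_not e)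

theorem FS0.KP_sup (h : FS0 φ t y z X) (hP : PC t y z U γ P) :
    KP y z ⊔ P = Ns (y.range ⊔ z.range) := by
  have m := h.my.toMo
  refine le_antisymm (sup_le (fun c hc => ?_) (le_sup_right.trans hP.le_M)) fun d hd => ?_
  · obtain ⟨α, β, a1, a2, -⟩ := h.toES.mem_KP.1 hc
    exact mem_Ns_sup (mem_Ns_iff.2 a1.cj_range) (mem_Ns_iff.2 a2.cj_range)
  obtain ⟨s, hs, c, hc, -, rfl⟩ := (hP.syl.mono hP.le_M le_top).exists_mul_eq (C := KP y z)
    (fun d hd ho => by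
      have ho := Nat.coprime_two_right.1 ho
      have o : ∀ {y : sIsom B →* G}, Mod y → ∀ α, Mp y y d α → Odd (orderOf (fa α)) := fun hy α e =>
        ho.of_dvd_nat (orderOf_dvd_of_pow_eq_one (by
          rw [← m.fa_pow, (e.pow _).uniq hy (pow_orderOf_eq_one d ▸ Mp.one), m.fa_one]))
      obtain ⟨j, hj⟩ := ho
      obtain ⟨e1, e2⟩ := (h.toES.perm hd).resolve_right fun e => h.toES.ne (by
        have := pow_mem (Comp.sq_mem_of_idx h.toES.idx hd) (j + 1)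
        rw [← pow_two, ← pow_mul, show 2 * (j + 1) = orderOf d + 1 by omega, pow_succ,
          pow_orderOf_eq_one, one_mul] at this
        exact (mem_Ns_iff.1 this).symm.trans e.1)
      obtain ⟨α, a⟩ := h.my.ind e1
      obtain ⟨β, b⟩ := h.mz.ind e2
      exact h.toES.mem_KP.2 ⟨α, β, a, b, o h.my α a, o h.mz β b⟩) hd
  exact mul_mem (sup_le_sup_right ((sup_le_sup (map_le_range _ _) (map_le_range _ _)).trans
    h.toES.G0_le_KP) P hs) (mem_sup_left hc)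

theorem Mo.fa_cj (h : Mo B) (α β : MulAut (sIsom B)) : fa (α * β * α⁻¹) = fa β := by
  rw [h.fa_mul, h.fa_mul, h.fa_inv, aut_comm (fa α), mul_inv_cancel_right]

theorem FS0.KP_Ns (h : FS0 φ t y z X) : Ns (y.range ⊔ z.range) ≤ Ns (KP y z) := fun c hc =>
  mem_normalizer_of_cj_le (cj_le_iff.2 fun d hd => by
    have m := h.my.toMo
    obtain ⟨α, β, a1, a2, a3, a4⟩ := h.toES.mem_KP.1 hd
    rcases h.toES.perm hc with ⟨e1, e2⟩ | ⟨e1, e2⟩
    · obtain ⟨α', a⟩ := h.my.ind e1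
      obtain ⟨β', b⟩ := h.mz.ind e2
      exact h.toES.mem_KP.2 ⟨_, _, (a.mul a1).mul a.inv, (b.mul a2).mul b.inv, by rwa [m.fa_cj],
        by rwa [m.fa_cj]⟩
    · obtain ⟨α', a⟩ := h.my.exists_Mp h.mz e1
      obtain ⟨β', b⟩ := h.mz.exists_Mp h.my e2
      exact h.toES.mem_KP.2 ⟨_, _, (b.mul a2).mul b.inv, (a.mul a1).mul a.inv, by rwa [m.fa_cj],
        by rwa [m.fa_cj]⟩)

theorem Mo.tw_fa (h : Mo B) {α : MulAut (sIsom B)} (k : Tw α) : Tw (fa α) :=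
  k.imp fun _ e => by rw [← h.fa_pow, e, h.fa_one]

theorem FS0.KP_le (h : FS0 φ t y z X) : KP y z ≤ X := fun c hc => by
  have m := h.my.toMo
  obtain ⟨k, _, ⟨j, rfl⟩, e⟩ := Nat.exists_eq_two_pow_mul_odd (orderOf_pos c).ne'
  have h2 : Tw (c ^ (2 * j + 1)) := ⟨k, by rw [← pow_mul, mul_comm, ← e, pow_orderOf_eq_one]⟩
  obtain ⟨α, β, a1, a2, a3, a4⟩ := h.toES.mem_KP.1 (pow_mem hc (2 * j + 1))
  have := h.le (h.toES.lin2 a1 a2 (tw_odd (m.tw_fa (a1.tw h.my h2)) a3)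
    (tw_odd (m.tw_fa (a2.tw h.mz h2)) a4) h2)
  rw [pow_succ, pow_mul, pow_two] at this
  exact (mul_mem_cancel_left (pow_mem (Comp.sq_mem_of_idx (R := ⊤)
    (fun _ _ _ _ ha hb => h.top.ef_idx h.t2 ha hb) trivial) j)).1 this

end Cfsg.Lib.SU5
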